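import Cfsg.Agent.Lib.S3Simple.Four.Plane
import Cfsg.Agent.Lib.HallNumbers.Sufficient
import Cfsg.Agent.Lib.GoldschmidtS3.Unitary
import Cfsg.Agent.S0205
import Cfsg.Agent.S0486
import Cfsg.Agent.S0516
import Cfsg.Agent.S2755
import Cfsg.Agent.S3188

/-!
Section 6.3: the conclusion.

Blueprint: `blueprint/S3Free.md`, 6.3.
-/

set_option autoImplicit false
set_option linter.unusedSectionVars false
set_option linter.style.haveILetI false

namespace CfsgLib.S3Simple

open Cfsg CfsgLib.Comp CfsgLib.AfterFT.CoreSep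

universe u

variable {L : Type u} [Group L] [Finite L]

namespace FourHyp

variable {S : Sylow 2 L} {A : Subgroup L} (H : FourHyp S A)
include H

/-- The centraliser of a non-identity element of `A` is solvable when `S = A`. -/
theorem solvable_cc_of_eq (hSA : (S : Subgroup L) = A) {t : L} (ht : t ∈ A) (ht1 : t ≠ 1) :
    Group.IsSolvable ↥(cc t) := by
  haveI : Fact (Nat.Prime 2) := ⟨Nat.prime_two⟩
  set z : ↥(cc t) := ⟨t, mem_cc.mpr rfl⟩ with hz
  set Z := Subgroup.zpowers z with hZ
  haveI hZn : Z.Normal := ⟨fun y hy g => by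
    obtain ⟨k, rfl⟩ := Subgroup.mem_zpowers_iff.mp hy
    have hc : Commute g z := Subtype.ext (mem_cc.mp g.2)
    rw [(hc.zpow_right k).eq, mul_inv_cancel_right]
    exact Subgroup.zpow_mem_zpowers z k⟩
  have hZ2 : Nat.card Z = 2 := by
    rw [hZ, Nat.card_zpowers, ← Subgroup.orderOf_coe]
    exact H.closed.orderOf_eq_two ht ht1
  have hidx : ¬ 2 ∣ (S : Subgroup L).index := S.not_dvd_index
  haveI : Group.IsSolvable (↥(cc t) ⧸ Z) := by
    refine CfsgLib.HallNumbers.solvable_of_not_four fun h4 => hidx ?_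
    have h8 : 8 ∣ Nat.card ↥(cc t) := by
      rw [Z.card_eq_card_quotient_mul_card_subgroup, hZ2]
      obtain ⟨k, hk⟩ := h4
      exact ⟨k, by rw [hk]; ring⟩
    have h8' : 4 * 2 ∣ Nat.card ↥(S : Subgroup L) * (S : Subgroup L).index := by
      rw [(S : Subgroup L).card_mul_index]
      exact (show 4 * 2 = 8 from rfl) ▸ h8.trans (Subgroup.card_subgroup_dvd_card _)
    rw [hSA] at h8' ⊢
    rw [H.card] at h8'
    exact Nat.dvd_of_mul_dvd_mul_left (by norm_num) h8'
  haveI : IsMulCommutative Z := Subgroup.zpowers_isMulCommutative z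
  exact solvable_of_ker_le_range Z.subtype (QuotientGroup.mk' Z) (by rw [QuotientGroup.ker_mk', Subgroup.range_subtype])

/-- The Sylow subgroup is not `A` itself. -/
theorem false_of_eq (hSA : (S : Subgroup L) = A) : False := by
  haveI : Fact (Nat.Prime 2) := ⟨Nat.prime_two⟩
  haveI := H.hyp.simple
  have hab : IsMulCommutative ↥(S : Subgroup L) := by
    rw [hSA]; exact ⟨⟨fun x y => Subtype.ext (H.comm x.2 y.2)⟩⟩
  have hC : ∀ t : L, orderOf t = 2 → Group.IsSolvable ↥(Subgroup.centralizer ({t} : Set L)) := by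
    intro t ht
    -- conjugate `t` into `A`
    have htp : IsPGroup 2 (Subgroup.zpowers t) := IsPGroup.of_card (n := 1) (by rw [Nat.card_zpowers, ht, pow_one])
    obtain ⟨P, hP⟩ := htp.exists_le_sylow
    obtain ⟨g, hg⟩ := MulAction.exists_smul_eq L P S
    have htA : g * t * g⁻¹ ∈ A := by
      rw [← hSA, ← hg, Sylow.coe_subgroup_smul]
      exact Subgroup.smul_mem_pointwise_smul t (MulAut.conj g) _ (hP (Subgroup.mem_zpowers t))
    have ht1 : g * t * g⁻¹ ≠ 1 := fun e => by
      rw [conj_eq_one_iff.mp e, orderOf_one] at ht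
      exact absurd ht (by norm_num)
    haveI := H.solvable_cc_of_eq hSA htA ht1
    let f : ↥(Subgroup.centralizer ({t} : Set L)) →* ↥(cc (g * t * g⁻¹)) :=
      ((MulAut.conj g).toMonoidHom.comp (Subgroup.centralizer ({t} : Set L)).subtype).codRestrict _ fun y =>
        mem_cc.mpr (by
          have hy : (y : L) * t = t * y := mem_cc.mp y.2
          show g * (y : L) * g⁻¹ * (g * t * g⁻¹) = g * t * g⁻¹ * (g * (y : L) * g⁻¹)
          calc g * (y : L) * g⁻¹ * (g * t * g⁻¹) = g * ((y : L) * t) * g⁻¹ := by group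
            _ = g * (t * (y : L)) * g⁻¹ := by rw [hy]
            _ = g * t * g⁻¹ * (g * (y : L) * g⁻¹) := by group)
    exact solvable_of_solvable_injective (f := f) fun y y' e =>
      Subtype.ext ((MulAut.conj g).injective (congrArg Subtype.val e))
  rcases Cfsg.Agent.S3188.result S hab hC with hs | ⟨F, i1, i2, hF, N, hN, ⟨eN⟩, hcent⟩
  · exact H.hyp.nonabelian ⟨⟨fun x y => IsSimpleGroup.comm_iff_isSolvable.mpr hs x y⟩⟩
  have hcore : oddCore L = ⊥ := by
    rcases (inferInstance : (pPrimeCore 2 L).Normal).eq_bot_or_eq_top with h | h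
    · exact h
    · exfalso
      haveI : Group.IsSolvable L := Cfsg.Agent.S0205.result (by
        have := card_pPrimeCore_coprime (G := L) 2
        rw [h, Subgroup.card_top] at this
        exact Nat.coprime_two_right.mp this)
      exact H.hyp.nonabelian ⟨⟨fun x y => IsSimpleGroup.comm_iff_isSolvable.mpr inferInstance x y⟩⟩
  let q : L ⧸ oddCore L ≃* L := (QuotientGroup.quotientMulEquivOfEq hcore).trans QuotientGroup.quotientBot
  have hN1 : N ≠ ⊥ := fun e => by
    haveI : Subsingleton N := e ▸ inferInstance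
    haveI := eN.symm.toEquiv.subsingleton
    have h5 := GoldschmidtS3.psl_card (F := F)
    rw [Nat.card_of_subsingleton (1 : Matrix.ProjectiveSpecialLinearGroup (Fin 2) F), mul_one] at h5
    have hq : 2 ≤ Fintype.card F := Fintype.one_lt_card
    have hg : Nat.gcd 2 (Fintype.card F - 1) ≤ 2 := Nat.gcd_le_left _ (by norm_num)
    have : 2 * 3 ≤ Fintype.card F * (Fintype.card F ^ 2 - 1) :=
      Nat.mul_le_mul hq (by have := Nat.pow_le_pow_left hq 2; omega)
    omega
  haveI : IsSimpleGroup (L ⧸ oddCore L) := q.isSimpleGroup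
  have hNtop : N = ⊤ := hN.eq_bot_or_eq_top.resolve_left hN1
  let eL : L ≃* Matrix.ProjectiveSpecialLinearGroup (Fin 2) F :=
    q.symm.trans (Subgroup.topEquiv.symm.trans ((MulEquiv.subgroupCongr hNtop.symm).trans eN))
  rcases hF with ⟨h8, h5⟩ | ⟨n, hn, hc⟩
  · exact H.hyp.not_listed ((Cfsg.Agent.S2755.result (G := L)
      (Or.inr (Or.inr (Or.inr (Or.inr (Or.inl ⟨F, i1, i2, Fintype.card F, rfl, h5, h8, ⟨eL⟩⟩)))))).2.mp H.hyp.free)
  · exact H.hyp.free (GoldschmidtS3.involves_congr eL.symm (GoldschmidtS3.psl_even (by omega : n ≠ 0) hc).2)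

/-- The situation of 6.3 is impossible. -/
theorem false : False := by
  classical
  haveI : Fact (Nat.Prime 2) := ⟨Nat.prime_two⟩
  haveI := H.hyp.simple
  by_cases hout : ∃ x ∈ (S : Subgroup L), x * x = 1 ∧ x ∉ A
  · exact H.false_of_outside hout
  push Not at hout
  by_cases hSA : (S : Subgroup L) = A
  · exact H.false_of_eq hSA
  have hne : ¬ (S : Subgroup L) ≤ A := fun h => hSA (le_antisymm h H.le_S)
  have hrank : PRankLE 2 2 L := by
    intro W hW hW2
    have hWp : IsPGroup 2 W := fun w => ⟨1, Subtype.ext (by rw [pow_one]; exact hW2 w w.2)⟩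
    obtain ⟨P, hP⟩ := hWp.exists_le_sylow
    obtain ⟨g, hg⟩ := MulAction.exists_smul_eq L P S
    have hmem : ∀ w ∈ W, g * w * g⁻¹ ∈ A := fun w hw => hout _ (by
      rw [← hg, Sylow.coe_subgroup_smul]
      exact Subgroup.smul_mem_pointwise_smul w (MulAut.conj g) _ (hP hw)) (by
      rw [show g * w * g⁻¹ * (g * w * g⁻¹) = g * (w * w) * g⁻¹ by group, ← pow_two, hW2 w hw, mul_one, mul_inv_cancel])
    show Nat.card W ≤ 2 ^ 2
    rw [show (2 : ℕ) ^ 2 = Nat.card A from H.card.symm]
    exact Nat.card_le_card_of_injective (fun w : W => (⟨g * w * g⁻¹, hmem w w.2⟩ : A))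
      fun w w' e => Subtype.ext (mul_left_cancel (mul_right_cancel (congrArg Subtype.val e)))
  have hout' : ∀ s : ↥(S : Subgroup L), s * s = 1 → (s : L) ∈ A := fun s h => hout s s.2 (congrArg Subtype.val h)
  haveI : Fintype (GaloisField 2 4) := Fintype.ofFinite _
  have hF16 : Fintype.card (GaloisField 2 4) = 16 := by
    rw [← Nat.card_eq_fintype_card, GaloisField.card 2 4 (by norm_num)]; norm_num
  obtain ⟨P⟩ := (inferInstance : Nonempty (Sylow 2 (Cfsg.PSU 3 (GaloisField 2 4) 4)))
  rcases Cfsg.Agent.S0516.result H.hyp.nonabelian hrank S hF16 P with ⟨n, -, ⟨e⟩⟩ | hq | hw | hU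
  · refine hne fun s hs => ?_
    have hsr : ∀ i : ZMod n, ((e.symm (DihedralGroup.sr i) : ↥(S : Subgroup L)) : L) ∈ A := fun i => hout' _ (by
      rw [← map_mul, DihedralGroup.sr_mul_sr, sub_self, ← DihedralGroup.one_def, map_one])
    have hall : ∀ x : DihedralGroup n, ((e.symm x : ↥(S : Subgroup L)) : L) ∈ A := by
      rintro (i | i)
      · rw [show DihedralGroup.r i = DihedralGroup.sr 0 * DihedralGroup.sr i by
          rw [DihedralGroup.sr_mul_sr, sub_zero], map_mul]
        exact mul_mem (hsr 0) (hsr i)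
      · exact hsr i
    simpa using hall (e ⟨s, hs⟩)
  · obtain ⟨n, hn, -, x, y, hx, hy, hyx⟩ := hq
    have hy2 : y * y = 1 := by
      rw [← pow_two]; exact orderOf_dvd_iff_pow_eq_one.mp (dvd_of_eq hy)
    have hyA := hout' y hy2
    have hk : (2 : ℕ) ^ (n - 1) - 1 + 1 = 2 ^ (n - 1) := Nat.sub_add_cancel (Nat.one_le_two_pow)
    have hy2x : y * x ^ 2 * (y * x ^ 2) = 1 := by
      have hyi : y⁻¹ = y := inv_eq_of_mul_eq_one_right hy2
      calc y * x ^ 2 * (y * x ^ 2) = (y * x * y⁻¹) ^ 2 * x ^ 2 := by rw [conj_pow, hyi]; group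
        _ = (x ^ (2 ^ (n - 1) - 1 + 1)) ^ 2 := by
          rw [hyx, ← ((Commute.refl x).pow_left _).mul_pow, ← pow_succ]
        _ = 1 := by
          rw [hk, ← pow_mul, ← pow_succ, Nat.sub_add_cancel (by omega)]
          exact orderOf_dvd_iff_pow_eq_one.mp (dvd_of_eq hx)
    have hxA : ((x ^ 2 : ↥(S : Subgroup L)) : L) ∈ A := by
      have h := mul_mem hyA (hout' _ hy2x)
      rwa [Subgroup.coe_mul, ← mul_assoc, ← Subgroup.coe_mul, hy2, Subgroup.coe_one, one_mul] at h
    have h4 : orderOf x ∣ 4 := orderOf_dvd_of_pow_eq_one (Subtype.ext (by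
      have := H.sq hxA
      rw [← Subgroup.coe_mul, ← pow_add] at this
      exact this))
    rw [hx] at h4
    have := Nat.le_of_dvd (by norm_num) ((pow_dvd_pow 2 hn).trans h4)
    norm_num at this
  · obtain ⟨n, hn, -, x, y, z, hx, -, hdisj, hz, hzx⟩ := hw
    have hzA := hout' z (by rw [← pow_two]; exact orderOf_dvd_iff_pow_eq_one.mp (dvd_of_eq hz))
    have hzx' : z * x = x * z := Subtype.ext (H.central x x.2 z hzA).symm
    rw [hzx', mul_inv_cancel_right] at hzx
    rw [← hzx, inf_idem, Subgroup.zpowers_eq_bot] at hdisj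
    rw [hdisj, orderOf_one] at hx
    have := Nat.pow_le_pow_right (show 2 > 0 by norm_num) hn
    omega
  · obtain ⟨eU⟩ := Cfsg.Agent.S0486.result hF16 S P hU
    refine H.hyp.free (GoldschmidtS3.involves_congr eU.symm ?_)
    exact (GoldschmidtS3.psu_facts (F := GaloisField 2 4) (n := 2) (by rw [hF16]; norm_num)).2

end FourHyp

end CfsgLib.S3Simple
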