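import Cfsg.Agent.Lib.S3Simple.Four.Setup
import Cfsg.Agent.Lib.ClassSizesPSL2.Split
import Cfsg.Agent.S1163

/-!
The component of a blocked element: it is `L₂(3^(2n+1))`, the image of `A` is one of its Sylow 2-subgroups, and the
2-elements of the centraliser of `x` induce inner automorphisms on it.

Blueprint: `blueprint/S3Free.md`, 6.3.
-/

set_option autoImplicit false
set_option linter.unusedSectionVars false
set_option linter.style.haveILetI false

namespace CfsgLib.S3Simple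

open Cfsg CfsgLib.Comp CfsgLib.AfterFT.CoreSep

universe u

theorem suzuki_not_three {K : Type u} [Group K] [Finite K] (h : Lie.IsoSuzuki K) : ¬ 3 ∣ Nat.card K := by
  obtain ⟨F, i1, i2, m, hm, hc, ⟨e⟩⟩ := h
  rw [Nat.card_congr e.toEquiv, (Cfsg.Agent.S1163.result hm hc).1]
  set Q := 2 ^ (2 * m + 1) with hQ
  have hQ3 : Q % 3 = 2 := by rw [hQ, pow_succ, pow_mul, Nat.mul_mod, Nat.pow_mod]; norm_num
  have e2 : Q ^ 2 % 3 = 1 := by rw [Nat.pow_mod, hQ3]
  intro hd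
  have h2 : (Q - 1) % 3 = 1 := by omega
  have h4 : (Q ^ 2 + 1) % 3 = 2 := by omega
  rcases (Nat.Prime.dvd_mul Nat.prime_three).mp hd with q | q
  · rcases (Nat.Prime.dvd_mul Nat.prime_three).mp q with q' | q' <;> omega
  · omega

variable {L : Type u} [Group L] [Finite L]

/-- What is known about the component of a blocked element `x`. -/
structure BlockData (S : Sylow 2 L) (A : Subgroup L) (x : L) (E : Subgroup (qq x)) : Prop where
  comp : IsComponent E
  le : A ≤ cc x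
  inner : ∀ a ∈ A, ∀ h : a ∈ cc x, ff x ⟨a, h⟩ ∈ E
  faithful : ∀ a ∈ A, ∀ h : a ∈ cc x, ff x ⟨a, h⟩ ∈ Subgroup.centralizer (E : Set (qq x)) → a = 1
  center : Subgroup.center ↥E = ⊥
  model : ∃ (F : Type) (_ : Field F) (_ : Fintype F) (n : ℕ), 1 ≤ n ∧ Fintype.card F = 3 ^ (2 * n + 1) ∧
    Nonempty (↥E ≃* Matrix.ProjectiveSpecialLinearGroup (Fin 2) F)
  sylow : ∀ P : Subgroup ↥E, IsPGroup 2 P → Nat.card P ≤ 4
  trans : ∃ k ∈ Subgroup.normalizer (A : Set L), k * x = x * k ∧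
    ∀ v ∈ A, v ≠ 1 → ∀ w ∈ A, w ≠ 1 → ∃ i : ℕ, k ^ i * v * (k ^ i)⁻¹ = w
  normal : ∀ g : ↥(cc x), (∃ j, orderOf (g : L) = 2 ^ j) → ff x g ∈ Subgroup.normalizer (E : Set (qq x))
  split : ∀ g ∈ (S : Subgroup L), ∀ hg : g ∈ cc x, ∃ a ∈ A, ∃ ha : a ∈ cc x,
    ff x ⟨a, ha⟩ * ff x ⟨g, hg⟩ ∈ Subgroup.centralizer (E : Set (qq x))

namespace FourHyp

variable {S : Sylow 2 L} {A : Subgroup L} (H : FourHyp S A)
include H

theorem ff_injective {x : L} {a b : L} (ha : a ∈ A) (hb : b ∈ A) (h : a ∈ cc x) (h' : b ∈ cc x)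
    (e : ff x ⟨a, h⟩ = ff x ⟨b, h'⟩) : a = b := by
  have h1 := (QuotientGroup.eq (s := pPrimeCore 2 ↥(cc x))).mp e
  have hodd : Odd (orderOf ((⟨a, h⟩ : ↥(cc x))⁻¹ * ⟨b, h'⟩)) := Odd.of_dvd_nat
    (Nat.coprime_two_right.mp (card_pPrimeCore_coprime 2)) (Subgroup.orderOf_dvd_natCard _ h1)
  rw [← Subgroup.orderOf_coe] at hodd
  by_contra hne
  refine (Nat.not_odd_iff_even.mpr even_two) (H.closed.orderOf_eq_two (a := a⁻¹ * b)
    (mul_mem (inv_mem ha) hb) (fun e => hne (inv_mul_eq_one.mp e)) ▸ hodd)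

/-- The structure of the component of a blocked element. -/
theorem blockData {x : L} (hxS : x ∈ (S : Subgroup L)) (hx1 : x ≠ 1) (hb : BlockedAt A x) :
    ∃ E, BlockData S A x E := by
  classical
  haveI : Fact (Nat.Prime 2) := ⟨Nat.prime_two⟩
  obtain ⟨E, hE, a0, ha0, ha0x, hnot⟩ := hb
  have hAx : A ≤ cc x := H.le_cc fun a ha => (H.central x hxS a ha).symm
  obtain ⟨T, hT⟩ := ((S.2.to_le inf_le_left : IsPGroup 2 ↥((S : Subgroup L) ⊓ cc x)).comap_subtype
    (K := cc x)).exists_le_sylow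
  have hAT : A.subgroupOf (cc x) ≤ (T : Subgroup ↥(cc x)) := fun a ha => hT ⟨H.le_S ha, a.2⟩
  have hM : Ctx (qq x) := H.hyp.ctxSub (H.cc_ne_top hx1)
  set T' := T.mapSurjective (QuotientGroup.mk'_surjective (pPrimeCore 2 ↥(cc x))) with hT'
  set A' := (A.subgroupOf (cc x)).map (ff x) with hA'
  have hC : Closed T' A' := H.closed.bar hAx T hAT
  have hne : ¬ A' ≤ Subgroup.centralizer (E : Set (qq x)) := fun h => hnot (h ⟨⟨a0, ha0x⟩, ha0, rfl⟩)
  obtain ⟨V, k, hV⟩ := hM.exists_compBlock hC hE hne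
  have hA'card : Nat.card A' = 4 := by
    rw [← H.card]
    refine (Nat.card_eq_of_bijective (fun a : A => (⟨ff x ⟨a, hAx a.2⟩, ⟨_, a.2, rfl⟩⟩ : A')) ⟨?_, ?_⟩).symm
    · intro a b e
      exact Subtype.ext (H.ff_injective a.2 b.2 _ _ (congrArg Subtype.val e))
    · rintro ⟨_, a, ha, rfl⟩
      exact ⟨⟨a, ha⟩, rfl⟩
  have hVA : V = A' := Subgroup.eq_of_le_of_card_ge (hV.V_le.trans inf_le_left) (by rw [hA'card]; exact hV.four_le)
  have hAE : A' ≤ E := hVA ▸ hV.V_le.trans inf_le_right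
  have hD : A' ⊓ Subgroup.centralizer (E : Set (qq x)) = ⊥ := by
    have h := hV.disjoint
    rwa [hVA, inf_eq_left.mpr inf_le_left] at h
  have h3 : 3 ∣ Nat.card (↥E ⧸ Subgroup.center ↥E) := by
    rcases hV.size with ⟨-, h⟩ | ⟨h, -⟩
    · exact h
    · rw [hVA, hA'card] at h; omega
  have hsim := component_isSimple hE
  have hl := hM.comp_listed hE
  have hfour : ∀ Q : Sylow 2 (↥E ⧸ Subgroup.center ↥E), Nat.card Q = 4 :=
    ((suzuki_or_three hl).resolve_left fun hs => suzuki_not_three hs h3).2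
  -- the centre is a 2-group inside the Sylow subgroup
  obtain ⟨P, hP⟩ := CfsgLib.CharPLocal.exists_sylow_subnormal T' hE.1
  have hmemP : ∀ e : ↥E, e ∈ (P : Subgroup ↥E) ↔ (e : qq x) ∈ (T' : Subgroup (qq x)) := fun e => by
    rw [← Subgroup.mem_map_iff_mem E.subtype_injective, hP]
    exact ⟨fun h => h.1, fun h => ⟨h, e.2⟩⟩
  have hZT : ∀ z ∈ Subgroup.center ↥E, (z : qq x) ∈ (T' : Subgroup (qq x)) := by
    intro z hz
    haveI : Group.IsNilpotent ((Subgroup.center ↥E).map E.subtype : Subgroup (qq x)) := nilpotent_of_comm (by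
      rintro _ ⟨a, ha, rfl⟩ _ ⟨b, -, rfl⟩
      exact congrArg Subtype.val ((Subgroup.mem_center_iff.mp ha b).symm))
    have hsn : ((Subgroup.center ↥E).map E.subtype : Subgroup (qq x)).IsSubnormal :=
      (inferInstance : (Subgroup.center ↥E).Normal).isSubnormal.trans' hE.1
    have h := isSubnormal_nilpotent_le_fitting hsn inferInstance
    rw [fitting_eq_pCore Nat.prime_two hM.core] at h
    exact CfsgLib.AfterFT.CoreSep.pCore_two_le_sylow T' (h ⟨z, hz, rfl⟩)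
  let π := QuotientGroup.mk' (Subgroup.center ↥E)
  -- the Sylow subgroup is `A' Z(E)`
  have hPmul : ∀ e ∈ (P : Subgroup ↥E), ∃ a : ↥E, (a : qq x) ∈ A' ∧ a⁻¹ * e ∈ Subgroup.center ↥E := by
    let PQ := P.mapSurjective (QuotientGroup.mk'_surjective (Subgroup.center ↥E))
    let f : A' → (PQ : Subgroup (↥E ⧸ Subgroup.center ↥E)) := fun a =>
      ⟨π ⟨a, hAE a.2⟩, ⟨_, (hmemP _).mpr (hC.le a.2), rfl⟩⟩
    have hf : Function.Bijective f := by
      rw [Nat.bijective_iff_injective_and_card]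
      refine ⟨fun a b e => ?_, by rw [hA'card, hfour PQ]⟩
      have h1 := (QuotientGroup.eq (s := Subgroup.center ↥E)).mp (congrArg Subtype.val e)
      have h2 : (a : qq x)⁻¹ * b ∈ A' ⊓ Subgroup.centralizer (E : Set (qq x)) :=
        ⟨A'.mul_mem (A'.inv_mem a.2) b.2, fun y hy =>
          congrArg Subtype.val (Subgroup.mem_center_iff.mp h1 ⟨y, hy⟩)⟩
      rw [hD, Subgroup.mem_bot] at h2
      exact Subtype.ext (inv_mul_eq_one.mp h2)
    intro e he
    obtain ⟨a, ha⟩ := hf.2 ⟨π e, ⟨e, he, rfl⟩⟩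
    exact ⟨⟨a, hAE a.2⟩, a.2, (QuotientGroup.eq (s := Subgroup.center ↥E)).mp (congrArg Subtype.val ha)⟩
  have hPab : ∀ u ∈ (P : Subgroup ↥E), ∀ v ∈ (P : Subgroup ↥E), u * v = v * u := by
    intro u hu v hv
    obtain ⟨a, ha, hau⟩ := hPmul u hu
    obtain ⟨b, hb, hbv⟩ := hPmul v hv
    have hab : a * b = b * a := Subtype.ext (hC.comm ha hb)
    have hz := fun g => Subgroup.mem_center_iff.mp hau g
    have hw := fun g => Subgroup.mem_center_iff.mp hbv g
    calc u * v = a * (a⁻¹ * u) * (b * (b⁻¹ * v)) := by group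
      _ = a * b * ((a⁻¹ * u) * (b⁻¹ * v)) := by rw [mul_assoc a, ← mul_assoc (a⁻¹ * u), ← hz b]; group
      _ = b * a * ((b⁻¹ * v) * (a⁻¹ * u)) := by rw [hab, hz (b⁻¹ * v)]
      _ = b * (b⁻¹ * v) * (a * (a⁻¹ * u)) := by rw [mul_assoc b, ← mul_assoc a, hw a]; group
      _ = v * u := by group
  have hZ : Subgroup.center ↥E = ⊥ := by
    haveI : Group.IsPerfect ↥E := hE.2.1
    have hb := CfsgLib.CsPSL.commutator_inf_center_eq_bot (G := ↥E) fun r hr R z hz hzR => by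
      by_cases hr2 : r = 2
      · subst hr2
        obtain ⟨g, hg⟩ := MulAction.exists_smul_eq ↥E P R
        have hcomm : ∀ u ∈ (R : Subgroup ↥E), ∀ v ∈ (R : Subgroup ↥E), u * v = v * u := by
          intro u hu v hv
          rw [← hg, Sylow.coe_subgroup_smul, Subgroup.mem_pointwise_smul_iff_inv_smul_mem] at hu hv
          have h := hPab _ hu _ hv
          rw [← smul_mul', ← smul_mul'] at h
          exact MulAction.injective (MulAut.conj g)⁻¹ h
        have h0 : ⁅(R : Subgroup ↥E), (R : Subgroup ↥E)⁆ = ⊥ := by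
          rw [Subgroup.commutator_eq_bot_iff_le_centralizer]
          exact fun u hu v hv => hcomm v hv u hu
        exact Subgroup.mem_bot.mp (h0 ▸ hzR)
      · haveI : Fact r.Prime := ⟨hr⟩
        have hz2 : z ∈ (P : Subgroup ↥E) := (hmemP z).mpr (hZT z hz)
        have hzr : z ∈ (R : Subgroup ↥E) := Subgroup.commutator_le_self _ hzR
        exact Subgroup.mem_bot.mp ((disjoint_iff.mp (IsPGroup.disjoint_of_ne 2 r (Ne.symm hr2) _ _ P.2 R.2)) ▸
          Subgroup.mem_inf.mpr ⟨hz2, hzr⟩)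
    rwa [Group.isPerfect_def.mp ‹Group.IsPerfect ↥E›, top_inf_eq] at hb
  let eE : ↥E ≃* ↥E ⧸ Subgroup.center ↥E :=
    (QuotientGroup.quotientBot (G := ↥E)).symm.trans (QuotientGroup.quotientMulEquivOfEq hZ.symm)
  have hsyl : ∀ W : Subgroup ↥E, IsPGroup 2 W → Nat.card W ≤ 4 := by
    intro W hW
    obtain ⟨Q, hQ⟩ := (hW.map eE.toMonoidHom).exists_le_sylow
    rw [← hfour Q, ← Subgroup.card_map_of_injective (f := eE.toMonoidHom) eE.injective]
    exact Subgroup.card_le_of_le hQ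
  have hnormal : ∀ g : ↥(cc x), (∃ j, orderOf (g : L) = 2 ^ j) → ff x g ∈ Subgroup.normalizer (E : Set (qq x)) := by
    rintro g ⟨j, hj⟩
    obtain ⟨i, -, hi⟩ := (Nat.dvd_prime_pow Nat.prime_two).mp
      (show orderOf (ff x g) ∣ 2 ^ j by rw [← hj, Subgroup.orderOf_coe]; exact orderOf_map_dvd _ g)
    exact hM.three_normalizes hE h3 hi
  refine ⟨E, hE, hAx, fun a ha h => hAE ⟨⟨a, h⟩, ha, rfl⟩, ?_, hZ, ?_, hsyl, ?_, hnormal, ?_⟩
  · intro a ha h hc
    have h1 : ff x ⟨a, h⟩ ∈ A' ⊓ Subgroup.centralizer (E : Set (qq x)) := ⟨⟨⟨a, h⟩, ha, rfl⟩, hc⟩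
    rw [hD, Subgroup.mem_bot] at h1
    exact H.ff_injective ha (one_mem A) h (one_mem _)
      (h1.trans (map_one (ff x)).symm)
  · rcases listed_model hl with ⟨F, i1, i2, m, hm, hc, ⟨e⟩⟩ | ⟨F, i1, i2, m, D, ⟨e⟩⟩
    · exact absurd h3 (suzuki_not_three ⟨F, i1, i2, m, hm, hc, ⟨e.trans (Suzuki.lieEquiv hc hm)⟩⟩)
    · exact ⟨F, i1, i2, m, D.1, D.2, ⟨eE.trans e⟩⟩
  · -- a lift of `k` normalising `A`
    obtain ⟨g, hg⟩ := QuotientGroup.mk'_surjective (pPrimeCore 2 ↥(cc x)) k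
    have hp : IsPGroup 2 (A.subgroupOf (cc x)) := H.isPGroup.comap_subtype
    obtain ⟨c, hc, hce⟩ := CfsgLib.Comp.exists_centralizing_lift hp g (by
      show ff x g ∈ _
      rw [hg]; exact hV.k_norm)
    have hcA : (c : L) ∈ Subgroup.normalizer (A : Set L) := by
      refine CfsgLib.Bender.TwoClosed.mem_normalizer_of_conj fun a ha => ?_
      exact (Subgroup.mem_normalizer_iff.mp hc ⟨a, hAx ha⟩).mp ha
    refine ⟨c, hcA, mem_cc.mp c.2, fun v hv hv1 w hw hw1 => ?_⟩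
    have hne' : ∀ u (hu : u ∈ A), u ≠ 1 → ff x ⟨u, hAx hu⟩ ≠ 1 := fun u hu hu1 e =>
      hu1 (H.ff_injective hu (one_mem A) _ (one_mem _) (e.trans (map_one (ff x)).symm))
    obtain ⟨i, hi⟩ := hV.trans _ (hVA.symm ▸ ⟨⟨v, hAx hv⟩, hv, rfl⟩) (hne' v hv hv1) _
      (hVA.symm ▸ ⟨⟨w, hAx hw⟩, hw, rfl⟩) (hne' w hw hw1)
    refine ⟨i, ?_⟩
    have hmem : (c : L) ^ i * v * ((c : L) ^ i)⁻¹ ∈ A :=
      (Subgroup.mem_normalizer_iff.mp (pow_mem hcA i) v).mp hv
    refine H.ff_injective hmem hw (hAx hmem) (hAx hw) (Eq.trans ?_ hi)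
    rw [show (⟨(c : L) ^ i * v * ((c : L) ^ i)⁻¹, hAx hmem⟩ : ↥(cc x)) = c ^ i * ⟨v, hAx hv⟩ * (c ^ i)⁻¹ from
      Subtype.ext (by simp), map_mul, map_mul, map_inv, map_pow, hce, hg]
  · intro g hgS hgx
    set γ := ff x ⟨g, hgx⟩ with hγ
    obtain ⟨j, hj⟩ := S.2 ⟨g, hgS⟩
    have hgp : g ^ 2 ^ j = 1 := congrArg Subtype.val hj
    obtain ⟨i, -, hi⟩ := (Nat.dvd_prime_pow Nat.prime_two).mp (orderOf_dvd_of_pow_eq_one hgp)
    have hγN : γ ∈ Subgroup.normalizer (E : Set (qq x)) := hnormal ⟨g, hgx⟩ ⟨i, hi⟩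
    obtain ⟨h1, h2⟩ := hM.actQ_range E
    obtain ⟨i', -, hi'⟩ := (Nat.dvd_prime_pow Nat.prime_two).mp
      (show orderOf (actQ E ⟨γ, hγN⟩) ∣ 2 ^ j from orderOf_dvd_of_pow_eq_one (by
        rw [← map_pow, show (⟨γ, hγN⟩ : Subgroup.normalizer (E : Set (qq x))) ^ 2 ^ j = 1 from Subtype.ext (by
          show γ ^ 2 ^ j = 1
          exact (map_pow (ff x) ⟨g, hgx⟩ _).symm.trans ((congrArg (ff x)
            (show (⟨g, hgx⟩ : ↥(cc x)) ^ 2 ^ j = 1 from Subtype.ext hgp)).trans (map_one _))), map_one]))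
    obtain ⟨q, hq⟩ := inner_of_two hl _ h1 h2 (φ := actQ E ⟨γ, hγN⟩) ⟨_, rfl⟩ hi'
    obtain ⟨e, rfl⟩ := QuotientGroup.mk'_surjective (Subgroup.center ↥E) q
    set δ := (e : qq x)⁻¹ * γ with hδ
    have hδN : δ ∈ Subgroup.normalizer (E : Set (qq x)) :=
      mul_mem (inv_mem (Subgroup.le_normalizer e.2)) hγN
    have hδc : δ ∈ Subgroup.centralizer (E : Set (qq x)) := by
      refine centralizes_of_actQ hE hδN ?_
      have he : actQ E ⟨(e : qq x), Subgroup.le_normalizer e.2⟩ = MulAut.conj (QuotientGroup.mk' _ e) := by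
        refine MulEquiv.ext fun r => ?_
        obtain ⟨d, rfl⟩ := QuotientGroup.mk'_surjective _ r
        rw [actQ_apply, MulAut.conj_apply, ← map_inv, ← map_mul, ← map_mul]
        rfl
      rw [show (⟨δ, hδN⟩ : Subgroup.normalizer (E : Set (qq x))) =
        ⟨(e : qq x), Subgroup.le_normalizer e.2⟩⁻¹ * ⟨γ, hγN⟩ from Subtype.ext rfl, map_mul, map_inv, he, hq,
        inv_mul_cancel]
    -- `e` centralises the Sylow subgroup `A'` of `E`, so lies in it
    have heA : ∀ a ∈ A', (e : qq x) * a = a * e := by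
      rintro _ ⟨a, ha, rfl⟩
      have hga : γ * ff x a = ff x a * γ := by
        rw [hγ, ← map_mul, ← map_mul]
        exact congrArg _ (Subtype.ext (H.central g hgS a ha))
      have hda : δ * ff x a = ff x a * δ := (hδc _ (hAE ⟨a, ha, rfl⟩)).symm
      have he' : (e : qq x) = γ * δ⁻¹ := by rw [hδ]; group
      rw [he', mul_assoc, ((Commute.inv_left (hda : Commute δ (ff x a))) : _ = _), ← mul_assoc, hga, mul_assoc]
    have heAE : (e : qq x) ∈ A' := by
      have hn : IsPGroup 2 (Subgroup.zpowers e) := ?_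
      · let W : Subgroup ↥E := A'.subgroupOf E ⊔ Subgroup.zpowers e
        have hWp : IsPGroup 2 W := by
          refine (H.isPGroup.comap_subtype.map (ff x)).comap_subtype.to_sup_of_normal_left' hn
            (Subgroup.zpowers_le.mpr ?_)
          refine CfsgLib.Bender.TwoClosed.mem_normalizer_of_conj fun a ha => ?_
          have := heA _ ha
          show (e * a * e⁻¹ : ↥E) ∈ A'.subgroupOf E
          rw [show e * a = a * e from Subtype.ext this, mul_inv_cancel_right]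
          exact ha
        have h4 : Nat.card (A'.subgroupOf E) = 4 := by
          rw [Nat.card_congr (Subgroup.subgroupOfEquivOfLe hAE).toEquiv, hA'card]
        have := Subgroup.eq_of_le_of_card_ge (le_sup_left : A'.subgroupOf E ≤ W) (by rw [h4]; exact hsyl W hWp)
        exact (this ▸ Subgroup.mem_sup_right (Subgroup.mem_zpowers e) : e ∈ A'.subgroupOf E)
      · haveI : IsSimpleGroup (↥E ⧸ Subgroup.center ↥E) := hsim
        have hord : orderOf (QuotientGroup.mk' (Subgroup.center ↥E) e) ∣ 2 ^ i' := by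
          rw [← hi', ← hq]
          refine (orderOf_injective _ ?_ _).symm.dvd
          rw [← MonoidHom.ker_eq_bot_iff]
          refine ((inferInstance : (MulAut.conj (G := ↥E ⧸ Subgroup.center ↥E)).ker.Normal).eq_bot_or_eq_top).resolve_right
            fun h => component_not_comm hE ⟨⟨fun c d => ?_⟩⟩
          have := DFunLike.congr_fun (MonoidHom.mem_ker.mp (h ▸ Subgroup.mem_top c)) d
          rwa [MulAut.conj_apply, MulAut.one_apply, mul_inv_eq_iff_eq_mul] at this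
        rw [show QuotientGroup.mk' (Subgroup.center ↥E) e = eE e from rfl, MulEquiv.orderOf_eq] at hord
        obtain ⟨l, -, hl'⟩ := (Nat.dvd_prime_pow Nat.prime_two).mp hord
        exact IsPGroup.of_card (n := l) (by rw [Nat.card_zpowers, hl'])
    obtain ⟨a, ha, hae⟩ := heAE
    refine ⟨(a : L)⁻¹, A.inv_mem ha, (cc x).inv_mem a.2, ?_⟩
    show ff x (a⁻¹) * γ ∈ _
    rw [map_inv, hae]
    exact hδc

end FourHyp

end CfsgLib.S3Simple
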