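import Cfsg.Agent.Lib.S3Simple.Basic
import Cfsg.Agent.Lib.S3Simple.Component
import Cfsg.Agent.Lib.S3Free.EGroup
import Cfsg.Agent.Lib.S3Free.Gen
import Cfsg.Agent.Lib.StrongFusion.Sections
import Cfsg.Agent.Lib.Comp.CoreBalance

/-!
Section 6.3: the hypotheses, and what the four-group `A` does in the proper subgroups that contain it.

Blueprint: `blueprint/S3Free.md`, 6.3.
-/

set_option autoImplicit false
set_option linter.unusedSectionVars false
set_option linter.style.haveILetI false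

namespace CfsgLib.S3Simple

open Cfsg CfsgLib.Comp CfsgLib.AfterFT.CoreSep

universe u

variable {L : Type u} [Group L] [Finite L]

/-- `C(x)/O` has a component that is not centralised by the image of `A`. -/
def BlockedAt (A : Subgroup L) (x : L) : Prop :=
  ∃ E : Subgroup (qq x), IsComponent E ∧
    ∃ a ∈ A, ∃ h : a ∈ cc x, ff x ⟨a, h⟩ ∉ Subgroup.centralizer (E : Set (qq x))

/-- The situation of 6.3. -/
structure FourHyp (S : Sylow 2 L) (A : Subgroup L) : Prop where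
  hyp : Hyp L
  closed : Closed S A
  irred : Irred A
  card : Nat.card A = 4
  central : ∀ s ∈ (S : Subgroup L), ∀ a ∈ A, s * a = a * s
  center : ∀ z ∈ (S : Subgroup L), z * z = 1 → (∀ s ∈ (S : Subgroup L), z * s = s * z) → z ∈ A
  blocked : ∀ d ∈ (S : Subgroup L), d * d = 1 → d ∉ A → ∃ c ∈ A, BlockedAt A (d * c)

theorem listed_iso : ∀ (Y Z : Type u) [Group Y] [Group Z], Nonempty (Y ≃* Z) →
    IsSuzukiOrPSL2OddPowerThree Y → IsSuzukiOrPSL2OddPowerThree Z := by
  intro Y Z _ _ ⟨e⟩ h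
  rcases h with ⟨F, i1, i2, m, hm, hc, ⟨e'⟩⟩ | ⟨F, i1, i2, n, hc, ⟨e'⟩⟩
  · exact Or.inl ⟨F, i1, i2, m, hm, hc, ⟨e.symm.trans e'⟩⟩
  · exact Or.inr ⟨F, i1, i2, n, hc, ⟨e.symm.trans e'⟩⟩

/-- The reduced form of a proper subgroup. -/
theorem Hyp.ctxSub (h : Hyp L) {H : Subgroup L} (hH : H ≠ ⊤) : Ctx (↥H ⧸ pPrimeCore 2 ↥H) where
  core := pPrimeCore_quotient_eq_bot 2
  free := fun hi => h.free (S3Free.involves_of_sub
    (S3Free.involves_of_hom _ (QuotientGroup.mk'_surjective _) hi))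
  listed := S3Free.EGrp.compK_of_surjective listed_iso _ (QuotientGroup.mk'_surjective _) (h.proper H hH)

/-- The image of `A` in the reduced form of a proper subgroup is strongly closed in a Sylow 2-subgroup. -/
theorem Closed.bar {S : Sylow 2 L} {A : Subgroup L} (hA : Closed S A) {H : Subgroup L} (hAH : A ≤ H)
    (T : Sylow 2 ↥H) (hAT : A.subgroupOf H ≤ (T : Subgroup ↥H)) :
    Closed (T.mapSurjective (QuotientGroup.mk'_surjective (pPrimeCore 2 ↥H)))
      ((A.subgroupOf H).map (QuotientGroup.mk' (pPrimeCore 2 ↥H))) := by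
  haveI : Fact (Nat.Prime 2) := ⟨Nat.prime_two⟩
  have hel : ∀ a ∈ A, ∀ b ∈ A, a * b = b * a := fun a ha b hb => hA.comm ha hb
  have hT : IsStronglyClosed (A.subgroupOf H) (T : Subgroup ↥H) := by
    refine ⟨hAT, fun a ha g hg => ?_⟩
    obtain ⟨P, hP⟩ := (T.2.map H.subtype).exists_le_sylow
    obtain ⟨y, hy⟩ := MulAction.exists_smul_eq L P S
    have hconj : ∀ x ∈ (P : Subgroup L), y * x * y⁻¹ ∈ (S : Subgroup L) := fun x hx => by
      rw [← hy, Sylow.coe_subgroup_smul]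
      exact Subgroup.smul_mem_pointwise_smul x (MulAut.conj y) _ hx
    have hsc : ∀ b ∈ A, y * b * y⁻¹ ∈ A := fun b hb =>
      hA.closed.2 b hb y (hconj b (hP ⟨⟨b, hAH hb⟩, hAT hb, rfl⟩))
    have hfull : ∀ w ∈ A, y⁻¹ * w * y ∈ A := fun w hw => by
      have hmap : A.map (MulAut.conj y).toMonoidHom = A := Subgroup.eq_of_le_of_card_ge
        (by rintro _ ⟨b, hb, rfl⟩; exact hsc b hb)
        (Subgroup.card_map_of_injective (MulAut.conj y).injective).ge
      obtain ⟨b, hb, he⟩ : w ∈ A.map (MulAut.conj y).toMonoidHom := by rw [hmap]; exact hw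
      rw [← he]
      show y⁻¹ * (y * b * y⁻¹) * y ∈ A
      rwa [show y⁻¹ * (y * b * y⁻¹) * y = b by group]
    have h1 : y * (g * a * g⁻¹ : ↥H) * y⁻¹ ∈ (S : Subgroup L) := hconj _ (hP ⟨_, hg, rfl⟩)
    have h2 : (y * (g : L) * y⁻¹) * (y * a * y⁻¹) * (y * (g : L) * y⁻¹)⁻¹ ∈ A :=
      hA.closed.2 _ (hsc a ha) _ (by
        rw [show (y * (g : L) * y⁻¹) * (y * a * y⁻¹) * (y * (g : L) * y⁻¹)⁻¹ =
          y * ((g : L) * a * (g : L)⁻¹) * y⁻¹ by group]
        exact h1)
    have h3 := hfull _ h2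
    rw [show y⁻¹ * ((y * (g : L) * y⁻¹) * (y * a * y⁻¹) * (y * (g : L) * y⁻¹)⁻¹) * y =
      (g : L) * a * (g : L)⁻¹ by group] at h3
    exact h3
  constructor
  · exact Subgroup.map_mono hAT
  · refine ⟨⟨⟨?_⟩⟩, ?_⟩
    · rintro ⟨_, x, hx, rfl⟩ ⟨_, y, hy, rfl⟩
      exact Subtype.ext (by
        show _ * _ = _ * _
        rw [← map_mul, ← map_mul, show x * y = y * x from Subtype.ext (hel _ hx _ hy)])
    · rintro _ ⟨x, hx, rfl⟩
      rw [← map_pow, show x ^ 2 = 1 from Subtype.ext (hA.elem.2 _ hx), map_one]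
  · obtain ⟨a, ha, ha1⟩ : ∃ a ∈ A, a ≠ 1 := A.bot_or_exists_ne_one.resolve_left hA.ne_bot
    intro e
    have h1 : QuotientGroup.mk' (pPrimeCore 2 ↥H) ⟨a, hAH ha⟩ = 1 :=
      Subgroup.mem_bot.mp (e ▸ Subgroup.mem_map_of_mem _ (show (⟨a, hAH ha⟩ : ↥H) ∈ A.subgroupOf H from ha))
    have hodd : Odd (orderOf (⟨a, hAH ha⟩ : ↥H)) := Odd.of_dvd_nat
      (Nat.coprime_two_right.mp (card_pPrimeCore_coprime 2))
      (Subgroup.orderOf_dvd_natCard _ ((QuotientGroup.eq_one_iff _).mp h1))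
    rw [Subgroup.orderOf_mk, hA.orderOf_eq_two ha ha1] at hodd
    exact (Nat.not_odd_iff_even.mpr even_two) hodd
  · exact StrongFusion.isStronglyClosed_map_quotient T _ (card_pPrimeCore_coprime 2) hT

namespace FourHyp

variable {S : Sylow 2 L} {A : Subgroup L} (H : FourHyp S A)
include H

theorem le_S : A ≤ (S : Subgroup L) := H.closed.le

theorem comm {a b : L} (ha : a ∈ A) (hb : b ∈ A) : a * b = b * a := H.closed.comm ha hb

theorem sq {a : L} (ha : a ∈ A) : a * a = 1 := H.closed.sq ha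

theorem isPGroup : IsPGroup 2 A := S.2.to_le H.le_S

theorem S_le_centralizer : (S : Subgroup L) ≤ Subgroup.centralizer (A : Set L) := fun s hs a ha =>
  (H.central s hs a ha).symm

/-- The conjugates of a non-identity element of `A` under `N(A)` are all of them. -/
theorem exists_map {a b : L} (ha : a ∈ A) (ha1 : a ≠ 1) (hb : b ∈ A) (hb1 : b ≠ 1) :
    ∃ n ∈ Subgroup.normalizer (A : Set L), n * a * n⁻¹ = b := by
  classical
  set N := Subgroup.normalizer (A : Set L)
  letI : MulAction N L := MulAction.compHom L ((MulAut.conj (G := L)).comp N.subtype)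
  have hsmul : ∀ (n : N) (x : L), n • x = (n : L) * x * (n : L)⁻¹ := fun _ _ => rfl
  set O := MulAction.orbit N a
  have hsub : O ⊆ (A : Set L) \ {1} := by
    rintro _ ⟨n, rfl⟩
    refine ⟨(Subgroup.mem_normalizer_iff.mp n.2 a).mp ha, fun e => ha1 ?_⟩
    rw [Set.mem_singleton_iff] at e
    exact conj_eq_one_iff.mp e
  have hA3 : ((A : Set L) \ {1}).ncard = 3 := by
    rw [Set.ncard_sdiff_singleton_of_mem (one_mem A), ← Nat.card_coe_set_eq]
    show Nat.card A - 1 = 3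
    rw [H.card]
  suffices hO3 : O.ncard = 3 by
    have hfull : O = (A : Set L) \ {1} := Set.eq_of_subset_of_ncard_le hsub (by rw [hA3, hO3]) (Set.toFinite _)
    obtain ⟨n, hn⟩ : b ∈ O := hfull ▸ ⟨hb, hb1⟩
    exact ⟨n, n.2, hn⟩
  have hle : O.ncard ≤ 3 := (Set.ncard_le_ncard hsub).trans hA3.le
  have hodd : ¬ 2 ∣ O.ncard := by
    rw [← MulAction.index_stabilizer]
    intro hd
    have hle' : (S : Subgroup L).subgroupOf N ≤ MulAction.stabilizer N a := fun s hs => by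
      show s • a = a
      rw [hsmul]
      exact mul_inv_eq_iff_eq_mul.mpr (H.central (s : L) hs a ha)
    refine S.not_dvd_index (hd.trans ((Subgroup.index_dvd_of_le hle').trans ?_))
    exact Subgroup.relIndex_dvd_index_of_le H.closed.le_normalizer
  have hne1 : O.ncard ≠ 1 := by
    intro h1
    obtain ⟨w, hw⟩ := Set.ncard_eq_one.mp h1
    have hfix : ∀ g ∈ N, g * a * g⁻¹ = a := fun g hg => by
      have h2 : (⟨g, hg⟩ : N) • a ∈ O := MulAction.mem_orbit _ _
      have h3 : a ∈ O := MulAction.mem_orbit_self _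
      rw [hw, Set.mem_singleton_iff] at h2 h3
      exact h2.trans h3.symm
    rcases H.irred (Subgroup.zpowers a) (Subgroup.zpowers_le.mpr ha) (fun g hg x hx => by
      obtain ⟨k, rfl⟩ := Subgroup.mem_zpowers_iff.mp hx
      rw [← conj_zpow, hfix g hg]
      exact Subgroup.zpow_mem_zpowers a k) with h | h
    · exact ha1 (Subgroup.zpowers_eq_bot.mp h)
    · have := H.card
      rw [← h, Nat.card_zpowers, H.closed.orderOf_eq_two ha ha1] at this
      omega
  interval_cases h : O.ncard <;> first | rfl | omega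

/-- Such an element can be chosen normalising `S`. -/
theorem exists_map_S {a b : L} (ha : a ∈ A) (ha1 : a ≠ 1) (hb : b ∈ A) (hb1 : b ≠ 1) :
    ∃ n ∈ Subgroup.normalizer (A : Set L), n ∈ Subgroup.normalizer ((S : Subgroup L) : Set L) ∧ n * a * n⁻¹ = b := by
  haveI : Fact (Nat.Prime 2) := ⟨Nat.prime_two⟩
  obtain ⟨n, hn, he⟩ := H.exists_map ha ha1 hb hb1
  set C := Subgroup.centralizer (A : Set L) with hC
  have hSC : (S : Subgroup L) ≤ C := H.S_le_centralizer
  have hSnC : (S : Subgroup L).map (MulAut.conj n).toMonoidHom ≤ C := by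
    rintro _ ⟨s, hs, rfl⟩ x hx
    show x * (n * s * n⁻¹) = n * s * n⁻¹ * x
    have h := hSC hs (n⁻¹ * x * n) ((Subgroup.mem_normalizer_iff''.mp hn x).mp hx)
    calc x * (n * s * n⁻¹) = n * ((n⁻¹ * x * n) * s) * n⁻¹ := by group
      _ = n * (s * (n⁻¹ * x * n)) * n⁻¹ := by rw [h]
      _ = n * s * n⁻¹ * x := by group
  let T : Sylow 2 C := S.subtype hSC
  have hp : IsPGroup 2 (((S : Subgroup L).map (MulAut.conj n).toMonoidHom).subgroupOf C) :=
    (S.2.map _).comap_subtype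
  obtain ⟨U, hU⟩ := hp.exists_le_sylow
  obtain ⟨c, hc⟩ := MulAction.exists_smul_eq C U T
  refine ⟨(c : L) * n, mul_mem (CfsgLib.Bender.TwoClosed.mem_normalizer_of_conj fun x hx => by
    rw [← c.2 x hx, mul_inv_cancel_right]; exact hx) hn,
    CfsgLib.Bender.TwoClosed.mem_normalizer_of_conj fun s hs => ?_, ?_⟩
  · have h2 : (⟨n * s * n⁻¹, hSnC ⟨s, hs, rfl⟩⟩ : C) ∈ (U : Subgroup C) := hU ⟨s, hs, rfl⟩
    have h3 := Subgroup.smul_mem_pointwise_smul _ (MulAut.conj c) _ h2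
    rw [← Sylow.coe_subgroup_smul, hc] at h3
    show (c : L) * n * s * ((c : L) * n)⁻¹ ∈ (S : Subgroup L)
    rw [show (c : L) * n * s * ((c : L) * n)⁻¹ = c * (n * s * n⁻¹) * (c : L)⁻¹ by group]
    exact h3
  · calc (c : L) * n * a * ((c : L) * n)⁻¹ = c * (n * a * n⁻¹) * (c : L)⁻¹ := by group
      _ = b := by rw [he, ← c.2 b hb, mul_inv_cancel_right]

theorem cc_ne_top {x : L} (hx : x ≠ 1) : cc x ≠ ⊤ := fun e => by
  haveI := H.hyp.simple
  have hc : x ∈ Subgroup.center L := Subgroup.mem_center_iff.mpr fun g =>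
    mem_cc.mp (e ▸ Subgroup.mem_top g)
  rcases (inferInstance : (Subgroup.center L).Normal).eq_bot_or_eq_top with h | h
  · exact hx (Subgroup.mem_bot.mp (h ▸ hc))
  · exact H.hyp.nonabelian ⟨⟨fun a b => (Subgroup.mem_center_iff.mp (h ▸ Subgroup.mem_top a) b).symm⟩⟩

theorem le_cc {x : L} (hx : ∀ a ∈ A, a * x = x * a) : A ≤ cc x := fun a ha => mem_cc.mpr (hx a ha)

end FourHyp

end CfsgLib.S3Simple
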