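import Cfsg.Agent.Lib.S3Simple.Four.NoComponent
import Cfsg.Agent.Lib.AfterFT.OutSmallRank
import Cfsg.Agent.Lib.MacWilliams.Main
import Cfsg.Agent.Lib.BaseTwo.Action

/-!
The consequences of the absence of components: `O₂` is self-centralising, and 27 does not divide the order.

Blueprint: `blueprint/S3Free.md`, 6.3.
-/

set_option autoImplicit false
set_option linter.unusedSectionVars false
set_option linter.style.haveILetI false

namespace CfsgLib.S3Simple

open Cfsg CfsgLib.Comp CfsgLib.AfterFT.CoreSep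
open scoped commutatorElement

universe u

variable {M : Type u} [Group M] [Finite M] {T : Sylow 2 M} {B : Subgroup M}

namespace CentreHyp

variable (H : CentreHyp T B)
include H

theorem centralizer_pCore_le : Subgroup.centralizer (pCore 2 M : Set M) ≤ pCore 2 M := by
  have hl : layer M = ⊥ := sSup_eq_bot.mpr fun E hE => absurd hE (H.no_component E)
  have h := centralizer_fitting_le_iff.mpr hl
  rwa [fitting_eq_pCore Nat.prime_two H.ctx.core] at h

/-- An element of odd order centralising `O₂` is trivial. -/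
theorem eq_one_of_odd {x : M} (hx : Odd (orderOf x)) (hc : x ∈ Subgroup.centralizer (pCore 2 M : Set M)) : x = 1 := by
  obtain ⟨k, hk⟩ := isPGroup_pCore (G := M) 2 ⟨x, H.centralizer_pCore_le hc⟩
  exact eq_one_of_odd_of_two_pow hx (k := k) (congrArg Subtype.val hk)

/-- The Frattini quotient of `O₂` has order at most sixteen. -/
theorem card_frattini_quotient_le
    (h16 : ∀ x ∈ (T : Subgroup M), x * x = 1 → x ∉ B → Nat.card ↥((T : Subgroup M) ⊓ cc x) ≤ 16) :
    Nat.card (↥(pCore 2 M) ⧸ frattini ↥(pCore 2 M)) ≤ 16 := by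
  classical
  haveI : Fact (Nat.Prime 2) := ⟨Nat.prime_two⟩
  set Q := pCore 2 M with hQ
  have hQT : Q ≤ (T : Subgroup M) := pCore_two_le_sylow T
  have hQp : IsPGroup 2 Q := isPGroup_pCore 2
  by_cases hout : ∃ d : Q, d * d = 1 ∧ (d : M) ∉ B
  · obtain ⟨d, hd2, hdB⟩ := hout
    set C := Subgroup.centralizer ({d} : Set Q) with hC
    have hC16 : Nat.card C ≤ 16 := by
      refine le_trans ?_ (h16 d (hQT d.2) (congrArg Subtype.val hd2) hdB)
      refine Nat.card_le_card_of_injective (fun c : C => (⟨((c : Q) : M), hQT (c : Q).2,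
        mem_cc.mpr (congrArg Subtype.val (Subgroup.mem_centralizer_singleton_iff.mp c.2))⟩ :
          ↥((T : Subgroup M) ⊓ cc (d : M)))) fun a b e => ?_
      exact Subtype.ext (Subtype.ext (congrArg (fun z : ↥((T : Subgroup M) ⊓ cc (d : M)) => (z : M)) e))
    have hcomm : ∀ q : Q, ⁅q, d⁆ ∈ frattini Q := fun q => by
      have := (CfsgLib.commutator_le_frattini_pGroup hQp : commutator Q ≤ frattini Q)
      exact this (Subgroup.commutator_mem_commutator (Subgroup.mem_top q) (Subgroup.mem_top d))
    have hidx : C.index ≤ Nat.card (frattini Q) := by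
      rw [Subgroup.index_eq_card]
      refine Nat.card_le_card_of_injective (fun c : Q ⧸ C => (⟨⁅c.out, d⁆, hcomm c.out⟩ : frattini Q))
        fun a b e => ?_
      have h1 : a.out * d * (a.out)⁻¹ = b.out * d * (b.out)⁻¹ := by
        have := congrArg Subtype.val e
        simp only [commutatorElement_def] at this
        exact mul_right_cancel this
      rw [← QuotientGroup.out_eq' a, ← QuotientGroup.out_eq' b]
      refine QuotientGroup.eq.mpr (Subgroup.mem_centralizer_singleton_iff.mpr ?_)
      calc (a.out)⁻¹ * b.out * d = (a.out)⁻¹ * (b.out * d * (b.out)⁻¹) * b.out := by group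
        _ = d * ((a.out)⁻¹ * b.out) := by rw [← h1]; group
    have hmul : Nat.card Q ≤ 16 * Nat.card (frattini Q) :=
      C.card_mul_index ▸ Nat.mul_le_mul hC16 hidx
    have hpos : 0 < Nat.card (frattini Q) := Nat.card_pos
    have := (frattini Q).index_mul_card
    rw [Subgroup.index_eq_card] at this
    rw [← this] at hmul
    exact Nat.le_of_mul_le_mul_right hmul hpos
  · push Not at hout
    have hel : ∀ W : Subgroup Q, W.Normal → IsMulCommutative W → (∀ a ∈ W, a ^ 2 = 1) → Nat.card W ≤ 4 := by
      intro W _ _ hW2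
      rw [← H.card]
      refine Nat.card_le_card_of_injective (fun w : W => (⟨((w : Q) : M), hout w (by rw [← pow_two]; exact hW2 w w.2)⟩ : B))
        fun a b e => Subtype.ext (Subtype.ext (congrArg (fun z : B => (z : M)) e))
    have h := CfsgLib.MacWilliams.sectional_rank_le_four hQp hel ⊤ ((frattini Q).subgroupOf ⊤) ⊤
    have hQuot : ∀ z : (⊤ : Subgroup Q) ⧸ (frattini Q).subgroupOf ⊤, z ^ 2 = 1 := fun z => by
      obtain ⟨q, rfl⟩ := QuotientGroup.mk'_surjective _ z
      rw [← map_pow]
      refine (QuotientGroup.eq_one_iff _).mpr ?_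
      show (q : Q) ^ 2 ∈ frattini Q
      exact CfsgLib.pow_mem_frattini_pGroup hQp _
    have hcard := h ⟨⟨fun a b => Subtype.ext (by
      have h1 := inv_eq_of_mul_eq_one_right ((pow_two _).symm.trans (hQuot (a.1 * b.1)))
      rw [mul_inv_rev, inv_eq_of_mul_eq_one_right ((pow_two _).symm.trans (hQuot a.1)),
        inv_eq_of_mul_eq_one_right ((pow_two _).symm.trans (hQuot b.1))] at h1
      exact h1.symm)⟩⟩ fun a _ => hQuot a
    rw [Subgroup.card_top] at hcard
    refine le_trans (le_of_eq ?_) hcard
    exact (Nat.card_congr (QuotientGroup.congr ((frattini Q).subgroupOf ⊤) (frattini Q) Subgroup.topEquiv (by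
      rw [Subgroup.map_equiv_eq_comap_symm]; rfl)).toEquiv).symm

/-- 27 does not divide the order. -/
theorem not_dvd_card
    (h16 : ∀ x ∈ (T : Subgroup M), x * x = 1 → x ∉ B → Nat.card ↥((T : Subgroup M) ⊓ cc x) ≤ 16) :
    ¬ 27 ∣ Nat.card M := by
  classical
  haveI : Fact (Nat.Prime 2) := ⟨Nat.prime_two⟩
  haveI : Fact (Nat.Prime 3) := ⟨Nat.prime_three⟩
  intro h27
  obtain ⟨P, hP⟩ := Sylow.exists_subgroup_card_pow_prime 3 (G := M) (n := 3) h27
  set Q := pCore 2 M with hQ
  haveI hQn : Q.Normal := Subgroup.sSup_normal _ (fun _ h => h.1)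
  have hQp : IsPGroup 2 Q := isPGroup_pCore 2
  let f : M →* MulAut Q := MulAut.conjNormal
  have hΦ : ∀ (g : MulAut Q), (frattini Q).map (g : Q ≃* Q).toMonoidHom = frattini Q := fun g =>
    Subgroup.characteristic_iff_map_eq.mp inferInstance g
  let q : MulAut Q →* MulAut (Q ⧸ frattini Q) :=
    { toFun := fun g => QuotientGroup.congr (frattini Q) (frattini Q) g (hΦ g)
      map_one' := MulEquiv.ext fun r => QuotientGroup.induction_on r fun _ => rfl
      map_mul' := fun g g' => MulEquiv.ext fun r => QuotientGroup.induction_on r fun _ => rfl }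
  have hinj : Function.Injective ((q.comp f).comp P.subtype) := by
    refine (injective_iff_map_eq_one _).mpr fun x hx => Subtype.ext ?_
    have hodd : Odd (orderOf (x : M)) := by
      rw [Subgroup.orderOf_coe]
      refine Odd.of_dvd_nat ?_ (orderOf_dvd_natCard x)
      rw [hP]; decide
    have h1 : f x = 1 := by
      refine CfsgLib.BaseTwo.aut_trivial_of_mod_frattini hQp
        (Nat.coprime_two_right.mpr (odd_orderOf_map f hodd)) fun r => ?_
      exact DFunLike.congr_fun hx (QuotientGroup.mk r)
    refine H.eq_one_of_odd hodd fun r hr => ?_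
    have h2 := congrArg Subtype.val (DFunLike.congr_fun h1 ⟨r, hr⟩)
    have h3 : (x : M) * r * (x : M)⁻¹ = r := h2
    exact (mul_inv_eq_iff_eq_mul.mp h3).symm
  have hsq : ∀ z : Q ⧸ frattini Q, z ^ 2 = 1 := fun z => by
    obtain ⟨r, rfl⟩ := QuotientGroup.mk'_surjective _ z
    rw [← map_pow]
    exact (QuotientGroup.eq_one_iff _).mpr (CfsgLib.pow_mem_frattini_pGroup hQp _)
  obtain ⟨e, he, hdvd⟩ := CfsgLib.AfterFT.OutSolvable.card_mulAut_dvd (fun a b => by
    have h1 := inv_eq_of_mul_eq_one_right ((pow_two _).symm.trans (hsq (a * b)))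
    rw [mul_inv_rev, inv_eq_of_mul_eq_one_right ((pow_two _).symm.trans (hsq a)),
      inv_eq_of_mul_eq_one_right ((pow_two _).symm.trans (hsq b))] at h1
    exact h1.symm) hsq
  have hd := (Subgroup.card_dvd_of_injective _ hinj).trans hdvd
  have he4 : e ≤ 4 := (Nat.pow_le_pow_iff_right (le_refl 2)).mp (he ▸ H.card_frattini_quotient_le h16)
  rw [hP] at hd
  interval_cases e <;> norm_num [Fin.prod_univ_succ] at hd

end CentreHyp

end CfsgLib.S3Simple
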