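import Cfsg.Agent.Lib.S3Simple.ModuleLemma
import Cfsg.Agent.Lib.ReeTori.PSLFacts
import Cfsg.Agent.Lib.Coprime
import Cfsg.Agent.Lib.CoprimeGen
import Cfsg.Agent.S0205
import Cfsg.Agent.S2086

/-!
A perfect extension of `L₂(3^(2n+1))` by a group of odd order, with a four-group that centralises the invariant
subgroups of each prime order type that meets its centraliser, is `L₂(3^(2n+1))` itself.

Blueprint: `blueprint/S3Free.md`, 6.3.
-/

set_option autoImplicit false
set_option linter.unusedSectionVars false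
set_option linter.style.haveILetI false

namespace CfsgLib.S3Simple

open Cfsg
open scoped commutatorElement

universe u

theorem orderOf_of_dvd {G : Type u} [Group G] [Finite G] {c : G} {r : ℕ} (hd : r ∣ orderOf c) :
    orderOf (c ^ (orderOf c / r)) = r := by
  have hc := orderOf_pos c
  rw [orderOf_pow, Nat.gcd_eq_right (Nat.div_dvd_of_dvd hd), Nat.div_div_self hd hc.ne']

/-- A stem extension of `L₂(q)` with kernel of odd order is trivial. -/
theorem stem_kernel_trivial {F : Type} [Field F] [Fintype F] {m : ℕ} (D : ReeTori.QData F m) {G : Type u} [Group G]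
    [Finite G] (φ : G →* Matrix.ProjectiveSpecialLinearGroup (Fin 2) F) (hφ : Function.Surjective φ)
    (hperf : commutator G = ⊤) (hc : φ.ker ≤ Subgroup.center G) (hodd : Odd (Nat.card φ.ker)) : φ.ker = ⊥ := by
  classical
  obtain ⟨-, h27⟩ := D.mod
  have h := Cfsg.Agent.S2086.result (F := F) (q := Fintype.card F) rfl 2 le_rfl (fun _ => by omega) (by
    simp only [Set.mem_insert_iff, Set.mem_singleton_iff, Prod.mk.injEq, not_or, not_and]
    refine ⟨?_, ?_, ?_, ?_, ?_⟩ <;> intros <;> omega)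
  haveI : Small.{0} G := small_map (Finite.equivFin G)
  letI : Group (Shrink.{0} G) := (equivShrink G).symm.group
  let e : Shrink.{0} G ≃* G := Equiv.mulEquiv (equivShrink G).symm
  haveI : Finite (Shrink.{0} G) := Finite.of_equiv _ (equivShrink G)
  let σ := φ.comp e.toMonoidHom
  have hstem : IsStemExtension σ := by
    refine ⟨hφ.comp e.surjective, fun x hx => Subgroup.mem_center_iff.mpr fun g => e.injective ?_, fun x hx => ?_⟩
    · rw [map_mul, map_mul]
      exact Subgroup.mem_center_iff.mp (hc (show e x ∈ φ.ker from hx)) (e g)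
    · have : (commutator (Shrink.{0} G)).map e.toMonoidHom = commutator G := by
        rw [commutator_def, Subgroup.map_commutator, Subgroup.map_top_of_surjective _ e.surjective, ← commutator_def]
      obtain ⟨y, hy, hye⟩ : e x ∈ (commutator (Shrink.{0} G)).map e.toMonoidHom := by
        rw [this, hperf]; exact Subgroup.mem_top _
      rwa [← e.injective hye]
  obtain ⟨p, hp⟩ := h.2 (Shrink.{0} G) σ hstem
  have hgcd : Nat.gcd 2 (Fintype.card F - 1) = 2 := D.gcd_two
  have h2 : Nat.card σ.ker ∣ 2 := by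
    refine (Subgroup.card_dvd_of_surjective p hp).trans (dvd_of_eq ?_)
    rw [Nat.card_congr Multiplicative.toAdd, Nat.card_zmod, hgcd]
  have hk : Nat.card σ.ker = Nat.card φ.ker := by
    rw [show σ.ker = φ.ker.comap e.toMonoidHom from rfl,
      ← Subgroup.card_map_of_injective (f := e.toMonoidHom) e.injective,
      Subgroup.map_comap_eq_self_of_surjective (f := e.toMonoidHom) e.surjective]
  rw [hk] at h2
  refine Subgroup.card_eq_one.mp ?_
  rcases (Nat.dvd_prime Nat.prime_two).mp h2 with h | h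
  · exact h
  · rw [h] at hodd; exact absurd hodd (by decide)

/-- The four-group hypothesis on an extension. -/
def PrimeHyp {G : Type u} [Group G] (O B : Subgroup G) : Prop :=
  ∀ r : ℕ, r.Prime → ((∃ w ∈ O, w ∈ Subgroup.centralizer (B : Set G) ∧ orderOf w = r) ∨ r = 3) →
    ∀ W : Subgroup G, W ≤ O → IsPGroup r W → B ≤ Subgroup.normalizer (W : Set G) →
      W ≤ Subgroup.centralizer (B : Set G)

theorem odd_kernel_eq_bot_aux {F : Type} [Field F] [Fintype F] {m : ℕ} (D : ReeTori.QData F m) :
    ∀ (k : ℕ) {G : Type u} [Group G] [Finite G], Nat.card G = k → commutator G = ⊤ →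
      ∀ (φ : G →* Matrix.ProjectiveSpecialLinearGroup (Fin 2) F), Function.Surjective φ → Odd (Nat.card φ.ker) →
      ∀ B : Subgroup G, Nat.card B = 4 → (∀ b ∈ B, b * b = 1) → PrimeHyp φ.ker B → φ.ker = ⊥ := by
  intro k
  induction k using Nat.strong_induction_on with
  | h k ih =>
  intro G _ _ hk hperf φ hφ hodd B hB4 hB2 hπ
  classical
  subst hk
  by_contra hne
  set O := φ.ker with hO
  haveI := D.charP
  haveI : IsSimpleGroup (Matrix.ProjectiveSpecialLinearGroup (Fin 2) F) :=
    Matrix.ProjectiveSpecialLinearGroup.rank_two_simple (by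
      rw [Nat.card_eq_fintype_card]; have := D.mod; omega)
  -- a minimal normal subgroup inside the kernel
  obtain ⟨N, ⟨hNn, hNO, hN1⟩, hmin⟩ := (Set.toFinite {N : Subgroup G | N.Normal ∧ N ≤ O ∧ N ≠ ⊥}).exists_minimal
    ⟨O, MonoidHom.normal_ker φ, le_rfl, hne⟩
  haveI := hNn
  have hminimal : ∀ M : Subgroup G, M.Normal → M ≤ N → M ≠ ⊥ → M = N := fun M hM hle h1 =>
    le_antisymm hle (hmin ⟨hM, hle.trans hNO, h1⟩ hle)
  have hNodd : Odd (Nat.card N) := Odd.of_dvd_nat hodd (Subgroup.card_dvd_of_le hNO)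
  haveI : Group.IsSolvable N := Cfsg.Agent.S0205.result hNodd
  have hNab : ∀ x ∈ N, ∀ y ∈ N, x * y = y * x := by
    have hlt : ⁅N, N⁆ ≠ N := by
      intro e
      haveI : Nontrivial N := N.nontrivial_iff_ne_bot.mpr hN1
      have h := Group.IsSolvable.commutator_lt_top_of_nontrivial N
      refine h.ne (Subgroup.map_injective N.subtype_injective ?_)
      rw [commutator_def, Subgroup.map_commutator, ← MonoidHom.range_eq_map, Subgroup.range_subtype, e]
    have hcle : ⁅N, N⁆ ≤ N := Subgroup.commutator_le.mpr fun x hx y hy =>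
      mul_mem (mul_mem (mul_mem hx hy) (inv_mem hx)) (inv_mem hy)
    have h0 : ⁅N, N⁆ = ⊥ := by
      by_contra hc
      exact hlt (hminimal _ inferInstance hcle hc)
    intro x hx y hy
    exact commutatorElement_eq_one_iff_mul_comm.mp
      (Subgroup.mem_bot.mp (h0 ▸ Subgroup.commutator_mem_commutator hx hy))
  obtain ⟨r, hr, hrd⟩ := Nat.exists_prime_and_dvd (n := Nat.card N) (fun e => hN1 (Subgroup.card_eq_one.mp e))
  haveI : Fact r.Prime := ⟨hr⟩
  have hexp : ∀ x ∈ N, x ^ r = 1 := by
    let M : Subgroup G :=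
      { carrier := {x | x ∈ N ∧ x ^ r = 1}
        one_mem' := ⟨one_mem N, one_pow r⟩
        mul_mem' := fun {x y} hx hy => ⟨mul_mem hx.1 hy.1, by
          rw [(show Commute x y from hNab x hx.1 y hy.1).mul_pow, hx.2, hy.2, one_mul]⟩
        inv_mem' := fun {x} hx => ⟨inv_mem hx.1, by rw [inv_pow, hx.2, inv_one]⟩ }
    have hMn : M.Normal := ⟨fun x hx g => ⟨hNn.conj_mem x hx.1 g, by rw [conj_pow, hx.2, mul_one, mul_inv_cancel]⟩⟩
    have hM1 : M ≠ ⊥ := by
      obtain ⟨x, hx⟩ := exists_prime_orderOf_dvd_card' r hrd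
      intro e
      have hxM : (x : G) ∈ M := ⟨x.2, by rw [← Subgroup.coe_pow, ← hx, pow_orderOf_eq_one]; rfl⟩
      rw [e, Subgroup.mem_bot] at hxM
      exact hr.ne_one (hx ▸ orderOf_eq_one_iff.mpr (Subtype.ext hxM))
    intro x hx
    have := hminimal M hMn (fun y hy => hy.1) hM1
    rw [← this] at hx
    exact hx.2
  have hBO : ∀ b ∈ B, b ∈ O → b = 1 := fun b hb hbO => by
    have h1 : orderOf b ∣ 2 := orderOf_dvd_of_pow_eq_one (by rw [pow_two]; exact hB2 b hb)
    have h2 : Odd (orderOf b) := Odd.of_dvd_nat hodd (Subgroup.orderOf_dvd_natCard _ hbO)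
    rcases (Nat.dvd_prime Nat.prime_two).mp h1 with h | h
    · exact orderOf_eq_one_iff.mp h
    · rw [h] at h2; exact absurd h2 (by decide)
  have hBnorm : ∀ M : Subgroup G, M.Normal → B ≤ Subgroup.normalizer (M : Set G) := fun M hM => by
    rw [Subgroup.normalizer_eq_top_iff.mpr hM]; exact le_top
  have hcop : (Nat.card B).Coprime (Nat.card O) := by
    rw [hB4, show (4 : ℕ) = 2 ^ 2 from rfl]
    exact (Nat.coprime_two_left.mpr hodd).pow_left 2
  -- the quotient by `N`
  let π := QuotientGroup.mk' N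
  have hquot : O = N := by
    let φ' : G ⧸ N →* Matrix.ProjectiveSpecialLinearGroup (Fin 2) F := QuotientGroup.lift N φ hNO
    have hker' : φ'.ker = O.map π := QuotientGroup.ker_lift N φ hNO
    have hlt : Nat.card (G ⧸ N) < Nat.card G := by
      rw [← Subgroup.index_eq_card, ← N.index_mul_card]
      exact lt_mul_of_one_lt_right (Nat.pos_of_ne_zero Subgroup.index_ne_zero_of_finite)
        (Subgroup.one_lt_card_iff_ne_bot N |>.mpr hN1)
    have hperf' : commutator (G ⧸ N) = ⊤ := by
      rw [commutator_def, ← Subgroup.map_top_of_surjective π (QuotientGroup.mk'_surjective N),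
        ← Subgroup.map_commutator, ← commutator_def, hperf]
    have hB4' : Nat.card (B.map π) = 4 := by
      rw [← hB4]
      refine (Nat.card_eq_of_bijective (fun b : B => (⟨π b, ⟨b, b.2, rfl⟩⟩ : B.map π)) ⟨fun b c e => ?_, ?_⟩).symm
      · have h1 := (QuotientGroup.eq (s := N)).mp (congrArg Subtype.val e)
        exact Subtype.ext (inv_mul_eq_one.mp (hBO _ (mul_mem (inv_mem b.2) c.2) (hNO h1)))
      · rintro ⟨_, b, hb, rfl⟩
        exact ⟨⟨b, hb⟩, rfl⟩
    have h := ih _ hlt rfl hperf' φ' (QuotientGroup.lift_surjective_of_surjective _ _ hφ _) (by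
        rw [hker']; exact Odd.of_dvd_nat hodd (Subgroup.card_map_dvd _ _))
      (B.map π) hB4' (by
        rintro _ ⟨b, hb, rfl⟩
        rw [← map_mul, hB2 b hb, map_one]) ?_
    · rw [hker', Subgroup.map_eq_bot_iff, QuotientGroup.ker_mk'] at h
      exact le_antisymm h hNO
    rw [hker']
    intro s hs hcond W hW hWs hWB
    haveI : Fact s.Prime := ⟨hs⟩
    have hcond' : (∃ w ∈ O, w ∈ Subgroup.centralizer (B : Set G) ∧ orderOf w = s) ∨ s = 3 := by
      refine hcond.imp_left ?_
      rintro ⟨_, ⟨k, hk, rfl⟩, hkc, hord⟩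
      obtain ⟨c, hc, hkc'⟩ := CfsgLib.coprime_fixed_quotient (A := B) (hBnorm O (MonoidHom.normal_ker φ)) hcop
        (Or.inr (Cfsg.Agent.S0205.result hodd)) hNO
        (by rw [Subgroup.normalizer_eq_top_iff.mpr hNn]; exact le_top) (hBnorm N hNn) hk (fun b hb => by
          refine (QuotientGroup.eq_one_iff (N := N) _).mp ?_
          show π _ = 1
          rw [map_mul, map_mul, map_mul, map_inv, map_inv, hkc (π b) ⟨b, hb, rfl⟩, mul_inv_cancel_right,
            mul_inv_cancel])
      have hpc : π c = π k := (QuotientGroup.eq.mpr hkc').symm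
      have hd : s ∣ orderOf c := by
        rw [← hord, ← hpc]
        exact orderOf_map_dvd π c
      exact ⟨c ^ (orderOf c / s), pow_mem hc.1 _, pow_mem hc.2 _, orderOf_of_dvd hd⟩
    set W' := W.comap π ⊓ O with hW'
    have hW'B : B ≤ Subgroup.normalizer (W' : Set G) := fun b hb =>
      CfsgLib.Comp.mem_normalizer_of_maps fun x hx => Subgroup.mem_inf.mpr ⟨by
        show π (b * x * b⁻¹) ∈ W
        rw [map_mul, map_mul, map_inv]
        exact (Subgroup.mem_normalizer_iff.mp (hWB ⟨b, hb, rfl⟩) _).mp hx.1,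
        (MonoidHom.normal_ker φ).conj_mem x hx.2 b⟩
    have hcop' : (Nat.card B).Coprime (Nat.card W') :=
      hcop.coprime_dvd_right (Subgroup.card_dvd_of_le inf_le_right)
    obtain ⟨P, hP⟩ := CfsgLib.coprime_exists_invariant_sylow hW'B hcop'
      (Or.inr (Cfsg.Agent.S0205.result (Odd.of_dvd_nat hodd (Subgroup.card_dvd_of_le inf_le_right)))) s
    have hPle : (P : Subgroup W').map W'.subtype ≤ W' := Subgroup.map_subtype_le _
    have hPc := hπ s hs hcond' _ (hPle.trans inf_le_right) (P.2.map _) hP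
    have hWW : W'.map π = W := by
      refine le_antisymm (by rintro _ ⟨x, hx, rfl⟩; exact hx.1) fun w hw => ?_
      obtain ⟨k, hk, rfl⟩ := hW hw
      exact ⟨k, ⟨hw, hk⟩, rfl⟩
    intro w hw
    -- the Sylow subgroup maps onto the `s`-group
    have hmap : ((P : Subgroup W').map W'.subtype).map π = W := by
      let ρ : W' →* W := (π.comp W'.subtype).codRestrict W fun x => x.2.1
      have hρ : Function.Surjective ρ := by
        rintro ⟨y, hy⟩
        obtain ⟨x, hx, rfl⟩ := hWW.ge hy
        exact ⟨⟨x, hx⟩, rfl⟩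
      let P' := P.mapSurjective hρ
      have htop : (P' : Subgroup W) = ⊤ :=
        (P'.3 (hWs.to_subgroup ⊤) le_top).symm
      refine le_antisymm ((Subgroup.map_mono hPle).trans hWW.le) fun y hy => ?_
      obtain ⟨x, hx, hxe⟩ := (htop.ge : ⊤ ≤ (P' : Subgroup W)) (Subgroup.mem_top ⟨y, hy⟩)
      exact ⟨(x : G), ⟨x, hx, rfl⟩, congrArg Subtype.val hxe⟩
    rintro _ ⟨b, hb, rfl⟩
    rw [← hmap] at hw
    obtain ⟨x, hx, rfl⟩ := hw
    rw [← map_mul, ← map_mul, hPc hx b hb]
  -- now the kernel is `N`, abelian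
  let act : G →* MulAut N := MulAut.conjNormal
  have hNker : N ≤ act.ker := fun y hy => by
    refine MonoidHom.mem_ker.mpr (MulEquiv.ext fun n => Subtype.ext ?_)
    show y * n * y⁻¹ = n
    rw [hNab y hy n n.2, mul_inv_cancel_right]
  have hBker : B ≤ act.ker → False := by
    intro hB
    have hker : act.ker = ⊤ := by
      haveI : (act.ker.map φ).Normal := (MonoidHom.normal_ker act).map φ hφ
      rcases (inferInstance : (act.ker.map φ).Normal).eq_bot_or_eq_top with h | h
      · exfalso
        have hBle : B ≤ O := fun b hb => Subgroup.mem_bot.mp (h ▸ Subgroup.mem_map_of_mem φ (hB hb))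
        have : B = ⊥ := (Subgroup.eq_bot_iff_forall B).mpr fun b hb => hBO b hb (hBle hb)
        rw [this, Subgroup.card_bot] at hB4
        omega
      · refine top_le_iff.mp fun g _ => ?_
        obtain ⟨y, hy, he⟩ := h.ge (Subgroup.mem_top (φ g))
        have : y⁻¹ * g ∈ O := by rw [hO, MonoidHom.mem_ker, map_mul, map_inv, he, inv_mul_cancel]
        rw [show g = y * (y⁻¹ * g) by group]
        exact mul_mem hy (hNker (hquot ▸ this))
    have hcen : O ≤ Subgroup.center G := fun y hy => Subgroup.mem_center_iff.mpr fun g => by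
      have h := congrArg Subtype.val (DFunLike.congr_fun (show act g = 1 from
        MonoidHom.mem_ker.mp (hker ▸ Subgroup.mem_top g)) ⟨y, hquot ▸ hy⟩)
      exact mul_inv_eq_iff_eq_mul.mp h
    exact hne (stem_kernel_trivial D φ hφ hperf hcen hodd)
  have hcent : N ≤ Subgroup.centralizer (B : Set G) → False := fun hc => hBker fun b hb => by
    refine MonoidHom.mem_ker.mpr (MulEquiv.ext fun n => Subtype.ext ?_)
    show b * n * b⁻¹ = n
    rw [hc n.2 b hb, mul_inv_cancel_right]
  have hNp : IsPGroup r N := fun x => ⟨1, Subtype.ext (by rw [pow_one]; exact hexp x x.2)⟩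
  by_cases hcond : (∃ w ∈ O, w ∈ Subgroup.centralizer (B : Set G) ∧ orderOf w = r) ∨ r = 3
  · exact hcent (hπ r hr hcond N hNO hNp (hBnorm N hNn))
  push Not at hcond
  have hr2 : r ≠ 2 := by
    rintro rfl
    exact absurd (Odd.of_dvd_nat hNodd hrd) (by decide)
  letI : CommGroup N := { (inferInstance : Group N) with mul_comm := fun x y => Subtype.ext (hNab x x.2 y y.2) }
  let ψ := φ.liftOfSurjective hφ ⟨act, hquot ▸ hNker⟩
  have hψ : ∀ g, ψ (φ g) = act g := fun g =>
    DFunLike.congr_fun (φ.liftOfRightInverse_comp (Function.surjInv hφ) (Function.rightInverse_surjInv hφ) ⟨act, hquot ▸ hNker⟩) g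
  have hinj : Function.Injective (fun b : B => (⟨φ b, ⟨b, b.2, rfl⟩⟩ : B.map φ)) := fun b c e => by
    have h1 : (b : G)⁻¹ * c ∈ O := by
      rw [hO, MonoidHom.mem_ker, map_mul, map_inv, show φ b = φ c from congrArg Subtype.val e, inv_mul_cancel]
    exact Subtype.ext (inv_mul_eq_one.mp (hBO _ (mul_mem (inv_mem b.2) c.2) h1))
  have hT4 : Nat.card (B.map φ) = 4 :=
    le_antisymm (Nat.le_of_dvd (by norm_num) (hB4 ▸ Subgroup.card_map_dvd _ _))
      (hB4 ▸ Nat.card_le_card_of_injective _ hinj)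
  have hTsq : ∀ t : B.map φ, t * t = 1 := by
    rintro ⟨_, b, hb, rfl⟩
    exact Subtype.ext (by show φ b * φ b = 1; rw [← map_mul, hB2 b hb, map_one])
  have hT : IsKleinFour (B.map φ) := by
    haveI : Nontrivial (B.map φ) := Finite.one_lt_card_iff_nontrivial.mp (by omega)
    refine ⟨hT4, ?_⟩
    rcases (Nat.dvd_prime Nat.prime_two).mp
      (Monoid.exponent_dvd_of_forall_pow_eq_one fun t : B.map φ => by rw [pow_two]; exact hTsq t) with h | h
    · exact absurd (Monoid.exp_eq_one_iff.mp h) (not_subsingleton _)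
    · exact h
  refine hN1 ((Subgroup.eq_bot_iff_forall N).mpr fun x hx => ?_)
  refine congrArg Subtype.val (no_fpf_four (M := N) D.hm D.hq hr hr2 hcond.2
    (fun n => Subtype.ext (hexp n n.2)) ψ (B.map φ) hT (fun n hn => ?_) ⟨x, hx⟩)
  by_contra hn1
  refine hcond.1 n (hNO n.2) (fun b hb => ?_) ?_
  · have h := congrArg Subtype.val (hn (φ b) ⟨b, hb, rfl⟩)
    rw [hψ] at h
    exact mul_inv_eq_iff_eq_mul.mp h
  · rw [Subgroup.orderOf_coe]
    exact orderOf_eq_prime (Subtype.ext (hexp n n.2)) hn1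

/-- A perfect extension of `L₂(q)` by a group of odd order satisfying the four-group hypothesis splits trivially. -/
theorem odd_kernel_eq_bot {F : Type} [Field F] [Fintype F] {m : ℕ} (D : ReeTori.QData F m) {G : Type u} [Group G]
    [Finite G] (hperf : commutator G = ⊤) (φ : G →* Matrix.ProjectiveSpecialLinearGroup (Fin 2) F)
    (hφ : Function.Surjective φ) (hodd : Odd (Nat.card φ.ker)) (B : Subgroup G) (hB4 : Nat.card B = 4)
    (hB2 : ∀ b ∈ B, b * b = 1) (hπ : PrimeHyp φ.ker B) : φ.ker = ⊥ :=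
  odd_kernel_eq_bot_aux D _ rfl hperf φ hφ hodd B hB4 hB2 hπ

end CfsgLib.S3Simple
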