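import Cfsg.Agent.Lib.S3Simple.Four.Block
import Cfsg.Agent.Lib.Comp.BalanceTwo
import Cfsg.Agent.Lib.OddOrder.FeitThompson

/-!
Section 6.3: all involutions of `S` outside `A` are blocked, have elementary centralisers in `S`, and are
conjugate under `C(A)` to their products with the elements of `A`.

Blueprint: `blueprint/S3Free.md`, 6.3.
-/

set_option autoImplicit false
set_option linter.unusedSectionVars false
set_option linter.style.haveILetI false

namespace CfsgLib.S3Simple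

open Cfsg CfsgLib.Comp CfsgLib.AfterFT.CoreSep

universe u

variable {L : Type u} [Group L] [Finite L]

/-- A non-trivial subgroup of a 2-group normalised by all of it contains a central involution of it. -/
theorem exists_central_involution {W D : Subgroup L} (hW : IsPGroup 2 W) (hDW : D ≤ W)
    (hn : W ≤ Subgroup.normalizer (D : Set L)) (hD : D ≠ ⊥) :
    ∃ e ∈ D, e * e = 1 ∧ e ≠ 1 ∧ ∀ w ∈ W, e * w = w * e := by
  classical
  haveI : Fact (Nat.Prime 2) := ⟨Nat.prime_two⟩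
  haveI : (D.subgroupOf W).Normal := (Subgroup.normal_subgroupOf_iff_le_normalizer hDW).mpr hn
  set N := D.subgroupOf W
  have hdvd : 2 ∣ Nat.card N := by
    obtain ⟨k, hk⟩ := IsPGroup.iff_card.mp (hW.to_subgroup N)
    rcases Nat.eq_zero_or_pos k with rfl | hk0
    · exact absurd (Subgroup.subgroupOf_eq_bot.mp (Subgroup.card_eq_one.mp (by rw [hk, pow_zero])))
        (fun h => hD (by rwa [disjoint_iff, inf_eq_left.mpr hDW] at h))
    · rw [hk]; exact dvd_pow_self 2 (by omega)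
  let act : MulAction W N :=
    { smul := fun w x => ⟨w * x * w⁻¹, Subgroup.Normal.conj_mem inferInstance x.1 x.2 w⟩
      one_smul := fun x => Subtype.ext (by show 1 * (x : W) * (1 : W)⁻¹ = x; group)
      mul_smul := fun w w' x => Subtype.ext (by
        show (w * w') * (x : W) * (w * w')⁻¹ = w * (w' * x * w'⁻¹) * w⁻¹; group) }
  letI := act
  have hfix1 : (1 : N) ∈ MulAction.fixedPoints W N := fun w => Subtype.ext (by
    show w * ((1 : N) : W) * w⁻¹ = 1; simp)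
  obtain ⟨c, hc, hc1⟩ := hW.exists_fixed_point_of_prime_dvd_card_of_fixed_point N hdvd hfix1
  have hc' : ∀ w : W, w * (c : W) = c * w := fun w => by
    have := congrArg Subtype.val (hc w)
    exact mul_inv_eq_iff_eq_mul.mp this
  set c' : L := ((c : W) : L)
  obtain ⟨k, hk⟩ : ∃ k, c' ^ 2 ^ k = 1 := by
    obtain ⟨k, hk⟩ := hW (c : W)
    exact ⟨k, congrArg Subtype.val hk⟩
  have hne : c' ≠ 1 := fun e => hc1 (Subtype.ext (Subtype.ext e.symm))
  obtain ⟨l, -, hl⟩ := (Nat.dvd_prime_pow Nat.prime_two).mp (orderOf_dvd_of_pow_eq_one hk)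
  rcases Nat.eq_zero_or_pos l with rfl | hl0
  · exact absurd (orderOf_eq_one_iff.mp (by rw [hl, pow_zero])) hne
  refine ⟨c' ^ 2 ^ (l - 1), D.pow_mem c.2 _, ?_, ?_, ?_⟩
  · rw [← pow_add, ← two_mul, ← pow_succ', Nat.sub_add_cancel hl0, ← hl, pow_orderOf_eq_one]
  · intro e
    have := orderOf_dvd_of_pow_eq_one e
    rw [hl, Nat.pow_dvd_pow_iff_le_right (le_refl 2)] at this
    omega
  · intro w hw
    exact ((Commute.pow_left (show Commute c' w from congrArg Subtype.val (hc' ⟨w, hw⟩).symm) _)).eq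

/-- `C_{C_S(x)}(E)` for a component `E` of `C(x)/O`. -/
noncomputable def CE (S : Sylow 2 L) (x : L) (E : Subgroup (qq x)) : Subgroup L :=
  (S : Subgroup L) ⊓ ((Subgroup.centralizer (E : Set (qq x))).comap (ff x)).map (cc x).subtype

theorem mem_CE {S : Sylow 2 L} {x : L} {E : Subgroup (qq x)} {g : L} :
    g ∈ CE S x E ↔ g ∈ (S : Subgroup L) ∧ ∃ h : g ∈ cc x, ff x ⟨g, h⟩ ∈ Subgroup.centralizer (E : Set (qq x)) := by
  constructor
  · rintro ⟨hS, y, hy, rfl⟩
    exact ⟨hS, y.2, hy⟩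
  · rintro ⟨hS, h, hy⟩
    exact ⟨hS, ⟨g, h⟩, hy, rfl⟩

namespace FourHyp

variable {S : Sylow 2 L} {A : Subgroup L} (H : FourHyp S A)
include H

/-- Balance: an involution centralising the component is blocked. -/
theorem blocked_of_centralizes {x e : L} {E : Subgroup (qq x)} (hB : BlockData S A x E)
    (hx2 : x * x = 1) (he2 : e * e = 1) (he : e ∈ cc x) (heS : e ∈ (S : Subgroup L))
    (hce : ff x ⟨e, he⟩ ∈ Subgroup.centralizer (E : Set (qq x))) : BlockedAt A e := by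
  classical
  haveI : Fact (Nat.Prime 2) := ⟨Nat.prime_two⟩
  set xe : ↥(cc e) := ⟨x, mem_cc.mpr (mem_cc.mp he).symm⟩ with hxe
  have hRp : IsPGroup 2 (Subgroup.zpowers xe) := zpowers_two (Subtype.ext hx2)
  set C := Subgroup.centralizer (Subgroup.zpowers xe : Set ↥(cc e))
  have hCx : ∀ c : C, ((c : ↥(cc e)) : L) ∈ cc x := fun c =>
    mem_cc.mpr (congrArg Subtype.val (c.2 xe (Subgroup.mem_zpowers xe)).symm)
  let f : C →* ↥(cc x) := ((cc e).subtype.comp C.subtype).codRestrict (cc x) hCx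
  have hf : Function.Injective f := fun a b h =>
    Subtype.ext (Subtype.ext (congrArg (fun z : ↥(cc x) => (z : L)) h))
  set K := pEl 2 (E.comap (ff x)) with hKdef
  have hK : IsPComponent 2 K := (isPComponent_iff 2).mpr ⟨E, hB.comp, rfl⟩
  set e' : ↥(cc x) := ⟨e, he⟩
  have hep : IsPGroup 2 (Subgroup.zpowers e') := zpowers_two (Subtype.ext he2)
  have hcov : K ≤ f.range ⊔ pPrimeCore 2 ↥(cc x) := by
    intro k hk
    have hkE : ff x k ∈ E := pEl_le (E.comap (ff x)) hk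
    have h1 : ff x k ∈ Subgroup.centralizer
        (((Subgroup.zpowers e').map (ff x) : Subgroup _) : Set (qq x)) := by
      rintro _ ⟨n, hn, rfl⟩
      obtain ⟨i, rfl⟩ := Subgroup.mem_zpowers_iff.mp hn
      rw [map_zpow]
      exact ((show Commute (ff x e') (ff x k) from (hce _ hkE).symm).zpow_left i).eq
    obtain ⟨k', hk', hkk⟩ := (bar_centralizer_two hep).ge h1
    have hk'e : (k' : L) ∈ cc e := mem_cc.mpr (congrArg Subtype.val (hk' e' (Subgroup.mem_zpowers e')).symm)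
    have hk'C : (⟨k', hk'e⟩ : ↥(cc e)) ∈ C := fun n hn => by
      obtain ⟨i, rfl⟩ := Subgroup.mem_zpowers_iff.mp hn
      exact ((show Commute xe ⟨k', hk'e⟩ from Subtype.ext (mem_cc.mp k'.2).symm).zpow_left i).eq
    rw [show k = k' * (k'⁻¹ * k) by group]
    exact Subgroup.mul_mem_sup ⟨⟨⟨k', hk'e⟩, hk'C⟩, Subtype.ext rfl⟩ (QuotientGroup.eq.mp hkk)
  obtain ⟨V, hV, hKV⟩ := exists_pcomp_centralizer f hf hK hcov
  have hVL : V.map C.subtype ≤ pLayer 2 ↥(cc e) :=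
    (Subgroup.map_mono (le_sSup hV)).trans (pLayer_balance_two_centralizer _ hRp)
  by_contra hnb
  simp only [BlockedAt, not_exists, not_and, not_not] at hnb
  obtain ⟨a, ha, ha1⟩ : ∃ a ∈ A, a ≠ 1 := A.bot_or_exists_ne_one.resolve_left H.closed.ne_bot
  have hae : a ∈ cc e := mem_cc.mpr (H.central e heS a ha).symm
  have hax : a ∈ cc x := hB.le ha
  have hlay : layer (qq e) ≤ Subgroup.centralizer ({ff e ⟨a, hae⟩} : Set (qq e)) := sSup_le fun D hD d hd => by
    rw [Subgroup.mem_centralizer_singleton_iff]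
    exact hnb D hD a ha hae d hd
  have hO : pPrimeCore 2 (qq x) = ⊥ := pPrimeCore_quotient_eq_bot 2
  have hcomm : ∀ v ∈ V, ff x ⟨a, hax⟩ * ff x (f v) * (ff x ⟨a, hax⟩)⁻¹ * (ff x (f v))⁻¹ ∈
      Subgroup.centralizer (E : Set (qq x)) := by
    intro v hv
    have h1 : ff e (v : ↥(cc e)) ∈ layer (qq e) := by
      rw [← map_pLayer]; exact Subgroup.mem_map_of_mem _ (hVL ⟨v, hv, rfl⟩)
    have h2 : (⟨a, hae⟩ : ↥(cc e)) * (v : ↥(cc e)) * (⟨a, hae⟩)⁻¹ * (v : ↥(cc e))⁻¹ ∈ pPrimeCore 2 ↥(cc e) := by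
      refine (QuotientGroup.eq_one_iff _).mp ?_
      show ff e _ = 1
      rw [map_mul, map_mul, map_mul, map_inv, map_inv,
        ← Subgroup.mem_centralizer_singleton_iff.mp (hlay h1), mul_inv_cancel_right, mul_inv_cancel]
    have hcen : ff x (⟨a, hax⟩ * f v * ⟨a, hax⟩⁻¹ * (f v)⁻¹) ∈ coreC (Subgroup.zpowers (ff x e')) :=
      image_core he he2 _ ⟨_, h2, rfl⟩
    rw [← map_inv, ← map_inv, ← map_mul, ← map_mul, ← map_mul]
    refine coreC_centralizes_component (fun H _ _ h => CfsgLib.OddOrder.feitThompson h) hO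
      (zpowers_two (by rw [← map_mul, show e' * e' = 1 from Subtype.ext he2, map_one])) hB.comp ?_ hcen
    intro d hd n hn
    obtain ⟨i, rfl⟩ := Subgroup.mem_zpowers_iff.mp hn
    exact ((show Commute (ff x e') d from (hce d hd).symm).zpow_left i).eq
  refine ha1 (hB.faithful a ha hax fun d hd => ?_)
  have hdK : d ∈ K.map (ff x) := by rw [hKdef, map_pEl_comap 2 hB.comp]; exact hd
  obtain ⟨k, hk, rfl⟩ := hdK
  obtain ⟨_, ⟨v, hv, rfl⟩, o, ho, rfl⟩ := Subgroup.mem_sup_of_normal_right.mp (hKV hk)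
  have hd' : ff x (f v) ∈ E := by
    rwa [map_mul, show ff x o = 1 from (QuotientGroup.eq_one_iff o).mpr ho, mul_one] at hd
  rw [map_mul, show ff x o = 1 from (QuotientGroup.eq_one_iff o).mpr ho, mul_one]
  have haE := hB.inner a ha hax
  have hE2 : ff x ⟨a, hax⟩ * ff x (f v) * (ff x ⟨a, hax⟩)⁻¹ * (ff x (f v))⁻¹ ∈ E :=
    mul_mem (mul_mem (mul_mem haE hd') (inv_mem haE)) (inv_mem hd')
  have hz : (⟨_, hE2⟩ : ↥E) ∈ Subgroup.center ↥E :=
    Subgroup.mem_center_iff.mpr fun g => Subtype.ext (hcomm v hv g g.2)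
  rw [hB.center, Subgroup.mem_bot] at hz
  have hz' : ff x ⟨a, hax⟩ * ff x (f v) * (ff x ⟨a, hax⟩)⁻¹ * (ff x (f v))⁻¹ = 1 := congrArg Subtype.val hz
  rw [mul_inv_eq_one, mul_inv_eq_iff_eq_mul] at hz'
  exact hz'.symm

theorem mem_CE_self {x : L} (hxS : x ∈ (S : Subgroup L)) (E : Subgroup (qq x)) : x ∈ CE S x E := by
  refine mem_CE.mpr ⟨hxS, mem_cc.mpr rfl, fun d _ => ?_⟩
  obtain ⟨y, rfl⟩ := bar_surjective 2 d
  rw [← map_mul, ← map_mul]
  exact congrArg _ (Subtype.ext (mem_cc.mp y.2))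

theorem CE_le {x : L} (E : Subgroup (qq x)) : CE S x E ≤ (S : Subgroup L) ⊓ cc x := fun g hg => by
  obtain ⟨hS, h, -⟩ := mem_CE.mp hg
  exact ⟨hS, h⟩

/-- `C_S(x) = A × C_{C_S(x)}(E)`. -/
theorem CE_split {x : L} {E : Subgroup (qq x)} (hB : BlockData S A x E) {g : L}
    (hg : g ∈ (S : Subgroup L) ⊓ cc x) : ∃ a ∈ A, ∃ c ∈ CE S x E, a * c = g := by
  obtain ⟨a, ha, hax, h⟩ := hB.split g hg.1 hg.2
  refine ⟨a, ha, a * g, mem_CE.mpr ⟨mul_mem (H.le_S ha) hg.1, mul_mem hax hg.2, ?_⟩, ?_⟩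
  · rw [show (⟨a * g, mul_mem hax hg.2⟩ : ↥(cc x)) = ⟨a, hax⟩ * ⟨g, hg.2⟩ from rfl, map_mul]
    exact h
  · rw [← mul_assoc, H.sq ha, one_mul]

theorem CE_inf {x : L} {E : Subgroup (qq x)} (hB : BlockData S A x E) {a : L} (ha : a ∈ A)
    (hc : a ∈ CE S x E) : a = 1 := by
  obtain ⟨-, h, he⟩ := mem_CE.mp hc
  exact hB.faithful a ha h he

theorem CE_normal {x : L} {E : Subgroup (qq x)} (hB : BlockData S A x E) :
    (S : Subgroup L) ⊓ cc x ≤ Subgroup.normalizer (CE S x E : Set L) := fun y hy =>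
  CfsgLib.Bender.TwoClosed.mem_normalizer_of_conj fun c hc => by
    obtain ⟨hcS, hcx, hcE⟩ := mem_CE.mp hc
    obtain ⟨j, hj⟩ := S.2 ⟨y, hy.1⟩
    obtain ⟨i, -, hi⟩ := (Nat.dvd_prime_pow Nat.prime_two).mp
      (orderOf_dvd_of_pow_eq_one (show y ^ 2 ^ j = 1 from congrArg Subtype.val hj))
    have hyN := hB.normal ⟨y, hy.2⟩ ⟨i, hi⟩
    refine mem_CE.mpr ⟨mul_mem (mul_mem hy.1 hcS) (inv_mem hy.1), mul_mem (mul_mem hy.2 hcx) (inv_mem hy.2), ?_⟩
    intro d hd
    set η := ff x ⟨y, hy.2⟩ with hη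
    have hd' : η⁻¹ * d * η ∈ E := (Subgroup.mem_normalizer_iff''.mp hyN d).mp hd
    have h := hcE _ hd'
    show d * ff x (⟨y, hy.2⟩ * ⟨c, hcx⟩ * ⟨y, hy.2⟩⁻¹) = ff x (⟨y, hy.2⟩ * ⟨c, hcx⟩ * ⟨y, hy.2⟩⁻¹) * d
    rw [map_mul, map_mul, map_inv, ← hη]
    calc d * (η * ff x ⟨c, hcx⟩ * η⁻¹) = η * ((η⁻¹ * d * η) * ff x ⟨c, hcx⟩) * η⁻¹ := by group
      _ = η * (ff x ⟨c, hcx⟩ * (η⁻¹ * d * η)) * η⁻¹ := by rw [h]
      _ = η * ff x ⟨c, hcx⟩ * η⁻¹ * d := by group

/-- Outside `A` an involution of `S` is not central in `S`, so its centraliser grows. -/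
theorem exists_grow {x : L} (hxS : x ∈ (S : Subgroup L)) (hx2 : x * x = 1) (hxA : x ∉ A) :
    ∃ g ∈ (S : Subgroup L), g ∉ cc x ∧ g ∈ Subgroup.normalizer (((S : Subgroup L) ⊓ cc x : Subgroup L) : Set L) ∧
      g * g ∈ (S : Subgroup L) ⊓ cc x := by
  haveI : Fact (Nat.Prime 2) := ⟨Nat.prime_two⟩
  set Y := (S : Subgroup L) ⊓ cc x with hY
  have hlt : Y.subgroupOf (S : Subgroup L) < ⊤ := lt_top_iff_ne_top.mpr fun e => hxA (H.center x hxS hx2 fun s hs =>
    (mem_cc.mp (Subgroup.subgroupOf_eq_top.mp e hs).2).symm)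
  haveI := (IsPGroup.isNilpotent S.2)
  obtain ⟨g0, hg0N, hg0Y⟩ := SetLike.exists_of_lt (Group.normalizerCondition_of_isNilpotent (Y.subgroupOf (S : Subgroup L)) hlt)
  have hgN : (g0 : L) ∈ Subgroup.normalizer (Y : Set L) := CfsgLib.Bender.TwoClosed.mem_normalizer_of_conj fun y hy =>
    (Subgroup.mem_normalizer_iff.mp hg0N ⟨y, hy.1⟩).mp hy
  obtain ⟨k, hk⟩ := S.2 g0
  have hk' : (g0 : L) ^ 2 ^ k = 1 := congrArg Subtype.val hk
  classical
  have hex : ∃ j, (g0 : L) ^ 2 ^ j ∈ Y := ⟨k, hk' ▸ one_mem Y⟩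
  set j := Nat.find hex with hj
  have hj0 : j ≠ 0 := fun e => hg0Y (by
    have := Nat.find_spec hex
    rw [← hj, e, pow_zero, pow_one] at this
    exact this)
  refine ⟨(g0 : L) ^ 2 ^ (j - 1), pow_mem g0.2 _, fun h => Nat.find_min hex (show j - 1 < j by omega)
    ⟨pow_mem g0.2 _, h⟩, pow_mem hgN _, ?_⟩
  rw [← pow_add, ← two_mul, ← pow_succ', Nat.sub_add_cancel (by omega)]
  exact Nat.find_spec hex

/-- The centraliser in `S` of a blocked involution is elementary abelian. -/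
theorem elementary {x : L} (hxS : x ∈ (S : Subgroup L)) (hx2 : x * x = 1) (hxA : x ∉ A) (hb : BlockedAt A x) :
    ∀ g ∈ (S : Subgroup L) ⊓ cc x, g * g = 1 := by
  classical
  by_contra hcon
  have hne : (Set.univ ∩ {x : L | x ∈ (S : Subgroup L) ∧ x * x = 1 ∧ x ∉ A ∧ BlockedAt A x ∧
      ¬ ∀ g ∈ (S : Subgroup L) ⊓ cc x, g * g = 1}).Nonempty := ⟨x, trivial, hxS, hx2, hxA, hb, hcon⟩
  obtain ⟨y, ⟨-, hyS, hy2, hyA, hyb, hybad⟩, hmax⟩ := Set.exists_max_image _
    (fun y : L => Nat.card ↥((S : Subgroup L) ⊓ cc y)) (Set.toFinite _) hne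
  obtain ⟨E, hB⟩ := H.blockData hyS (fun e => hyA (e ▸ one_mem A)) hyb
  set Y := (S : Subgroup L) ⊓ cc y with hY
  obtain ⟨g, hgS, hgy, hgN, hg2⟩ := H.exists_grow hyS hy2 hyA
  set C := CE S y E
  set C' := C.map (MulAut.conj g).toMonoidHom with hC'
  have hCY : C ≤ Y := H.CE_le E
  have hmapY : ∀ z ∈ Y, g * z * g⁻¹ ∈ Y := fun z hz => (Subgroup.mem_normalizer_iff.mp hgN z).mp hz
  have hD : C ⊓ C' = ⊥ := by
    by_contra hne'
    have hYC : Y ≤ Subgroup.normalizer (C : Set L) := H.CE_normal hB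
    have hYC' : Y ≤ Subgroup.normalizer (C' : Set L) := fun z hz =>
      CfsgLib.Bender.TwoClosed.mem_normalizer_of_conj (by
        rintro _ ⟨c, hc, rfl⟩
        have h1 : g⁻¹ * z * g ∈ Y := (Subgroup.mem_normalizer_iff''.mp hgN z).mp hz
        refine ⟨(g⁻¹ * z * g) * c * (g⁻¹ * z * g)⁻¹, (Subgroup.mem_normalizer_iff.mp (hYC h1) c).mp hc, ?_⟩
        show g * ((g⁻¹ * z * g) * c * (g⁻¹ * z * g)⁻¹) * g⁻¹ = z * (g * c * g⁻¹) * z⁻¹
        group)
    have hgD : g ∈ Subgroup.normalizer ((C ⊓ C' : Subgroup L) : Set L) :=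
      CfsgLib.Bender.TwoClosed.mem_normalizer_of_conj (by
        rintro d ⟨hd, c, hc, rfl⟩
        refine ⟨?_, ⟨_, hd, rfl⟩⟩
        show g * (g * c * g⁻¹) * g⁻¹ ∈ C
        rw [show g * (g * c * g⁻¹) * g⁻¹ = (g * g) * c * (g * g)⁻¹ by group]
        exact (Subgroup.mem_normalizer_iff.mp (hYC hg2) c).mp hc)
    set W := Y ⊔ Subgroup.zpowers g
    have hWS : W ≤ (S : Subgroup L) := sup_le inf_le_left (Subgroup.zpowers_le.mpr hgS)
    obtain ⟨e, he, he2, he1, hec⟩ := exists_central_involution (S.2.to_le hWS)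
      ((inf_le_left.trans hCY).trans le_sup_left : C ⊓ C' ≤ W)
      (sup_le (fun z hz => CfsgLib.Bender.TwoClosed.mem_normalizer_of_conj fun d hd =>
        ⟨(Subgroup.mem_normalizer_iff.mp (hYC hz) d).mp hd.1, (Subgroup.mem_normalizer_iff.mp (hYC' hz) d).mp hd.2⟩)
        (Subgroup.zpowers_le.mpr hgD)) hne'
    obtain ⟨heS, hex, heE⟩ := mem_CE.mp he.1
    have heA : e ∉ A := fun h => he1 (H.CE_inf hB h he.1)
    have heb := H.blocked_of_centralizes hB hy2 he2 hex heS heE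
    have hWe : W ≤ (S : Subgroup L) ⊓ cc e := fun w hw => ⟨hWS hw, mem_cc.mpr (hec w hw).symm⟩
    have hlt : Y < W := lt_of_le_of_ne le_sup_left fun h =>
      hgy (show g ∈ Y from h ▸ Subgroup.mem_sup_right (Subgroup.mem_zpowers g)).2
    have hbig : Nat.card Y < Nat.card ↥((S : Subgroup L) ⊓ cc e) := by
      refine lt_of_lt_of_le ?_ (Subgroup.card_le_of_le hWe)
      refine lt_of_le_of_ne (Subgroup.card_le_of_le hlt.le) fun h => hlt.ne ?_
      exact Subgroup.eq_of_le_of_card_ge hlt.le h.ge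
    refine absurd (hmax e ⟨trivial, heS, he2, heA, heb, fun h => ?_⟩) (not_le.mpr hbig)
    -- an elementary centraliser of `e` would be abelian and contain `y`
    have h1 := h g (hWe (Subgroup.mem_sup_right (Subgroup.mem_zpowers g)))
    have h2 := h (g * y) (mul_mem (hWe (Subgroup.mem_sup_right (Subgroup.mem_zpowers g)))
      (hWe (Subgroup.mem_sup_left ⟨hyS, mem_cc.mpr rfl⟩)))
    refine hgy (mem_cc.mpr ?_)
    have h3 := inv_eq_of_mul_eq_one_right h2
    rw [mul_inv_rev, inv_eq_of_mul_eq_one_right hy2, inv_eq_of_mul_eq_one_right h1] at h3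
    exact h3.symm
  -- so `C` embeds in `A`
  have hCsq : ∀ c ∈ C, c * c = 1 := by
    intro c hc
    have hcc : g * c * g⁻¹ ∈ Y := hmapY c (hCY hc)
    obtain ⟨a, ha, d, hd, he⟩ := H.CE_split hB hcc
    have h1 : g * (c * c) * g⁻¹ = d * d := by
      have hda : d * a = a * d := H.central d (hCY hd).1 a ha
      rw [show g * (c * c) * g⁻¹ = (g * c * g⁻¹) * (g * c * g⁻¹) by group, ← he]
      calc a * d * (a * d) = a * (d * a) * d := by group
        _ = a * a * (d * d) := by rw [hda]; group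
        _ = d * d := by rw [H.sq ha, one_mul]
    have h2 : g * (c * c) * g⁻¹ ∈ C ⊓ C' := ⟨h1 ▸ mul_mem hd hd, ⟨c * c, mul_mem hc hc, rfl⟩⟩
    rw [hD, Subgroup.mem_bot] at h2
    exact conj_eq_one_iff.mp h2
  refine hybad fun z hz => ?_
  obtain ⟨a, ha, c, hc, rfl⟩ := H.CE_split hB hz
  calc a * c * (a * c) = a * (c * a) * c := by group
    _ = a * a * (c * c) := by rw [H.central c (hCY hc).1 a ha]; group
    _ = 1 := by rw [H.sq ha, hCsq c hc, one_mul]

theorem comm_cent {x : L} (hxS : x ∈ (S : Subgroup L)) (hx2 : x * x = 1) (hxA : x ∉ A) (hb : BlockedAt A x)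
    {g g' : L} (hg : g ∈ (S : Subgroup L) ⊓ cc x) (hg' : g' ∈ (S : Subgroup L) ⊓ cc x) : g * g' = g' * g := by
  have h := H.elementary hxS hx2 hxA hb
  have h3 := inv_eq_of_mul_eq_one_right (h _ (mul_mem hg hg'))
  rw [mul_inv_rev, inv_eq_of_mul_eq_one_right (h g hg), inv_eq_of_mul_eq_one_right (h g' hg')] at h3
  exact h3.symm

/-- `C_{C_S(x)}(E)` has no non-trivial element conjugated into it by an element that moves `C_S(x)`. -/
theorem CE_inf_conj {x : L} {E : Subgroup (qq x)} (hB : BlockData S A x E) (hxS : x ∈ (S : Subgroup L))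
    (hx2 : x * x = 1) (hxA : x ∉ A) (hb : BlockedAt A x) {g : L} (hgS : g ∈ (S : Subgroup L)) (hgx : g ∉ cc x)
    (hgN : g ∈ Subgroup.normalizer (((S : Subgroup L) ⊓ cc x : Subgroup L) : Set L))
    (hg2 : g * g ∈ (S : Subgroup L) ⊓ cc x) {c : L} (hc : c ∈ CE S x E) (hgc : g * c * g⁻¹ = c) : c = 1 := by
  by_contra hc1
  obtain ⟨hcS, hcx, hcE⟩ := mem_CE.mp hc
  have hc2 := H.elementary hxS hx2 hxA hb c ⟨hcS, hcx⟩
  have hcA : c ∉ A := fun h => hc1 (H.CE_inf hB h hc)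
  have hcb := H.blocked_of_centralizes hB hx2 hc2 hcx hcS hcE
  have hgc' : g ∈ (S : Subgroup L) ⊓ cc c := ⟨hgS, mem_cc.mpr (mul_inv_eq_iff_eq_mul.mp hgc)⟩
  have hxc : x ∈ (S : Subgroup L) ⊓ cc c := ⟨hxS, mem_cc.mpr (mem_cc.mp hcx).symm⟩
  exact hgx (mem_cc.mpr (H.comm_cent hcS hc2 hcA hcb hgc' hxc))

/-- An element moving `C_S(x)` acts trivially on it modulo `A`. -/
theorem conj_coset {x : L} {E : Subgroup (qq x)} (hxS : x ∈ (S : Subgroup L)) (hx2 : x * x = 1) (hxA : x ∉ A)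
    (hb : BlockedAt A x) (hB : BlockData S A x E) {g : L} (hgS : g ∈ (S : Subgroup L)) (hgx : g ∉ cc x)
    (hgN : g ∈ Subgroup.normalizer (((S : Subgroup L) ⊓ cc x : Subgroup L) : Set L))
    (hg2 : g * g ∈ (S : Subgroup L) ⊓ cc x) {c : L} (hc : c ∈ CE S x E) : ∃ β ∈ A, g * c * g⁻¹ = c * β := by
  obtain ⟨a, ha, d, hd, he⟩ := H.CE_split hB ((Subgroup.mem_normalizer_iff.mp hgN c).mp (H.CE_le E hc))
  -- `g * c * g⁻¹ = a * d`; then `c d` is inverted into itself modulo `A`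
  have hY := H.CE_le E
  have hcd : d * c = c * d := H.comm_cent hxS hx2 hxA hb (hY hd) (hY hc)
  have hga : g * a * g⁻¹ = a := by rw [H.central g hgS a ha, mul_inv_cancel_right]
  have hgd : g * d * g⁻¹ = a * c := by
    have h2 : g * g * c * (g * g)⁻¹ = c := by
      rw [H.comm_cent hxS hx2 hxA hb hg2 (hY hc), mul_inv_cancel_right]
    have h3 : g * (a * d) * g⁻¹ = c := by
      rw [he, show g * (g * c * g⁻¹) * g⁻¹ = g * g * c * (g * g)⁻¹ by group, h2]
    rw [show g * (a * d) * g⁻¹ = (g * a * g⁻¹) * (g * d * g⁻¹) by group, hga] at h3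
    calc g * d * g⁻¹ = (a * a) * (g * d * g⁻¹) := by rw [H.sq ha, one_mul]
      _ = a * c := by rw [mul_assoc, h3]
  have hfix : g * (c * d) * g⁻¹ = c * d := by
    rw [show g * (c * d) * g⁻¹ = (g * c * g⁻¹) * (g * d * g⁻¹) by group, ← he, hgd]
    calc a * d * (a * c) = a * (d * a) * c := by group
      _ = a * a * (d * c) := by rw [H.central d (hY hd).1 a ha]; group
      _ = c * d := by rw [H.sq ha, one_mul, hcd]
  have hone := H.CE_inf_conj hB hxS hx2 hxA hb hgS hgx hgN hg2 (mul_mem hc hd) hfix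
  have hd' : d = c := by
    rw [← inv_eq_of_mul_eq_one_right hone]
    exact inv_eq_of_mul_eq_one_right (H.elementary hxS hx2 hxA hb c (hY hc))
  exact ⟨a, ha, by rw [← he, hd', H.central c (hY hc).1 a ha]⟩

/-- The centraliser in `S` of a blocked involution has order at most sixteen. -/
theorem card_cent_le {x : L} (hxS : x ∈ (S : Subgroup L)) (hx2 : x * x = 1) (hxA : x ∉ A) (hb : BlockedAt A x) :
    Nat.card ↥((S : Subgroup L) ⊓ cc x) ≤ 16 := by
  obtain ⟨E, hB⟩ := H.blockData hxS (fun e => hxA (e ▸ one_mem A)) hb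
  obtain ⟨g, hgS, hgx, hgN, hg2⟩ := H.exists_grow hxS hx2 hxA
  choose β hβ hgβ using fun c : CE S x E => H.conj_coset hxS hx2 hxA hb hB hgS hgx hgN hg2 c.2
  have hsq := fun c : CE S x E => H.elementary hxS hx2 hxA hb c (H.CE_le E c.2)
  have hinj : Function.Injective (fun c => (⟨β c, hβ c⟩ : A)) := by
    intro c d e
    have e' : β c = β d := congrArg Subtype.val e
    have hcom : β c * d = d * β c := (H.central d (H.CE_le E d.2).1 _ (hβ c)).symm
    have hfix : g * (c * d : L) * g⁻¹ = c * d := by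
      rw [show g * ((c : L) * d) * g⁻¹ = (g * c * g⁻¹) * (g * d * g⁻¹) by group, hgβ c, hgβ d, ← e']
      calc (c : L) * β c * (d * β c) = c * (β c * d) * β c := by group
        _ = c * d * (β c * β c) := by rw [hcom]; group
        _ = c * d := by rw [H.sq (hβ c), mul_one]
    have h := H.CE_inf_conj hB hxS hx2 hxA hb hgS hgx hgN hg2 (mul_mem c.2 d.2) hfix
    exact Subtype.ext ((inv_eq_of_mul_eq_one_right (hsq c)).symm.trans (inv_eq_of_mul_eq_one_right h))
  have hC : Nat.card (CE S x E) ≤ 4 := H.card ▸ Nat.card_le_card_of_injective _ hinj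
  choose a ha d hd he using fun y : ↥((S : Subgroup L) ⊓ cc x) => H.CE_split hB y.2
  have hY := Nat.card_le_card_of_injective (fun y => ((⟨a y, ha y⟩ : A), (⟨d y, hd y⟩ : CE S x E)))
    fun y z e => Subtype.ext (by
      have e1 : a y = a z := congrArg (fun w : A × CE S x E => (w.1 : L)) e
      have e2 : d y = d z := congrArg (fun w : A × CE S x E => (w.2 : L)) e
      rw [← he y, ← he z, e1, e2])
  rw [Nat.card_prod, H.card] at hY
  omega

/-- A blocked involution is conjugate under `C(A)` to all its products with elements of `A`. -/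
theorem coset_conj {x : L} (hxS : x ∈ (S : Subgroup L)) (hx2 : x * x = 1) (hxA : x ∉ A) (hb : BlockedAt A x)
    {α : L} (hα : α ∈ A) : ∃ c ∈ Subgroup.centralizer (A : Set L), c * x * c⁻¹ = x * α := by
  rcases eq_or_ne α 1 with rfl | hα1
  · exact ⟨1, one_mem _, by simp⟩
  obtain ⟨E, hB⟩ := H.blockData hxS (fun e => hxA (e ▸ one_mem A)) hb
  obtain ⟨g, hgS, hgx, hgN, hg2⟩ := H.exists_grow hxS hx2 hxA
  have hxY : x ∈ (S : Subgroup L) ⊓ cc x := ⟨hxS, mem_cc.mpr rfl⟩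
  have htriv := fun c hc => H.conj_coset hxS hx2 hxA hb hB hgS hgx hgN hg2 (c := c) hc
  obtain ⟨β, hβ, hgβ⟩ := htriv x (H.mem_CE_self hxS E)
  have hβ1 : β ≠ 1 := fun e => hgx (mem_cc.mpr (mul_inv_eq_iff_eq_mul.mp (by rw [hgβ, e, mul_one])))
  obtain ⟨k, hkN, hkx, htr⟩ := hB.trans
  obtain ⟨i, hi⟩ := htr β hβ hβ1 α hα hα1
  have hkA : k ^ i ∈ Subgroup.normalizer (A : Set L) := pow_mem hkN i
  refine ⟨k ^ i * g * (k ^ i)⁻¹, fun a ha => ?_, ?_⟩
  · have h := (H.central g hgS _ ((Subgroup.mem_normalizer_iff''.mp hkA a).mp ha)).symm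
    calc a * (k ^ i * g * (k ^ i)⁻¹) = k ^ i * (((k ^ i)⁻¹ * a * k ^ i) * g) * (k ^ i)⁻¹ := by group
      _ = k ^ i * (g * ((k ^ i)⁻¹ * a * k ^ i)) * (k ^ i)⁻¹ := by rw [h]
      _ = k ^ i * g * (k ^ i)⁻¹ * a := by group
  · have hc : Commute (k ^ i) x := (show Commute k x from hkx).pow_left i
    calc k ^ i * g * (k ^ i)⁻¹ * x * (k ^ i * g * (k ^ i)⁻¹)⁻¹
        = k ^ i * g * ((k ^ i)⁻¹ * x * k ^ i) * g⁻¹ * (k ^ i)⁻¹ := by group
      _ = k ^ i * g * x * g⁻¹ * (k ^ i)⁻¹ := by rw [mul_assoc _ x, ← hc.eq, inv_mul_cancel_left]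
      _ = k ^ i * (g * x * g⁻¹) * (k ^ i)⁻¹ := by group
      _ = x * (k ^ i * β * (k ^ i)⁻¹) := by
          rw [hgβ, show k ^ i * (x * β) * (k ^ i)⁻¹ = (k ^ i * x) * β * (k ^ i)⁻¹ by group, hc.eq]; group
      _ = x * α := by rw [hi]

/-- Blocking is invariant under `C(A)`. -/
theorem blocked_conj {x c : L} (hc : c ∈ Subgroup.centralizer (A : Set L)) (hb : BlockedAt A x) :
    BlockedAt A (c * x * c⁻¹) := by
  obtain ⟨E, hE, a, ha, hax, hnot⟩ := hb
  let e : ↥(cc x) ≃* ↥(cc (c * x * c⁻¹)) :=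
    { toFun := fun y => ⟨c * y * c⁻¹, mem_cc.mpr (by
        have h := mem_cc.mp y.2
        calc c * (y : L) * c⁻¹ * (c * x * c⁻¹) = c * ((y : L) * x) * c⁻¹ := by group
          _ = c * (x * (y : L)) * c⁻¹ := by rw [h]
          _ = c * x * c⁻¹ * (c * (y : L) * c⁻¹) := by group)⟩
      invFun := fun y => ⟨c⁻¹ * y * c, mem_cc.mpr (by
        have h := mem_cc.mp y.2
        calc c⁻¹ * (y : L) * c * x = c⁻¹ * ((y : L) * (c * x * c⁻¹)) * c := by group
          _ = c⁻¹ * (c * x * c⁻¹ * (y : L)) * c := by rw [h]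
          _ = x * (c⁻¹ * (y : L) * c) := by group)⟩
      left_inv := fun y => Subtype.ext (by show c⁻¹ * (c * (y : L) * c⁻¹) * c = y; group)
      right_inv := fun y => Subtype.ext (by show c * (c⁻¹ * (y : L) * c) * c⁻¹ = y; group)
      map_mul' := fun y z => Subtype.ext (by
        show c * ((y : L) * z) * c⁻¹ = c * (y : L) * c⁻¹ * (c * (z : L) * c⁻¹); group) }
  have hmap : (pPrimeCore 2 ↥(cc x)).map e.toMonoidHom = pPrimeCore 2 ↥(cc (c * x * c⁻¹)) := by
    haveI := (inferInstance : (pPrimeCore 2 ↥(cc x)).Normal).map e.toMonoidHom e.surjective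
    haveI := (inferInstance : (pPrimeCore 2 ↥(cc (c * x * c⁻¹))).Normal).map e.symm.toMonoidHom e.symm.surjective
    refine le_antisymm (le_pPrimeCore ?_) fun y hy => ?_
    · rw [Subgroup.card_map_of_injective (f := e.toMonoidHom) e.injective]
      exact card_pPrimeCore_coprime 2
    · rw [Subgroup.mem_map_equiv]
      refine (le_pPrimeCore (p := 2) (N := (pPrimeCore 2 ↥(cc (c * x * c⁻¹))).map e.symm.toMonoidHom) ?_) ⟨y, hy, rfl⟩
      rw [Subgroup.card_map_of_injective (f := e.symm.toMonoidHom) e.symm.injective]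
      exact card_pPrimeCore_coprime 2
  let q : qq x ≃* qq (c * x * c⁻¹) := QuotientGroup.congr _ _ e hmap
  have hca : c * a * c⁻¹ = a := by rw [← hc a ha, mul_inv_cancel_right]
  have hax' : a ∈ cc (c * x * c⁻¹) := hca ▸ (e ⟨a, hax⟩).2
  refine ⟨E.map q.toMonoidHom, isComponent_map_equiv q hE, a, ha, hax', fun hh => hnot fun d hd => ?_⟩
  have hq : q (ff x ⟨a, hax⟩) = ff (c * x * c⁻¹) ⟨a, hax'⟩ := by
    show ff _ (e ⟨a, hax⟩) = _
    exact congrArg _ (Subtype.ext hca)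
  refine q.injective ?_
  rw [map_mul, map_mul, hq]
  exact hh (q d) ⟨d, hd, rfl⟩

/-- Every involution of `S` outside `A` is blocked. -/
theorem all_blocked {d : L} (hd : d ∈ (S : Subgroup L)) (hd2 : d * d = 1) (hdA : d ∉ A) : BlockedAt A d := by
  obtain ⟨c, hc, hb⟩ := H.blocked d hd hd2 hdA
  have hx2 : (d * c) * (d * c) = 1 := by
    calc d * c * (d * c) = d * (c * d) * c := by group
      _ = (d * d) * (c * c) := by rw [← H.central d hd c hc]; group
      _ = 1 := by rw [hd2, H.sq hc, one_mul]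
  have hxA : d * c ∉ A := fun h => hdA (by
    have := mul_mem h hc
    rwa [mul_assoc, H.sq hc, mul_one] at this)
  obtain ⟨g, hg, hgx⟩ := H.coset_conj (mul_mem hd (H.le_S hc)) hx2 hxA hb hc
  have h := H.blocked_conj hg hb
  rwa [hgx, mul_assoc, H.sq hc, mul_one] at h

/-- The centraliser in `S` of an involution outside `A` is elementary abelian. -/
theorem elementary_all {d g : L} (hd : d ∈ (S : Subgroup L)) (hd2 : d * d = 1) (hdA : d ∉ A)
    (hg : g ∈ (S : Subgroup L)) (hgd : g * d = d * g) : g * g = 1 :=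
  H.elementary hd hd2 hdA (H.all_blocked hd hd2 hdA) g ⟨hg, mem_cc.mpr hgd⟩

end FourHyp

end CfsgLib.S3Simple
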