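import Cfsg.Agent.Lib.S3Simple.Four.Elementary
import Cfsg.Agent.Lib.S3Simple.Four.Centre
import Cfsg.Agent.Lib.S3Simple.Generation
import Cfsg.Agent.Lib.S3Simple.Local
import Cfsg.Agent.Lib.ReeTori.PSLFacts

/-!
Section 6.3: a proper subgroup containing `S` is `O(H) N_H(A)`; the centraliser of `A` modulo its core has no
components and no section `L₂(q)`, `q ≥ 27`; `O(C(x)) ∩ C(a) ≤ O(C(a))` for the blocked involutions `x`.

Blueprint: `blueprint/S3Free.md`, 6.3.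
-/

set_option autoImplicit false
set_option linter.unusedSectionVars false
set_option linter.style.haveILetI false

namespace CfsgLib.S3Simple

open Cfsg CfsgLib.Comp CfsgLib.AfterFT.CoreSep

universe u

variable {L : Type u} [Group L] [Finite L]

/-- The restriction to a Sylow subgroup of the passage to the reduced form of a subgroup containing it. -/
theorem bar_injOn_two {H : Subgroup L} {S : Subgroup L} (hS : IsPGroup 2 S) {s t : ↥H} (hs : (s : L) ∈ S)
    (ht : (t : L) ∈ S) (h : bar 2 ↥H s = bar 2 ↥H t) : s = t := by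
  have h1 := (QuotientGroup.eq (s := pPrimeCore 2 ↥H)).mp h
  have hodd : Odd (orderOf (s⁻¹ * t)) := Odd.of_dvd_nat
    (Nat.coprime_two_right.mp (card_pPrimeCore_coprime 2)) (Subgroup.orderOf_dvd_natCard _ h1)
  obtain ⟨k, hk⟩ := hS ⟨(s : L)⁻¹ * t, mul_mem (inv_mem hs) ht⟩
  exact inv_mul_eq_one.mp (eq_one_of_odd_of_two_pow hodd (k := k) (Subtype.ext (congrArg Subtype.val hk :)))

namespace FourHyp

variable {S : Sylow 2 L} {A : Subgroup L} (H : FourHyp S A)
include H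

/-- A proper subgroup containing `S` is `O(H) N_H(A)`, provided some involution lies outside `A`. -/
theorem local_split (hout : ∃ x ∈ (S : Subgroup L), x * x = 1 ∧ x ∉ A) {K : Subgroup L} (hK : K ≠ ⊤)
    (hSK : (S : Subgroup L) ≤ K) {h : L} (hh : h ∈ K) :
    ∃ o ∈ (pPrimeCore 2 ↥K).map K.subtype, ∃ n ∈ Subgroup.normalizer (A : Set L), n ∈ K ∧ o * n = h := by
  classical
  haveI : Fact (Nat.Prime 2) := ⟨Nat.prime_two⟩
  have hAK : A ≤ K := H.le_S.trans hSK
  let T0 : Sylow 2 ↥K := S.subtype hSK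
  have hAT : A.subgroupOf K ≤ (T0 : Subgroup ↥K) := fun a ha => H.le_S ha
  have hC := H.closed.bar hAK T0 hAT
  have hM : Ctx (↥K ⧸ pPrimeCore 2 ↥K) := H.hyp.ctxSub hK
  set T := T0.mapSurjective (QuotientGroup.mk'_surjective (pPrimeCore 2 ↥K)) with hT
  set B := (A.subgroupOf K).map (QuotientGroup.mk' (pPrimeCore 2 ↥K)) with hB
  have hinj : ∀ {s t : ↥K}, (s : L) ∈ (S : Subgroup L) → (t : L) ∈ (S : Subgroup L) →
      bar 2 ↥K s = bar 2 ↥K t → s = t := fun hs ht e => bar_injOn_two S.2 hs ht e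
  have hTmem : ∀ m ∈ (T : Subgroup (↥K ⧸ pPrimeCore 2 ↥K)), ∃ s : ↥K, (s : L) ∈ (S : Subgroup L) ∧ bar 2 ↥K s = m := by
    rintro _ ⟨s, hs, rfl⟩
    exact ⟨s, hs, rfl⟩
  have hcent : ∀ t ∈ (T : Subgroup (↥K ⧸ pPrimeCore 2 ↥K)), ∀ b ∈ B, t * b = b * t := by
    rintro t ht _ ⟨a, ha, rfl⟩
    obtain ⟨s, hs, rfl⟩ := hTmem t ht
    show bar 2 ↥K s * bar 2 ↥K a = bar 2 ↥K a * bar 2 ↥K s
    rw [← map_mul, ← map_mul]
    exact congrArg _ (Subtype.ext (H.central s hs a ha))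
  have homega : ∀ z ∈ (T : Subgroup (↥K ⧸ pPrimeCore 2 ↥K)), z * z = 1 →
      (∀ t ∈ (T : Subgroup (↥K ⧸ pPrimeCore 2 ↥K)), z * t = t * z) → z ∈ B := by
    intro z hz hz2 hzc
    obtain ⟨s, hs, rfl⟩ := hTmem z hz
    refine ⟨s, H.center s hs ?_ fun t ht => ?_, rfl⟩
    · exact congrArg Subtype.val (hinj (s := s * s) (t := 1) (mul_mem hs hs) (one_mem _) (by rw [map_mul, hz2, map_one]))
    · refine congrArg Subtype.val (hinj (mul_mem hs ht) (mul_mem ht hs) (s := s * ⟨t, hSK ht⟩)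
        (t := ⟨t, hSK ht⟩ * s) ?_)
      rw [map_mul, map_mul]
      exact hzc _ ⟨⟨t, hSK ht⟩, ht, rfl⟩
  have hBcard : Nat.card B ≤ 4 := by
    refine le_trans (Nat.le_of_dvd Nat.card_pos (Subgroup.card_map_dvd _ _)) ?_
    rw [Nat.card_congr (Subgroup.subgroupOfEquivOfLe hAK).toEquiv, H.card]
  -- `B` centralises every component
  have hall : ∀ E : Subgroup (↥K ⧸ pPrimeCore 2 ↥K), IsComponent E → B ≤ Subgroup.centralizer (E : Set (↥K ⧸ pPrimeCore 2 ↥K)) := by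
    intro E hE
    by_contra hne
    obtain ⟨V, k, hV⟩ := hM.exists_compBlock hC hE hne
    have hVB : V = B := Subgroup.eq_of_le_of_card_ge (hV.V_le.trans inf_le_left) (hBcard.trans hV.four_le)
    have hD : B ⊓ Subgroup.centralizer (E : Set (↥K ⧸ pPrimeCore 2 ↥K)) = ⊥ := by
      have h := hV.disjoint
      rwa [hVB, inf_eq_left.mpr inf_le_left] at h
    have hTE : ∀ t ∈ (T : Subgroup (↥K ⧸ pPrimeCore 2 ↥K)), t ∈ Subgroup.normalizer (E : Set (↥K ⧸ pPrimeCore 2 ↥K)) :=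
      fun t ht => (hM.fix_moves hC hE hne (hC.le_normalizer ht) fun d hd => hcent t ht d hd.1).1
    have hTC : (T : Subgroup (↥K ⧸ pPrimeCore 2 ↥K)) ⊓ Subgroup.centralizer (E : Set (↥K ⧸ pPrimeCore 2 ↥K)) = ⊥ := by
      by_contra hne'
      obtain ⟨e, he, he2, he1, hec⟩ := exists_central_involution T.2 inf_le_left (fun t ht =>
        CfsgLib.Bender.TwoClosed.mem_normalizer_of_conj fun c hc =>
          ⟨mul_mem (mul_mem ht hc.1) ((T : Subgroup (↥K ⧸ pPrimeCore 2 ↥K)).inv_mem ht), conj_mem_centralizer (hTE t ht) hc.2⟩) hne'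
      exact he1 (Subgroup.mem_bot.mp (hD ▸ ⟨homega e he.1 he2 hec, he.2⟩))
    have hTle : (T : Subgroup (↥K ⧸ pPrimeCore 2 ↥K)) ≤ E := by
      intro t ht
      obtain ⟨u, hu, v, hv, hvE, rfl⟩ := hM.exists_split T hE ht (hTE t ht)
      have hv1 : v = 1 := Subgroup.mem_bot.mp (hTC ▸ ⟨hv, hvE⟩)
      rw [hv1, mul_one]
      exact hu.2
    obtain ⟨P, hP⟩ := CfsgLib.CharPLocal.exists_sylow_subnormal T hE.1
    set U := P.mapSurjective (QuotientGroup.mk'_surjective (Subgroup.center ↥E))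
    haveI := component_isSimple hE
    have hPinj : ∀ p ∈ (P : Subgroup ↥E), ∀ r ∈ (P : Subgroup ↥E),
        QuotientGroup.mk' (Subgroup.center ↥E) p = QuotientGroup.mk' _ r → p = r := by
      intro p hp r hr e
      have h1 : ((p⁻¹ * r : ↥E) : ↥K ⧸ pPrimeCore 2 ↥K) ∈ (T : Subgroup (↥K ⧸ pPrimeCore 2 ↥K)) ⊓
          Subgroup.centralizer (E : Set (↥K ⧸ pPrimeCore 2 ↥K)) :=
        ⟨(hP.le ⟨_, mul_mem (inv_mem hp) hr, rfl⟩).1, fun d hd => congrArg Subtype.val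
          (Subgroup.mem_center_iff.mp ((QuotientGroup.eq (s := Subgroup.center ↥E)).mp e) ⟨d, hd⟩)⟩
      rw [hTC, Subgroup.mem_bot] at h1
      exact inv_mul_eq_one.mp (Subtype.ext h1)
    rcases suzuki_or_three (hM.comp_listed hE) with hs | ⟨-, h4⟩
    · have h8 := suzuki_eight hs U
      obtain ⟨k', hk'⟩ := exists_twoLocal (hM.comp_listed hE) U
      have hex : ∀ w : {x : ↥E ⧸ Subgroup.center ↥E // x ∈ (U : Subgroup _) ∧ x * x = 1},
          ∃ b : B, ∃ p : ↥E, p ∈ (P : Subgroup ↥E) ∧ QuotientGroup.mk' _ p = w.1 ∧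
            (p : ↥K ⧸ pPrimeCore 2 ↥K) = b := by
        rintro ⟨_, ⟨p, hp, rfl⟩, hw2⟩
        have hp2 : p * p = 1 := hPinj _ (mul_mem hp hp) _ (one_mem _) (by rw [map_mul, hw2, map_one])
        refine ⟨⟨p, homega p (hP.le ⟨p, hp, rfl⟩).1 (congrArg Subtype.val hp2) fun t ht => ?_⟩, p, hp, rfl, rfl⟩
        have htP : (⟨t, hTle ht⟩ : ↥E) ∈ (P : Subgroup ↥E) := by
          rw [← Subgroup.mem_map_iff_mem E.subtype_injective, hP]
          exact ⟨ht, hTle ht⟩
        refine congrArg Subtype.val (hPinj _ (mul_mem hp htP) _ (mul_mem htP hp) ?_)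
        rw [map_mul, map_mul]
        exact hk'.central _ ⟨p, hp, rfl⟩ hw2 _ ⟨_, htP, rfl⟩
      choose b p hp hw hb using hex
      have := Nat.card_le_card_of_injective b fun w w' e => Subtype.ext (by
        rw [← hw w, ← hw w', show p w = p w' from Subtype.ext (by rw [hb w, hb w', e])])
      omega
    · -- `T` has order four, so `S = A`
      obtain ⟨x, hx, hx2, hxA⟩ := hout
      have hmem : ∀ t : (T : Subgroup (↥K ⧸ pPrimeCore 2 ↥K)), (⟨t, hTle t.2⟩ : ↥E) ∈ (P : Subgroup ↥E) := fun t => by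
        rw [← Subgroup.mem_map_iff_mem E.subtype_injective, hP]
        exact ⟨t.2, hTle t.2⟩
      have hTP : Nat.card ↥(T : Subgroup (↥K ⧸ pPrimeCore 2 ↥K)) ≤ 4 := by
        rw [← h4 U]
        refine Nat.card_le_card_of_injective (fun t : (T : Subgroup (↥K ⧸ pPrimeCore 2 ↥K)) =>
          (⟨QuotientGroup.mk' _ ⟨t, hTle t.2⟩, ⟨⟨t, hTle t.2⟩, hmem t, rfl⟩⟩ :
            (U : Subgroup (↥E ⧸ Subgroup.center ↥E)))) fun t t' e => ?_
        exact Subtype.ext (congrArg (fun z : ↥E => (z : ↥K ⧸ pPrimeCore 2 ↥K))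
          (hPinj _ (hmem t) _ (hmem t') (congrArg Subtype.val e)))
      have hS : Nat.card ↥(S : Subgroup L) ≤ 4 := by
        refine le_trans (Nat.card_le_card_of_injective (fun s : ↥(S : Subgroup L) =>
          (⟨bar 2 ↥K ⟨s, hSK s.2⟩, ⟨⟨s, hSK s.2⟩, s.2, rfl⟩⟩ : (T : Subgroup (↥K ⧸ pPrimeCore 2 ↥K))))
          fun s s' e => ?_) hTP
        exact Subtype.ext (congrArg (fun z : ↥K => (z : L)) (hinj (s := ⟨s, hSK s.2⟩) (t := ⟨s', hSK s'.2⟩)
          s.2 s'.2 (congrArg Subtype.val e)))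
      have := Subgroup.eq_of_le_of_card_ge H.le_S (H.card ▸ hS)
      exact hxA (this ▸ hx)
  have hO2 : B ≤ pCore 2 (↥K ⧸ pPrimeCore 2 ↥K) := fun b hb =>
    hM.centralizer_layer_le hC hb fun E hE => hall E hE hb
  haveI : (pCore 2 (↥K ⧸ pPrimeCore 2 ↥K)).Normal := Subgroup.sSup_normal _ (fun _ h => h.1)
  have hn : bar 2 ↥K ⟨h, hh⟩ ∈ Subgroup.normalizer (B : Set (↥K ⧸ pPrimeCore 2 ↥K)) :=
    CfsgLib.Bender.TwoClosed.mem_normalizer_of_conj fun b hb => hC.closed.2 b hb _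
      (pCore_two_le_sylow T (Subgroup.Normal.conj_mem inferInstance b (hO2 hb) _))
  obtain ⟨c, hc, hce⟩ := exists_centralizing_lift (P := A.subgroupOf K) H.isPGroup.comap_subtype ⟨h, hh⟩ hn
  refine ⟨_, ⟨⟨h, hh⟩ * c⁻¹, ?_, rfl⟩, c, ?_, c.2, ?_⟩
  · refine (QuotientGroup.eq_one_iff _).mp ?_
    show bar 2 ↥K _ = 1
    rw [map_mul, map_inv, hce, mul_inv_cancel]
  · refine CfsgLib.Bender.TwoClosed.mem_normalizer_of_conj fun a ha => ?_
    exact (Subgroup.mem_normalizer_iff.mp hc ⟨a, hAK ha⟩).mp ha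
  · show h * (c : L)⁻¹ * c = h
    rw [inv_mul_cancel_right]

/-- An element of `N(A)` fixing a non-identity element of `A` centralises `A`. -/
theorem fix_centralizes {a n : L} (ha : a ∈ A) (ha1 : a ≠ 1) (hn : n ∈ Subgroup.normalizer (A : Set L))
    (hna : n * a = a * n) : n ∈ Subgroup.centralizer (A : Set L) := by
  classical
  haveI : Fact (Nat.Prime 2) := ⟨Nat.prime_two⟩
  set N := Subgroup.normalizer (A : Set L)
  set C := Subgroup.centralizer (A : Set L) with hC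
  have hCN : C ≤ N := Subgroup.centralizer_le_normalizer (A : Set L)
  haveI : (C.subgroupOf N).Normal := ⟨fun c hc g x hx => by
    have h : (g : L)⁻¹ * x * g * (c : L) = (c : L) * ((g : L)⁻¹ * x * g) :=
      hc ((g : L)⁻¹ * x * g) ((Subgroup.mem_normalizer_iff''.mp g.2 x).mp hx)
    show x * ((g : L) * c * (g : L)⁻¹) = (g : L) * c * (g : L)⁻¹ * x
    calc x * ((g : L) * c * (g : L)⁻¹) = g * (((g : L)⁻¹ * x * g) * c) * (g : L)⁻¹ := by group
      _ = g * (c * ((g : L)⁻¹ * x * g)) * (g : L)⁻¹ := by rw [h]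
      _ = g * c * (g : L)⁻¹ * x := by group⟩
  -- `n²` centralises `A`
  have hn2 : n * n ∈ C := by
    have hperm : ∀ b ∈ A, b ≠ 1 → b ≠ a → n * b * n⁻¹ ∈ A ∧ n * b * n⁻¹ ≠ 1 ∧ n * b * n⁻¹ ≠ a := fun b hb hb1 hba =>
      ⟨(Subgroup.mem_normalizer_iff.mp hn b).mp hb, fun e => hb1 (conj_eq_one_iff.mp e), fun e => hba (by
        rw [show b = n⁻¹ * (n * b * n⁻¹) * n by group, e, mul_assoc, ← hna, inv_mul_cancel_left])⟩
    have htwo : ∀ b ∈ A, b ≠ 1 → b ≠ a → ∀ c ∈ A, c ≠ 1 → c ≠ a → c = b ∨ c = a * b := by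
      intro b hb hb1 hba c hc hc1 hca
      have hsub : ({1, a, b, a * b} : Finset L) ⊆ ((Set.toFinite (A : Set L)).toFinset) := by
        intro x hx
        rw [Set.Finite.mem_toFinset]
        simp only [Finset.mem_insert, Finset.mem_singleton] at hx
        rcases hx with rfl | rfl | rfl | rfl
        exacts [one_mem A, ha, hb, mul_mem ha hb]
      have hab : a * b ≠ 1 := fun e => hba (by
        rw [← inv_eq_of_mul_eq_one_right e, inv_eq_of_mul_eq_one_right (H.sq ha)])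
      have hcard : ({1, a, b, a * b} : Finset L).card = 4 := by
        simp [ha1, Ne.symm ha1, Ne.symm hb1, Ne.symm hba, Ne.symm hab, hb1]
      have hA4 : ((Set.toFinite (A : Set L)).toFinset).card = 4 := by
        rw [← Set.ncard_eq_toFinset_card _ (Set.toFinite _), ← Nat.card_coe_set_eq]
        exact H.card
      have hmem : c ∈ ({1, a, b, a * b} : Finset L) := by
        rw [Finset.eq_of_subset_of_card_le hsub (by rw [hA4, hcard]), Set.Finite.mem_toFinset]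
        exact hc
      simp only [Finset.mem_insert, Finset.mem_singleton] at hmem
      tauto
    intro b hb
    by_cases hb1 : b = 1
    · rw [hb1, one_mul, mul_one]
    by_cases hba : b = a
    · rw [hba, ← mul_assoc, ← hna, mul_assoc, ← hna, mul_assoc]
    obtain ⟨h1, h2, h3⟩ := hperm b hb hb1 hba
    refine ((mul_inv_eq_iff_eq_mul (a := n * n * b)).mp ?_).symm
    rcases htwo b hb hb1 hba _ h1 h2 h3 with h | h
    · calc n * n * b * (n * n)⁻¹ = n * (n * b * n⁻¹) * n⁻¹ := by group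
        _ = b := by simp only [h]
    · calc n * n * b * (n * n)⁻¹ = n * (n * b * n⁻¹) * n⁻¹ := by group
        _ = (n * a * n⁻¹) * (n * b * n⁻¹) := by conv_lhs => rw [h]
                                                group
        _ = b := by rw [h, hna, mul_inv_cancel_right, ← mul_assoc, H.sq ha, one_mul]
  set q : ↥N ⧸ C.subgroupOf N := QuotientGroup.mk ⟨n, hn⟩ with hq
  have hq2 : q ^ 2 = 1 := by
    rw [hq, ← QuotientGroup.mk_pow, QuotientGroup.eq_one_iff]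
    show (n : L) ^ 2 ∈ C
    rw [pow_two]; exact hn2
  have hodd : ¬ 2 ∣ (C.subgroupOf N).index := fun hd => S.not_dvd_index
    ((hd.trans (Subgroup.relIndex_dvd_index_of_le hCN)).trans (Subgroup.index_dvd_of_le H.S_le_centralizer))
  have hq1 : q = 1 := by
    have h1 : orderOf q ∣ 2 := orderOf_dvd_of_pow_eq_one hq2
    rcases (Nat.dvd_prime Nat.prime_two).mp h1 with h | h
    · exact orderOf_eq_one_iff.mp h
    · refine absurd ?_ hodd
      rw [Subgroup.index_eq_card, ← h]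
      exact orderOf_dvd_natCard q
  exact ((QuotientGroup.eq_one_iff (N := C.subgroupOf N) ⟨n, hn⟩).mp hq1 : _)

theorem le_cc_centralizer {a : L} (ha : a ∈ A) : Subgroup.centralizer (A : Set L) ≤ cc a :=
  fun _ hg => mem_cc.mpr (hg a ha).symm

theorem S_le_cc {a : L} (ha : a ∈ A) : (S : Subgroup L) ≤ cc a := fun s hs => mem_cc.mpr (H.central s hs a ha)

/-- `C(a) = O(C(a)) C(A)`. -/
theorem cc_split (hout : ∃ x ∈ (S : Subgroup L), x * x = 1 ∧ x ∉ A) {a : L} (ha : a ∈ A) (ha1 : a ≠ 1)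
    {g : L} (hg : g ∈ cc a) :
    ∃ o ∈ centralizerPPrimeCore 2 a, ∃ c ∈ Subgroup.centralizer (A : Set L), o * c = g := by
  obtain ⟨o, ho, c, hc, hca, he⟩ := H.local_split hout (H.cc_ne_top ha1) (H.S_le_cc ha) hg
  exact ⟨o, ho, c, H.fix_centralizes ha ha1 hc (mem_cc.mp hca), he⟩

/-- `O(C(A)) ≤ O(C(a))`. -/
theorem coreC_le_core (hout : ∃ x ∈ (S : Subgroup L), x * x = 1 ∧ x ∉ A) {a : L} (ha : a ∈ A) (ha1 : a ≠ 1) :
    coreC A ≤ centralizerPPrimeCore 2 a := by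
  haveI : Fact (Nat.Prime 2) := ⟨Nat.prime_two⟩
  set W := (coreC A).subgroupOf (cc a)
  have hn : (W.map (ff a)).Normal := ⟨by
    rintro _ ⟨w, hw, rfl⟩ m
    obtain ⟨g, rfl⟩ := bar_surjective 2 m
    obtain ⟨o, ho, c, hc, he⟩ := H.cc_split hout ha ha1 g.2
    obtain ⟨o', ho', hoe⟩ := ho
    have hgc : ff a g = ff a ⟨c, H.le_cc_centralizer ha hc⟩ := by
      rw [show g = o' * ⟨c, H.le_cc_centralizer ha hc⟩ from Subtype.ext (by rw [← he, ← hoe]; rfl), map_mul,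
        show ff a o' = 1 from (QuotientGroup.eq_one_iff _).mpr ho', one_mul]
    rw [hgc, ← map_inv, ← map_mul, ← map_mul]
    exact ⟨_, (Subgroup.mem_normalizer_iff.mp (centralizer_le_normalizer_coreC A hc) _).mp hw, rfl⟩⟩
  have hle : W.map (ff a) ≤ pPrimeCore 2 (qq a) := by
    haveI := hn
    refine le_pPrimeCore (Nat.coprime_two_right.mpr ?_)
    refine Odd.of_dvd_nat (odd_card_coreC A) ((Subgroup.card_map_dvd _ _).trans ?_)
    exact Subgroup.card_dvd_of_injective ((cc a).subtype.subgroupComap (coreC A))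
      (fun x y e => Subtype.ext (Subtype.ext (congrArg (fun z : coreC A => (z : L)) e)))
  intro w hw
  have hwa : w ∈ cc a := H.le_cc_centralizer ha (coreC_centralizes A hw)
  have h1 := hle ⟨⟨w, hwa⟩, hw, rfl⟩
  rw [show pPrimeCore 2 (qq a) = ⊥ from pPrimeCore_quotient_eq_bot 2, Subgroup.mem_bot] at h1
  exact ⟨⟨w, hwa⟩, (QuotientGroup.eq_one_iff _).mp h1, rfl⟩

/-- An element of `O(C(a))` centralising `A` lies in `O(C(A))`. -/
theorem core_inf_centralizer_le {a : L} (ha : a ∈ A) :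
    centralizerPPrimeCore 2 a ⊓ Subgroup.centralizer (A : Set L) ≤ coreC A :=
  le_coreC inf_le_right (fun g hg => mem_normalizer_of_maps fun x hx =>
    ⟨(Subgroup.mem_normalizer_iff.mp (cc_le_normalizer_core a (H.le_cc_centralizer ha hg)) x).mp hx.1,
      mul_mem (mul_mem hg hx.2) ((Subgroup.centralizer (A : Set L)).inv_mem hg)⟩)
    (Nat.coprime_two_right.mpr (odd_of_le inf_le_left (odd_card_core a)))

/-- The centraliser of `A` modulo core satisfies the hypotheses of `CentreHyp`. -/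
theorem centreHyp (hout : ∃ x ∈ (S : Subgroup L), x * x = 1 ∧ x ∉ A) {a : L} (ha : a ∈ A) (ha1 : a ≠ 1) :
    ∃ T : Sylow 2 (qq a), CentreHyp T ((A.subgroupOf (cc a)).map (ff a)) ∧
      ∀ x ∈ (T : Subgroup (qq a)), x * x = 1 → x ∉ (A.subgroupOf (cc a)).map (ff a) →
        Nat.card ↥((T : Subgroup (qq a)) ⊓ cc x) ≤ 16 := by
  classical
  haveI : Fact (Nat.Prime 2) := ⟨Nat.prime_two⟩
  have hSa := H.S_le_cc ha
  have hAa : A ≤ cc a := H.le_S.trans hSa
  set T := (S.subtype hSa).mapSurjective (bar_surjective (G := ↥(cc a)) 2)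
  have hinj : ∀ {s t : ↥(cc a)}, (s : L) ∈ (S : Subgroup L) → (t : L) ∈ (S : Subgroup L) →
      ff a s = ff a t → s = t := fun hs ht e => bar_injOn_two S.2 hs ht e
  have hTmem : ∀ m ∈ (T : Subgroup (qq a)), ∃ s : ↥(cc a), (s : L) ∈ (S : Subgroup L) ∧ ff a s = m := by
    rintro _ ⟨s, hs, rfl⟩
    exact ⟨s, hs, rfl⟩
  have hlift : ∀ x ∈ (T : Subgroup (qq a)), x * x = 1 → x ∉ (A.subgroupOf (cc a)).map (ff a) →
      ∃ d : ↥(cc a), (d : L) ∈ (S : Subgroup L) ∧ (d : L) * d = 1 ∧ (d : L) ∉ A ∧ ff a d = x ∧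
        ∀ t ∈ (T : Subgroup (qq a)), t * x = x * t →
          ∃ s : ↥(cc a), ff a s = t ∧ (s : L) ∈ (S : Subgroup L) ∧ (s : L) * d = d * s := by
    intro x hx hx2 hxB
    obtain ⟨d, hd, rfl⟩ := hTmem x hx
    refine ⟨d, hd, congrArg Subtype.val (hinj (s := d * d) (t := 1) (mul_mem hd hd) (one_mem _) (by rw [map_mul, hx2, map_one])),
      fun h => hxB ⟨d, h, rfl⟩, rfl, fun t ht htd => ?_⟩
    obtain ⟨s, hs, rfl⟩ := hTmem t ht
    exact ⟨s, rfl, hs, congrArg Subtype.val (hinj (mul_mem hs hd) (mul_mem hd hs) (s := s * d) (t := d * s)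
      (by rw [map_mul, map_mul, htd]))⟩
  refine ⟨T, ⟨H.hyp.ctx ha1, ?_, ?_, ?_, ?_, ?_, ?_⟩, ?_⟩
  · rintro _ ⟨x, hx, rfl⟩
    exact ⟨x, H.le_S hx, rfl⟩
  · rintro _ ⟨x, hx, rfl⟩
    refine Subgroup.mem_center_iff.mpr fun m => ?_
    obtain ⟨g, rfl⟩ := bar_surjective 2 m
    obtain ⟨o, ho, c, hc, he⟩ := H.cc_split hout ha ha1 g.2
    obtain ⟨o', ho', hoe⟩ := ho
    have hgc : ff a g = ff a ⟨c, H.le_cc_centralizer ha hc⟩ := by
      rw [show g = o' * ⟨c, H.le_cc_centralizer ha hc⟩ from Subtype.ext (by rw [← he, ← hoe]; rfl), map_mul,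
        show ff a o' = 1 from (QuotientGroup.eq_one_iff _).mpr ho', one_mul]
    show ff a g * ff a x = ff a x * ff a g
    rw [hgc, ← map_mul, ← map_mul]
    exact congrArg _ (Subtype.ext (hc x hx).symm)
  · rw [← H.card]
    refine (Nat.card_eq_of_bijective (fun y : A => (⟨ff a ⟨y, hAa y.2⟩, ⟨_, y.2, rfl⟩⟩ :
      (A.subgroupOf (cc a)).map (ff a))) ⟨fun y z e => ?_, ?_⟩).symm
    · exact Subtype.ext (congrArg (fun w : ↥(cc a) => (w : L))
        (hinj (s := ⟨y, hAa y.2⟩) (t := ⟨z, hAa z.2⟩) (H.le_S y.2) (H.le_S z.2) (congrArg Subtype.val e)))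
    · rintro ⟨_, x, hx, rfl⟩
      exact ⟨⟨x, hx⟩, rfl⟩
  · intro z hz hz2 hzc
    obtain ⟨s, hs, rfl⟩ := hTmem z hz
    refine ⟨s, H.center s hs ?_ fun t ht => ?_, rfl⟩
    · exact congrArg Subtype.val (hinj (s := s * s) (t := 1) (mul_mem hs hs) (one_mem _) (by rw [map_mul, hz2, map_one]))
    · refine congrArg Subtype.val (hinj (mul_mem hs ht) (mul_mem ht hs) (s := s * ⟨t, hSa ht⟩)
        (t := ⟨t, hSa ht⟩ * s) ?_)
      rw [map_mul, map_mul]
      exact hzc _ ⟨⟨t, hSa ht⟩, ht, rfl⟩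
  · intro x hx hx2 hxB t ht htx
    obtain ⟨d, hd, hd2, hdA, -, hl⟩ := hlift x hx hx2 hxB
    obtain ⟨s, rfl, hs, hsd⟩ := hl t ht htx
    rw [← map_mul, ← map_one (ff a)]
    exact congrArg _ (Subtype.ext (H.elementary_all hd hd2 hdA hs hsd))
  · obtain ⟨x, hx, hx2, hxA⟩ := hout
    refine ⟨ff a ⟨x, hSa hx⟩, ⟨_, hx, rfl⟩, ?_, fun ⟨y, hy, he⟩ => ?_⟩
    · rw [← map_mul, ← map_one (ff a)]
      exact congrArg _ (Subtype.ext hx2)
    · have e : (y : L) = x := congrArg (fun w : ↥(cc a) => (w : L)) (hinj (H.le_S hy) hx he)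
      exact hxA (e ▸ hy)
  · intro x hx hx2 hxB
    obtain ⟨d, hd, hd2, hdA, -, hl⟩ := hlift x hx hx2 hxB
    refine le_trans ?_ (H.card_cent_le hd hd2 hdA (H.all_blocked hd hd2 hdA))
    choose s hs hsS hsd using fun t : ↥((T : Subgroup (qq a)) ⊓ cc x) => hl t t.2.1 (mem_cc.mp t.2.2)
    refine Nat.card_le_card_of_injective (fun t => (⟨(s t : L), hsS t, mem_cc.mpr (hsd t)⟩ :
      ↥((S : Subgroup L) ⊓ cc (d : L)))) fun t t' e => ?_
    refine Subtype.ext ?_
    rw [← hs t, ← hs t']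
    exact congrArg _ (Subtype.ext (congrArg (fun w : ↥((S : Subgroup L) ⊓ cc (d : L)) => (w : L)) e))

/-- `O(C(x)) ∩ C(a) ≤ O(C(a))` for an involution `x` outside `A`. -/
theorem core_inf_cc_le (hout : ∃ x ∈ (S : Subgroup L), x * x = 1 ∧ x ∉ A) {a : L} (ha : a ∈ A) (ha1 : a ≠ 1)
    {x : L} (hx : x ∈ (S : Subgroup L)) (hx2 : x * x = 1) :
    centralizerPPrimeCore 2 x ⊓ cc a ≤ centralizerPPrimeCore 2 a := by
  haveI : Fact (Nat.Prime 2) := ⟨Nat.prime_two⟩
  obtain ⟨T, hT, -⟩ := H.centreHyp hout ha ha1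
  intro w hw
  have hxa : x ∈ cc a := H.S_le_cc ha hx
  have h1 : ff a ⟨w, hw.2⟩ ∈ coreC (Subgroup.zpowers (ff a ⟨x, hxa⟩)) := image_core hxa hx2 _ hw.1
  have h2 := coreC_centralizes_pCore hT.ctx.core
    (zpowers_two (by rw [← map_mul, ← map_one (ff a)]; exact congrArg _ (Subtype.ext hx2))) h1
  have h3 := hT.eq_one_of_odd (odd_orderOf_map _ (by rw [← Subgroup.orderOf_coe]; exact odd_order_core hw.1)) h2
  exact ⟨⟨w, hw.2⟩, (QuotientGroup.eq_one_iff _).mp h3, rfl⟩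

/-- `C(A)` has no section `L₂(q)`, `q = 3^(2n+1) ≥ 27`. -/
theorem no_psl_section (hout : ∃ x ∈ (S : Subgroup L), x * x = 1 ∧ x ∉ A) {a : L} (ha : a ∈ A) (ha1 : a ≠ 1)
    {F : Type} [Field F] [Fintype F] {m : ℕ} (D : ReeTori.QData F m) {Y : Subgroup L} (hY : Y ≤ cc a)
    (φ : ↥Y →* Matrix.ProjectiveSpecialLinearGroup (Fin 2) F) (hφ : Function.Surjective φ) : False := by
  haveI : Fact (Nat.Prime 2) := ⟨Nat.prime_two⟩
  haveI := D.charP
  obtain ⟨T, hT, h16⟩ := H.centreHyp hout ha ha1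
  set ψ : ↥Y →* qq a := (ff a).comp (Subgroup.inclusion hY) with hψ
  have hker : Odd (Nat.card ψ.ker) := by
    refine Odd.of_dvd_nat (Nat.coprime_two_right.mp (card_pPrimeCore_coprime (G := ↥(cc a)) 2)) ?_
    rw [← Subgroup.card_map_of_injective (Subgroup.inclusion_injective hY)]
    refine Subgroup.card_dvd_of_le ?_
    rintro _ ⟨y, hy, rfl⟩
    exact (QuotientGroup.eq_one_iff _).mp hy
  haveI : (ψ.ker.map φ).Normal := (inferInstance : ψ.ker.Normal).map φ hφ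
  have hcard := ReeTori.card_PSL D
  have heven : 2 ∣ Nat.card (Matrix.ProjectiveSpecialLinearGroup (Fin 2) F) := by
    obtain ⟨h8, -⟩ := D.mod
    have h4 : 4 ∣ Fintype.card F * (Fintype.card F ^ 2 - 1) := by
      refine Dvd.dvd.mul_left ?_ _
      have : Fintype.card F ^ 2 % 4 = 1 := by rw [Nat.pow_mod, show Fintype.card F % 4 = 3 by omega]
      omega
    rw [← hcard] at h4
    exact Nat.dvd_of_mul_dvd_mul_left (by norm_num : 0 < 2) h4
  haveI : IsSimpleGroup (Matrix.ProjectiveSpecialLinearGroup (Fin 2) F) :=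
    Matrix.ProjectiveSpecialLinearGroup.rank_two_simple (by
      rw [Nat.card_eq_fintype_card]; have := D.mod; omega)
  have hbot : ψ.ker.map φ = ⊥ := ((inferInstance : (ψ.ker.map φ).Normal).eq_bot_or_eq_top).resolve_right fun e => by
    have : Odd (Nat.card (Matrix.ProjectiveSpecialLinearGroup (Fin 2) F)) := by
      rw [← Subgroup.card_top, ← e]
      exact Odd.of_dvd_nat hker (Subgroup.card_map_dvd _ _)
    exact (Nat.not_odd_iff_even.mpr (even_iff_two_dvd.mpr heven)) this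
  have hd : Nat.card (Matrix.ProjectiveSpecialLinearGroup (Fin 2) F) ∣ Nat.card ψ.range := by
    rw [← Nat.card_congr (QuotientGroup.quotientKerEquivRange ψ).toEquiv]
    exact Subgroup.card_dvd_of_surjective (QuotientGroup.lift ψ.ker φ fun y hy =>
      Subgroup.mem_bot.mp (hbot ▸ Subgroup.mem_map_of_mem φ hy))
      (QuotientGroup.lift_surjective_of_surjective _ _ hφ _)
  refine hT.not_dvd_card h16 ((?_ : 27 ∣ Nat.card (Matrix.ProjectiveSpecialLinearGroup (Fin 2) F)).trans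
    (hd.trans (Subgroup.card_subgroup_dvd_card _)))
  have h27 : 27 ∣ 2 * Nat.card (Matrix.ProjectiveSpecialLinearGroup (Fin 2) F) := by
    rw [hcard, D.hq]
    exact Dvd.dvd.mul_right ((show (27 : ℕ) = 3 ^ 3 by norm_num) ▸ pow_dvd_pow 3 (by have := D.hm; omega)) _
  exact (Nat.Coprime.dvd_of_dvd_mul_left (by norm_num) h27)

end FourHyp

end CfsgLib.S3Simple
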