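import Cfsg.Agent.Lib.S3Simple.Component

/-!
An `S₃`-free group with trivial core and a central four-group `B` such that the involutions of a Sylow 2-subgroup
outside `B` have elementary abelian centralisers in it: there are no components.

Blueprint: `blueprint/S3Free.md`, 6.3.
-/

set_option autoImplicit false
set_option linter.unusedSectionVars false
set_option linter.style.haveILetI false

namespace CfsgLib.S3Simple

open Cfsg CfsgLib.Comp CfsgLib.AfterFT.CoreSep

universe u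

variable {M : Type u} [Group M] [Finite M]

/-- A 2-element normalising a component is a product of an element of the Sylow subgroup of the component and an
element centralising it. -/
theorem Ctx.exists_split (hM : Ctx M) (T : Sylow 2 M) {E : Subgroup M} (hE : IsComponent E) {t : M} (ht : t ∈ (T : Subgroup M))
    (htN : t ∈ Subgroup.normalizer (E : Set M)) :
    ∃ u ∈ (T : Subgroup M) ⊓ E, ∃ v ∈ (T : Subgroup M), v ∈ Subgroup.centralizer (E : Set M) ∧ u * v = t := by
  haveI : Fact (Nat.Prime 2) := ⟨Nat.prime_two⟩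
  have hl := hM.comp_listed hE
  haveI : IsSimpleGroup (↥E ⧸ Subgroup.center ↥E) := component_isSimple hE
  obtain ⟨P, hP⟩ := CfsgLib.CharPLocal.exists_sylow_subnormal T hE.1
  have hmemP : ∀ e : ↥E, e ∈ (P : Subgroup ↥E) ↔ (e : M) ∈ (T : Subgroup M) := fun e => by
    rw [← Subgroup.mem_map_iff_mem E.subtype_injective, hP]
    exact ⟨fun h => h.1, fun h => ⟨h, e.2⟩⟩
  let U := P.mapSurjective (QuotientGroup.mk'_surjective (Subgroup.center ↥E))
  obtain ⟨j, hj⟩ := T.2 ⟨t, ht⟩
  have hj' : (⟨t, htN⟩ : Subgroup.normalizer (E : Set M)) ^ 2 ^ j = 1 :=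
    Subtype.ext (congrArg Subtype.val hj : _)
  obtain ⟨i, -, hi⟩ := (Nat.dvd_prime_pow Nat.prime_two).mp
    (orderOf_dvd_of_pow_eq_one (show actQ E ⟨t, htN⟩ ^ 2 ^ j = 1 by rw [← map_pow, hj', map_one]))
  obtain ⟨h1, h2⟩ := hM.actQ_range E
  obtain ⟨q, hq⟩ := inner_of_two hl _ h1 h2 (φ := actQ E ⟨t, htN⟩) ⟨_, rfl⟩ hi
  have hqp : IsPGroup 2 (Subgroup.zpowers q) := by
    refine IsPGroup.of_card (n := i) ?_
    rw [Nat.card_zpowers, ← hi, ← hq]
    refine (orderOf_injective _ ?_ _).symm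
    rw [← MonoidHom.ker_eq_bot_iff]
    refine ((inferInstance : (MulAut.conj (G := ↥E ⧸ Subgroup.center ↥E)).ker.Normal).eq_bot_or_eq_top).resolve_right
      fun h => component_not_comm hE ⟨⟨fun c d => ?_⟩⟩
    have := DFunLike.congr_fun (MonoidHom.mem_ker.mp (h ▸ Subgroup.mem_top c)) d
    rwa [MulAut.conj_apply, MulAut.one_apply, mul_inv_eq_iff_eq_mul] at this
  have hqN : q ∈ Subgroup.normalizer ((U : Subgroup (↥E ⧸ Subgroup.center ↥E)) : Set (↥E ⧸ Subgroup.center ↥E)) := by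
    refine CfsgLib.Bender.TwoClosed.mem_normalizer_of_conj ?_
    rintro _ ⟨e, he, rfl⟩
    rw [← MulAut.conj_apply, hq, actQ_apply]
    exact ⟨_, (hmemP _).mpr (mul_mem (mul_mem ht ((hmemP e).mp he)) (inv_mem ht)), rfl⟩
  have hqU : q ∈ (U : Subgroup (↥E ⧸ Subgroup.center ↥E)) := by
    have := U.3 (U.2.to_sup_of_normal_left' hqp (Subgroup.zpowers_le.mpr hqN)) le_sup_left
    exact this ▸ Subgroup.mem_sup_right (Subgroup.mem_zpowers q)
  obtain ⟨e, he, rfl⟩ := hqU
  refine ⟨e, ⟨(hmemP e).mp he, e.2⟩, (e : M)⁻¹ * t, mul_mem (inv_mem ((hmemP e).mp he)) ht, ?_,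
    mul_inv_cancel_left _ _⟩
  refine centralizes_of_actQ hE (mul_mem (inv_mem (Subgroup.le_normalizer e.2)) htN) ?_
  have he' : actQ E ⟨(e : M), Subgroup.le_normalizer e.2⟩ = MulAut.conj (QuotientGroup.mk' _ e) := by
    refine MulEquiv.ext fun r => ?_
    obtain ⟨d, rfl⟩ := QuotientGroup.mk'_surjective _ r
    rw [actQ_apply, MulAut.conj_apply, ← map_inv, ← map_mul, ← map_mul]
    rfl
  rw [show (⟨(e : M)⁻¹ * t, _⟩ : Subgroup.normalizer (E : Set M)) =
    ⟨(e : M), Subgroup.le_normalizer e.2⟩⁻¹ * ⟨t, htN⟩ from Subtype.ext rfl, map_mul, map_inv, he', hq,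
    inv_mul_cancel]

/-- The hypotheses on the centraliser of a four-group modulo core. -/
structure CentreHyp (T : Sylow 2 M) (B : Subgroup M) : Prop where
  ctx : Ctx M
  le : B ≤ (T : Subgroup M)
  central : B ≤ Subgroup.center M
  card : Nat.card B = 4
  omega : ∀ z ∈ (T : Subgroup M), z * z = 1 → (∀ t ∈ (T : Subgroup M), z * t = t * z) → z ∈ B
  elem : ∀ x ∈ (T : Subgroup M), x * x = 1 → x ∉ B → ∀ t ∈ (T : Subgroup M), t * x = x * t → t * t = 1
  outside : ∃ x ∈ (T : Subgroup M), x * x = 1 ∧ x ∉ B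

namespace CentreHyp

variable {T : Sylow 2 M} {B : Subgroup M} (H : CentreHyp T B)
include H

theorem central_mem {z : M} (hz : z ∈ (T : Subgroup M)) (hc : ∀ t ∈ (T : Subgroup M), z * t = t * z) :
    z * z = 1 ∧ z ∈ B := by
  obtain ⟨x, hx, hx2, hxB⟩ := H.outside
  have h := H.elem x hx hx2 hxB z hz (hc x hx)
  exact ⟨h, H.omega z hz h hc⟩

theorem comm_of_centralizes {x : M} (hx : x ∈ (T : Subgroup M)) (hx2 : x * x = 1) (hxB : x ∉ B) {s t : M}
    (hs : s ∈ (T : Subgroup M)) (hsx : s * x = x * s) (ht : t ∈ (T : Subgroup M)) (htx : t * x = x * t) :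
    s * t = t * s := by
  have h := inv_eq_of_mul_eq_one_right (H.elem x hx hx2 hxB (s * t) (mul_mem hs ht)
    ((show Commute s x from hsx).mul_left (show Commute t x from htx)).eq)
  rw [mul_inv_rev, inv_eq_of_mul_eq_one_right (H.elem x hx hx2 hxB s hs hsx),
    inv_eq_of_mul_eq_one_right (H.elem x hx hx2 hxB t ht htx)] at h
  exact h.symm

theorem mem_center_component {E : Subgroup M} {b : M} (hb : b ∈ B) (hbE : b ∈ E) :
    (⟨b, hbE⟩ : ↥E) ∈ Subgroup.center ↥E :=
  Subgroup.mem_center_iff.mpr fun g => Subtype.ext (Subgroup.mem_center_iff.mp (H.central hb) g)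

theorem exists_split {E : Subgroup M} (hE : IsComponent E) {t : M} (ht : t ∈ (T : Subgroup M))
    (htN : t ∈ Subgroup.normalizer (E : Set M)) :
    ∃ u ∈ (T : Subgroup M) ⊓ E, ∃ v ∈ (T : Subgroup M), v ∈ Subgroup.centralizer (E : Set M) ∧ u * v = t :=
  H.ctx.exists_split T hE ht htN

/-- The Sylow subgroup of a Suzuki component is not commutative modulo the centre. -/
theorem suzuki_moving {E : Subgroup M} (hE : IsComponent E) (hs : Lie.IsoSuzuki (↥E ⧸ Subgroup.center ↥E)) :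
    ∃ p ∈ (T : Subgroup M) ⊓ E, ∃ q ∈ (T : Subgroup M) ⊓ E,
      (q * p)⁻¹ * (p * q) ∉ Subgroup.centralizer (E : Set M) := by
  haveI : Fact (Nat.Prime 2) := ⟨Nat.prime_two⟩
  haveI := component_isSimple hE
  obtain ⟨P, hP⟩ := CfsgLib.CharPLocal.exists_sylow_subnormal T hE.1
  by_contra hcon
  push Not at hcon
  refine suzuki_sylow hs (P.mapSurjective (QuotientGroup.mk'_surjective _)) ⟨⟨?_⟩⟩
  rintro ⟨_, p, hp, rfl⟩ ⟨_, q, hq, rfl⟩
  refine Subtype.ext ?_
  show QuotientGroup.mk' (Subgroup.center ↥E) p * QuotientGroup.mk' _ q = _ * _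
  rw [← map_mul, ← map_mul]
  refine (QuotientGroup.eq.mpr ?_).symm
  refine Subgroup.mem_center_iff.mpr fun g => Subtype.ext ?_
  exact hcon p (hP.le ⟨p, hp, rfl⟩) q (hP.le ⟨q, hq, rfl⟩) g g.2

/-- An involution outside `B` centralises no Sylow subgroup of a Suzuki component. -/
theorem not_centralize_suzuki {E : Subgroup M} (hE : IsComponent E)
    (hs : Lie.IsoSuzuki (↥E ⧸ Subgroup.center ↥E)) {x : M} (hx : x ∈ (T : Subgroup M)) (hx2 : x * x = 1)
    (hxB : x ∉ B) : ¬ ∀ p ∈ (T : Subgroup M) ⊓ E, p * x = x * p := by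
  intro hc
  obtain ⟨p, hp, q, hq, hne⟩ := H.suzuki_moving hE hs
  refine hne ?_
  rw [H.comm_of_centralizes hx hx2 hxB hp.1 (hc p hp) hq.1 (hc q hq), inv_mul_cancel]
  exact one_mem _

/-- The Sylow subgroup normalises every component. -/
theorem normalizes {E : Subgroup M} (hE : IsComponent E) {t : M} (ht : t ∈ (T : Subgroup M)) :
    t ∈ Subgroup.normalizer (E : Set M) := by
  haveI : Fact (Nat.Prime 2) := ⟨Nat.prime_two⟩
  haveI := component_isSimple hE
  rcases suzuki_or_three (H.ctx.comp_listed hE) with hs | ⟨h3, -⟩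
  swap
  · obtain ⟨j, hj⟩ := T.2 ⟨t, ht⟩
    obtain ⟨i, -, hi⟩ := (Nat.dvd_prime_pow Nat.prime_two).mp
      (orderOf_dvd_of_pow_eq_one (show t ^ 2 ^ j = 1 from congrArg Subtype.val hj))
    exact H.ctx.three_normalizes hE h3 hi
  obtain ⟨x, hx, hx2, hxB⟩ := H.outside
  -- an involution outside `B` moves no Suzuki component
  have hfix : x ∈ Subgroup.normalizer (E : Set M) := by
    refine mem_normalizer_of_map_eq ((components_eq_or_commute
      (isComponent_map_equiv (MulAut.conj x) hE) hE).resolve_right fun hbot => ?_)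
    obtain ⟨p, hp, q, hq, hne⟩ := H.suzuki_moving hE hs
    have hxi : x⁻¹ = x := inv_eq_of_mul_eq_one_right hx2
    have hmem : ∀ r ∈ E, x * r * x ∈ E.map (MulAut.conj x).toMonoidHom := fun r hr => ⟨r, hr, by
      show x * r * x⁻¹ = x * r * x
      rw [hxi]⟩
    have hcom : ∀ r ∈ E, ∀ s ∈ E, x * r * x * s = s * (x * r * x) := fun r hr s hs =>
      comm_of_commutator_eq_bot hbot (hmem r hr) hs
    have hdiag : ∀ r ∈ (T : Subgroup M) ⊓ E, r * (x * r * x) ∈ (T : Subgroup M) ∧
        r * (x * r * x) * x = x * (r * (x * r * x)) := fun r hr => by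
      refine ⟨mul_mem hr.1 (mul_mem (mul_mem hx hr.1) hx), ?_⟩
      calc r * (x * r * x) * x = (r * (x * r)) * (x * x) := by group
        _ = r * x * r := by rw [hx2]; group
        _ = x * x * (r * x * r) := by rw [hx2, one_mul]
        _ = x * ((x * r * x) * r) := by group
        _ = x * (r * (x * r * x)) := by rw [hcom r hr.2 r hr.2]
    have h := H.comm_of_centralizes hx hx2 hxB (hdiag p hp).1 (hdiag p hp).2 (hdiag q hq).1 (hdiag q hq).2
    have e1 : p * (x * p * x) * (q * (x * q * x)) = p * q * (x * (p * q) * x) := by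
      calc p * (x * p * x) * (q * (x * q * x)) = p * ((x * p * x) * q) * (x * q * x) := by group
        _ = p * q * (x * p * (x * x) * q * x) := by rw [hcom p hp.2 q hq.2]; group
        _ = p * q * (x * (p * q) * x) := by rw [hx2]; group
    have e2 : q * (x * q * x) * (p * (x * p * x)) = q * p * (x * (q * p) * x) := by
      calc q * (x * q * x) * (p * (x * p * x)) = q * ((x * q * x) * p) * (x * p * x) := by group
        _ = q * p * (x * q * (x * x) * p * x) := by rw [hcom q hq.2 p hp.2]; group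
        _ = q * p * (x * (q * p) * x) := by rw [hx2]; group
    rw [e1, e2] at h
    refine hne fun g hg => ?_
    have h' : (q * p)⁻¹ * (p * q) = x * (q * p) * x * (x * (p * q) * x)⁻¹ := by
      rw [eq_mul_inv_iff_mul_eq, mul_assoc, h, inv_mul_cancel_left]
    rw [h']
    have hm := mul_mem (hmem _ (mul_mem hq.2 hp.2)) (inv_mem (hmem _ (mul_mem hp.2 hq.2)))
    exact (comm_of_commutator_eq_bot hbot hm hg).symm
  refine mem_normalizer_of_map_eq ((components_eq_or_commute
    (isComponent_map_equiv (MulAut.conj t) hE) hE).resolve_right fun hbot => ?_)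
  obtain ⟨u, hu, v, hv, hvE, huv⟩ := H.exists_split hE hx hfix
  have hvu : v * u = u * v := (hvE u hu.2).symm
  have hu2 : u * u = 1 := by
    refine H.elem x hx hx2 hxB u hu.1 ?_
    rw [← huv]
    calc u * (u * v) = u * (v * u) := by rw [hvu]
      _ = u * v * u := by group
  have huB : u ∉ B := fun hb => H.not_centralize_suzuki hE hs hx hx2 hxB fun p hp => by
    have h1 : p * u = u * p := Subgroup.mem_center_iff.mp (H.central hb) p
    have h2 : p * v = v * p := hvE p hp.2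
    rw [← huv, ← mul_assoc, h1, mul_assoc, h2, ← mul_assoc]
  have hE' := isComponent_map_equiv (MulAut.conj t) hE
  haveI := component_isSimple hE'
  have hs' : Lie.IsoSuzuki (↥(E.map (MulAut.conj t).toMonoidHom) ⧸ Subgroup.center
      ↥(E.map (MulAut.conj t).toMonoidHom)) := by
    rcases suzuki_or_three (H.ctx.comp_listed hE') with h | ⟨h3, -⟩
    · exact h
    obtain ⟨j, hj⟩ := T.2 ⟨t, ht⟩
    obtain ⟨i, -, hi⟩ := (Nat.dvd_prime_pow Nat.prime_two).mp
      (orderOf_dvd_of_pow_eq_one (show t ^ 2 ^ j = 1 from congrArg Subtype.val hj))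
    have hn := H.ctx.three_normalizes hE' h3 hi
    refine (component_not_comm hE ⟨⟨fun c d => ?_⟩⟩).elim
    obtain ⟨c, rfl⟩ := QuotientGroup.mk'_surjective _ c
    obtain ⟨d, rfl⟩ := QuotientGroup.mk'_surjective _ d
    rw [← map_mul, ← map_mul]
    refine congrArg _ (Subtype.ext (comm_of_commutator_eq_bot hbot ?_ d.2))
    exact ⟨t⁻¹ * (c : M) * t, by
      have hN : t ∈ Subgroup.normalizer (E : Set M) := mem_normalizer_of_maps fun y hy => by
        obtain ⟨e, he, hte⟩ := (Subgroup.mem_normalizer_iff.mp hn (t * y * t⁻¹)).mp ⟨y, hy, rfl⟩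
        have h1 : t * e * t⁻¹ = t * (t * y * t⁻¹) * t⁻¹ := hte
        exact (mul_left_cancel (mul_right_cancel h1) : e = t * y * t⁻¹) ▸ he
      exact (Subgroup.mem_normalizer_iff''.mp hN _).mp c.2, by
      show t * (t⁻¹ * (c : M) * t) * t⁻¹ = c
      group⟩
  exact H.not_centralize_suzuki hE' hs' hu.1 hu2 huB fun p hp =>
    comm_of_commutator_eq_bot hbot hp.2 hu.2

/-- There are no components. -/
theorem no_component (E : Subgroup M) : ¬ IsComponent E := by
  classical
  intro hE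
  haveI : Fact (Nat.Prime 2) := ⟨Nat.prime_two⟩
  haveI := component_isSimple hE
  have hl := H.ctx.comp_listed hE
  obtain ⟨P, hP⟩ := CfsgLib.CharPLocal.exists_sylow_subnormal T hE.1
  have hmemP : ∀ e : ↥E, e ∈ (P : Subgroup ↥E) ↔ (e : M) ∈ (T : Subgroup M) := fun e => by
    rw [← Subgroup.mem_map_iff_mem E.subtype_injective, hP]
    exact ⟨fun h => h.1, fun h => ⟨h, e.2⟩⟩
  set U := P.mapSurjective (QuotientGroup.mk'_surjective (Subgroup.center ↥E))
  set π := QuotientGroup.mk' (Subgroup.center ↥E) with hπ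
  have hπc : ∀ {e : ↥E}, π e = 1 → e ∈ Subgroup.center ↥E := fun {e} h => (QuotientGroup.eq_one_iff e).mp h
  -- the centre of the component lies in `B`
  have hZT : ∀ z ∈ Subgroup.center ↥E, (z : M) ∈ (T : Subgroup M) := by
    intro z hz
    haveI : Group.IsNilpotent ((Subgroup.center ↥E).map E.subtype : Subgroup M) := nilpotent_of_comm (by
      rintro _ ⟨a, ha, rfl⟩ _ ⟨b, -, rfl⟩
      exact congrArg Subtype.val ((Subgroup.mem_center_iff.mp ha b).symm))
    have hsn : ((Subgroup.center ↥E).map E.subtype : Subgroup M).IsSubnormal :=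
      (inferInstance : (Subgroup.center ↥E).Normal).isSubnormal.trans' hE.1
    have h := isSubnormal_nilpotent_le_fitting hsn inferInstance
    rw [fitting_eq_pCore Nat.prime_two H.ctx.core] at h
    exact CfsgLib.AfterFT.CoreSep.pCore_two_le_sylow T (h ⟨z, hz, rfl⟩)
  have hsplit : ∀ t ∈ (T : Subgroup M), ∃ u ∈ (T : Subgroup M) ⊓ E, ∃ v ∈ (T : Subgroup M),
      v ∈ Subgroup.centralizer (E : Set M) ∧ u * v = t := fun t ht => H.exists_split hE ht (H.normalizes hE ht)
  -- an element of `P` central in `P` lies in `B` and in the centre of `E`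
  have hPc : ∀ p ∈ (P : Subgroup ↥E), (∀ r ∈ (P : Subgroup ↥E), p * r = r * p) →
      (p : M) * p = 1 ∧ (p : M) ∈ B := by
    intro p hp hc
    refine H.central_mem ((hmemP p).mp hp) fun t ht => ?_
    obtain ⟨u, hu, v, hv, hvE, rfl⟩ := hsplit t ht
    have h1 : (p : M) * u = u * p := congrArg Subtype.val (hc ⟨u, hu.2⟩ ((hmemP _).mpr hu.1))
    have h2 : (p : M) * v = v * p := hvE p p.2
    rw [← mul_assoc, h1, mul_assoc, h2, ← mul_assoc]
  have hZ : ∀ z ∈ Subgroup.center ↥E, z ∈ (P : Subgroup ↥E) ∧ z * z = 1 ∧ (z : M) ∈ B := fun z hz => by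
    obtain ⟨h1, h2⟩ := hPc z ((hmemP z).mpr (hZT z hz)) fun r _ => (Subgroup.mem_center_iff.mp hz r).symm
    exact ⟨(hmemP z).mpr (hZT z hz), Subtype.ext h1, h2⟩
  have hZcard : Nat.card (Subgroup.center ↥E) ≤ 4 := by
    rw [← H.card, ← Subgroup.card_map_of_injective E.subtype_injective]
    exact Subgroup.card_le_of_le (by rintro _ ⟨z, hz, rfl⟩; exact (hZ z hz).2.2)
  have hPU : ∀ e : ↥E, π e ∈ (U : Subgroup (↥E ⧸ Subgroup.center ↥E)) → e ∈ (P : Subgroup ↥E) := by
    rintro e ⟨p, hp, he⟩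
    rw [show e = p * (p⁻¹ * e) by group]
    exact mul_mem hp (hZ _ (hπc (by rw [map_mul, map_inv, he, inv_mul_cancel]))).1
  obtain ⟨k, hk⟩ := exists_twoLocal hl U
  obtain ⟨k', rfl⟩ := QuotientGroup.mk'_surjective (Subgroup.center ↥E) k
  -- `P` is not commutative
  have hnab : ¬ ∀ p ∈ (P : Subgroup ↥E), ∀ r ∈ (P : Subgroup ↥E), p * r = r * p := by
    intro hab
    have h4 := hk.four
    have hsub : Nat.card {x : ↥E ⧸ Subgroup.center ↥E // x ∈ (U : Subgroup _) ∧ x * x = 1} ≤ 1 := by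
      refine Finite.card_le_one_iff_subsingleton.mpr ⟨fun a b => ?_⟩
      have hone : ∀ w ∈ (U : Subgroup (↥E ⧸ Subgroup.center ↥E)), w = 1 := by
        rintro _ ⟨p, hp, rfl⟩
        exact (QuotientGroup.eq_one_iff p).mpr (H.mem_center_component (hPc p hp (hab p hp)).2 p.2)
      exact Subtype.ext ((hone _ a.2.1).trans (hone _ b.2.1).symm)
    omega
  obtain ⟨x, hx, hx2, hxB⟩ := H.outside
  obtain ⟨u0, hu0, v, hv, hvE, huv⟩ := hsplit x hx
  set u : ↥E := ⟨u0, hu0.2⟩ with hu
  have huP : u ∈ (P : Subgroup ↥E) := (hmemP u).mpr hu0.1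
  have hcx : ∀ p ∈ (P : Subgroup ↥E), p * u = u * p → (p : M) * x = x * p := fun p hp hpu => by
    have h1 : (p : M) * u0 = u0 * p := congrArg Subtype.val hpu
    have h2 : (p : M) * v = v * p := hvE p p.2
    rw [← huv, ← mul_assoc, h1, mul_assoc, h2, ← mul_assoc]
  have hcent : ∀ p ∈ (P : Subgroup ↥E), p * u = u * p → p * p = 1 := fun p hp hpu =>
    Subtype.ext (H.elem x hx hx2 hxB p ((hmemP p).mp hp) (hcx p hp hpu))
  have hu2 : u * u = 1 := hcent u huP rfl
  have huZ : π u ≠ 1 := fun e => hnab fun p hp r hr => Subtype.ext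
    (H.comm_of_centralizes hx hx2 hxB ((hmemP p).mp hp) (hcx p hp (Subgroup.mem_center_iff.mp (hπc e) p))
      ((hmemP r).mp hr) (hcx r hr (Subgroup.mem_center_iff.mp (hπc e) r)))
  have hπu : π u ∈ (U : Subgroup (↥E ⧸ Subgroup.center ↥E)) := ⟨u, huP, rfl⟩
  have hπu2 : π u * π u = 1 := by rw [← map_mul, hu2, map_one]
  -- each element of `P` that squares to one modulo the centre squares to one
  have hlift : ∀ p ∈ (P : Subgroup ↥E), π p * π p = 1 → p * p = 1 := by
    intro p hp hp2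
    by_cases h1 : π p = 1
    · exact (hZ p (hπc h1)).2.1
    obtain ⟨i, hi⟩ := hk.trans _ hπu hπu2 huZ _ ⟨p, hp, rfl⟩ hp2 h1
    set w := k' ^ i * u * (k' ^ i)⁻¹ with hw
    have hwp : π w = π p := by rw [hw, map_mul, map_mul, map_inv, map_pow]; exact hi
    have hw2 : w * w = 1 := by
      rw [hw, show k' ^ i * u * (k' ^ i)⁻¹ * (k' ^ i * u * (k' ^ i)⁻¹) = k' ^ i * (u * u) * (k' ^ i)⁻¹ by group,
        hu2, mul_one, mul_inv_cancel]
    have hz : w⁻¹ * p ∈ Subgroup.center ↥E := hπc (by rw [map_mul, map_inv, hwp, inv_mul_cancel])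
    have hwz : w * (w⁻¹ * p) = (w⁻¹ * p) * w := Subgroup.mem_center_iff.mp hz w
    calc p * p = (w * (w⁻¹ * p)) * (w * (w⁻¹ * p)) := by group
      _ = w * ((w⁻¹ * p) * w) * (w⁻¹ * p) := by group
      _ = w * w * ((w⁻¹ * p) * (w⁻¹ * p)) := by rw [← hwz]; group
      _ = 1 := by rw [hw2, (hZ _ hz).2.1, one_mul]
  -- so the Sylow subgroup of `E/Z` is not elementary
  have hnel : ∃ w ∈ (U : Subgroup (↥E ⧸ Subgroup.center ↥E)), w * w ≠ 1 := by
    by_contra hcon
    push Not at hcon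
    refine hnab fun p hp r hr => ?_
    have h := inv_eq_of_mul_eq_one_right (hlift _ (mul_mem hp hr) (hcon _ ⟨_, mul_mem hp hr, rfl⟩))
    rw [mul_inv_rev, inv_eq_of_mul_eq_one_right (hlift p hp (hcon _ ⟨p, hp, rfl⟩)),
      inv_eq_of_mul_eq_one_right (hlift r hr (hcon _ ⟨r, hr, rfl⟩))] at h
    exact h.symm
  have height : 8 ≤ Nat.card {x : ↥E ⧸ Subgroup.center ↥E // x ∈ (U : Subgroup _) ∧ x * x = 1} := by
    rcases suzuki_or_three hl with hs | ⟨-, h4⟩
    · exact suzuki_eight hs U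
    · exfalso
      obtain ⟨w, hw, hw2⟩ := hnel
      have h := hk.four
      have hinj : Function.Injective (fun a : {x : ↥E ⧸ Subgroup.center ↥E // x ∈ (U : Subgroup _) ∧ x * x = 1} =>
          (⟨a.1, a.2.1⟩ : (U : Subgroup (↥E ⧸ Subgroup.center ↥E)))) :=
        fun a b e => Subtype.ext (congrArg (fun c : (U : Subgroup (↥E ⧸ Subgroup.center ↥E)) =>
          (c : ↥E ⧸ Subgroup.center ↥E)) e)
      have hbij := (Nat.bijective_iff_injective_and_card _).mpr
        ⟨hinj, le_antisymm (Nat.card_le_card_of_injective _ hinj) (by rw [h4 U]; exact h)⟩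
      obtain ⟨⟨a, ha⟩, he⟩ := hbij.2 ⟨w, hw⟩
      have e : a = w := congrArg Subtype.val he
      exact hw2 (e ▸ ha.2)
  -- every involution of `U` is a square
  have hsq : ∀ y ∈ (U : Subgroup (↥E ⧸ Subgroup.center ↥E)), y * y = 1 →
      ∃ p ∈ (P : Subgroup ↥E), π p * π p = y := by
    intro y hy hy2
    by_cases hy1 : y = 1
    · exact ⟨1, one_mem _, by rw [map_one, one_mul, hy1]⟩
    obtain ⟨w, hw, hw2⟩ := hnel
    obtain ⟨j, hj⟩ := U.2 ⟨w, hw⟩
    have hex : ∃ l, w ^ 2 ^ l = 1 := ⟨j, congrArg Subtype.val hj⟩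
    set l := Nat.find hex with hl'
    have hspec := Nat.find_spec hex
    have hl2 : 2 ≤ l := by
      by_contra hlt
      refine hw2 ?_
      have h1 : w ^ 2 ^ 1 = 1 := by
        have : (w ^ 2 ^ l) ^ 2 ^ (1 - l) = 1 := by rw [hspec, one_pow]
        rwa [← pow_mul, ← pow_add, Nat.add_sub_cancel' (by omega)] at this
      rwa [pow_one, pow_two] at h1
    set r := w ^ 2 ^ (l - 2) with hr
    have hr2 : r * r = w ^ 2 ^ (l - 1) := by
      rw [hr, ← pow_add, ← two_mul, ← pow_succ', show l - 2 + 1 = l - 1 by omega]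
    have hr1 : r * r ≠ 1 := fun e => Nat.find_min hex (show l - 1 < l by omega) (hr2 ▸ e)
    have hr4 : r * r * (r * r) = 1 := by
      rw [hr2, ← pow_add, ← two_mul, ← pow_succ', show l - 1 + 1 = l by omega]
      exact hspec
    obtain ⟨i, hi⟩ := hk.trans _ (mul_mem (pow_mem hw _) (pow_mem hw _)) hr4 hr1 y hy hy2 hy1
    have hmem : ∀ (n : ℕ), ∀ s ∈ (U : Subgroup (↥E ⧸ Subgroup.center ↥E)),
        π k' ^ n * s * (π k' ^ n)⁻¹ ∈ (U : Subgroup (↥E ⧸ Subgroup.center ↥E)) := by
      intro n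
      induction n with
      | zero => intro s hs; simpa using hs
      | succ n ih =>
        intro s hs
        have := (hk.norm _).mpr (ih s hs)
        rwa [show π k' * (π k' ^ n * s * (π k' ^ n)⁻¹) * (π k')⁻¹ = π k' ^ (n + 1) * s * (π k' ^ (n + 1))⁻¹ by
          group] at this
    obtain ⟨p, hp, he⟩ := hmem i r (pow_mem hw _)
    refine ⟨p, hp, ?_⟩
    rw [show π p = π k' ^ i * r * (π k' ^ i)⁻¹ from he, ← hi]
    simp only [← hπ, ← hr]
    group
  choose g hg using fun y : {x : ↥E ⧸ Subgroup.center ↥E // x ∈ (U : Subgroup _) ∧ x * x = 1} =>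
    hsq y.1 y.2.1 y.2.2
  have hcomm : ∀ p ∈ (P : Subgroup ↥E), u⁻¹ * (p * u * p⁻¹) ∈ Subgroup.center ↥E := by
    intro p hp
    refine hπc ?_
    rw [map_mul, map_inv, map_mul, map_mul, map_inv, ← hk.central _ hπu hπu2 _ ⟨p, hp, rfl⟩,
      mul_inv_cancel_right, inv_mul_cancel]
  have hinj : Function.Injective (fun y => (⟨_, hcomm (g y) (hg y).1⟩ : Subgroup.center ↥E)) := by
    intro a b e
    have h1 : g a * u * (g a)⁻¹ = g b * u * (g b)⁻¹ := mul_left_cancel (congrArg Subtype.val e)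
    set r := (g b)⁻¹ * g a with hr
    have hru : r * u = u * r := by
      have h2 : g a * u = g b * u * (g b)⁻¹ * g a := mul_inv_eq_iff_eq_mul.mp h1
      rw [hr, mul_assoc, h2]; group
    have hrP : r ∈ (P : Subgroup ↥E) := mul_mem (inv_mem (hg b).1) (hg a).1
    have hr2 : π r * π r = 1 := by rw [← map_mul, hcent r hrP hru, map_one]
    refine Subtype.ext ?_
    rw [← (hg a).2, ← (hg b).2, show g a = g b * r by rw [hr]; group, map_mul]
    calc π (g b) * π r * (π (g b) * π r) = π (g b) * (π r * π (g b)) * π r := by group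
      _ = π (g b) * π (g b) * (π r * π r) := by
          rw [hk.central _ ⟨r, hrP, rfl⟩ hr2 _ ⟨g b, (hg b).1, rfl⟩]; simp only [← hπ]; group
      _ = π (g b) * π (g b) := by rw [hr2, mul_one]
  have := Nat.card_le_card_of_injective _ hinj
  omega

end CentreHyp

end CfsgLib.S3Simple
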