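import Cfsg.Agent.Lib.Coprime
import Cfsg.Agent.Lib.Comp.PComp
import Cfsg.Agent.Lib.StrongFusion.Functors
import Cfsg.Agent.Lib.StrongFusion.LocalFree
import Cfsg.Agent.Lib.GoldschmidtS3.Basic
import Cfsg.Agent.Lib.S3Free.Gen
import Cfsg.Agent.S0205

/-!
Invariant Sylow subgroups of groups of odd order under 2-groups, and the `ZJ` control of fusion in an `S₃`-free group.

Blueprint: `blueprint/S3Free.md`, 6.3.
-/

set_option autoImplicit false
set_option linter.unusedSectionVars false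
set_option linter.style.haveILetI false

namespace CfsgLib.S3Simple

open Cfsg
open scoped Pointwise

universe u

variable {G : Type u} [Group G] [Finite G]

theorem coprime_two_odd {A W : Subgroup G} (hA : IsPGroup 2 A) (hW : Odd (Nat.card W)) :
    (Nat.card A).Coprime (Nat.card W) := by
  haveI : Fact (Nat.Prime 2) := ⟨Nat.prime_two⟩
  obtain ⟨k, hk⟩ := IsPGroup.iff_card.mp hA
  rw [hk]
  exact (Nat.coprime_two_left.mpr hW).pow_left k

theorem solvable_of_odd {W : Subgroup G} (hW : Odd (Nat.card W)) : Group.IsSolvable W := Cfsg.Agent.S0205.result hW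

/-- If one invariant Sylow subgroup is centralised, every invariant subgroup of the same prime is. -/
theorem invariant_centralized {A W : Subgroup G} (hA : IsPGroup 2 A) (hW : Odd (Nat.card W))
    (hAW : A ≤ Subgroup.normalizer (W : Set G)) {r : ℕ} [Fact r.Prime] (P : Sylow r W)
    (hP : A ≤ Subgroup.normalizer ((P : Subgroup W).map W.subtype : Set G))
    (hPc : (P : Subgroup W).map W.subtype ≤ Subgroup.centralizer (A : Set G)) {U : Subgroup G} (hUW : U ≤ W)
    (hU : IsPGroup r U) (hUA : A ≤ Subgroup.normalizer (U : Set G)) : U ≤ Subgroup.centralizer (A : Set G) := by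
  obtain ⟨Q, hUQ, hQ⟩ := CfsgLib.coprime_le_invariant_sylow hAW (coprime_two_odd hA hW)
    (Or.inr (solvable_of_odd hW)) hUW hU hUA
  obtain ⟨c, hc, he⟩ := CfsgLib.coprime_invariant_sylow_conj hAW (coprime_two_odd hA hW)
    (Or.inr (solvable_of_odd hW)) P Q hP hQ
  intro u hu
  obtain ⟨q, hq, rfl⟩ := hUQ hu
  rw [← he] at hq
  have hq' : q ∈ MulAut.conj c • (P : Subgroup W) := hq
  have h1 := hPc ⟨_, Subgroup.mem_pointwise_smul_iff_inv_smul_mem.mp hq', rfl⟩
  have e : ((q : W) : G) = (c : G) * (((MulAut.conj c)⁻¹ • q : W) : G) * (c : G)⁻¹ := by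
    rw [MulAut.smul_def, MulAut.conj_inv_apply]
    simp [mul_assoc]
  show (q : G) ∈ _
  rw [e]
  exact mul_mem (mul_mem hc h1) (inv_mem hc)

/-- An element normalising `W` and `A` can be adjusted by an element of `C_W(A)` to normalise an invariant Sylow
subgroup of `W`. -/
theorem exists_adjust_invariant {A W : Subgroup G} (hA : IsPGroup 2 A) (hW : Odd (Nat.card W))
    (hAW : A ≤ Subgroup.normalizer (W : Set G)) {r : ℕ} [Fact r.Prime] (P : Sylow r W)
    (hP : A ≤ Subgroup.normalizer ((P : Subgroup W).map W.subtype : Set G)) {n : G}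
    (hn : n ∈ Subgroup.normalizer (W : Set G)) (hnA : n ∈ Subgroup.normalizer (A : Set G)) :
    ∃ c ∈ W ⊓ Subgroup.centralizer (A : Set G),
      c * n ∈ Subgroup.normalizer ((P : Subgroup W).map W.subtype : Set G) := by
  set P' := (P : Subgroup W).map W.subtype with hP'
  set U := P'.map (MulAut.conj n).toMonoidHom with hU
  have hUW : U ≤ W := by
    rintro _ ⟨_, ⟨p, -, rfl⟩, rfl⟩
    exact (Subgroup.mem_normalizer_iff.mp hn p).mp p.2
  have hUA : A ≤ Subgroup.normalizer (U : Set G) := fun a ha => CfsgLib.Comp.mem_normalizer_of_maps (by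
    rintro _ ⟨y, hy, rfl⟩
    have ha' : n⁻¹ * a * n ∈ A := (Subgroup.mem_normalizer_iff''.mp hnA a).mp ha
    refine ⟨(n⁻¹ * a * n) * y * (n⁻¹ * a * n)⁻¹, (Subgroup.mem_normalizer_iff.mp (hP ha') y).mp hy, ?_⟩
    show n * ((n⁻¹ * a * n) * y * (n⁻¹ * a * n)⁻¹) * n⁻¹ = a * (n * y * n⁻¹) * a⁻¹
    group)
  obtain ⟨Q, hUQ, hQ⟩ := CfsgLib.coprime_le_invariant_sylow hAW (coprime_two_odd hA hW)
    (Or.inr (solvable_of_odd hW)) hUW ((P.2.map _).map _) hUA
  obtain ⟨c, hc, he⟩ := CfsgLib.coprime_invariant_sylow_conj hAW (coprime_two_odd hA hW)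
    (Or.inr (solvable_of_odd hW)) Q P hQ hP
  refine ⟨c, ⟨c.2, hc⟩, CfsgLib.Comp.mem_normalizer_of_maps ?_⟩
  intro y hy
  obtain ⟨q, hq, hqe⟩ := hUQ ⟨y, hy, rfl⟩
  refine ⟨c * q * c⁻¹, ?_, ?_⟩
  · rw [← he]
    show c * q * c⁻¹ ∈ MulAut.conj c • (Q : Subgroup W)
    exact Subgroup.smul_mem_pointwise_smul _ (MulAut.conj c) _ hq
  · show (c : G) * (q : G) * (c : G)⁻¹ = (c : G) * n * y * ((c : G) * n)⁻¹
    rw [show (q : G) = n * y * n⁻¹ from hqe]
    group

/-- An element normalising `W` can be adjusted by an element of `W` to normalise a Sylow subgroup of `W`. -/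
theorem exists_adjust {W : Subgroup G} {r : ℕ} [Fact r.Prime] (P : Sylow r W) {n : G}
    (hn : n ∈ Subgroup.normalizer (W : Set G)) :
    ∃ c ∈ W, c * n ∈ Subgroup.normalizer ((P : Subgroup W).map W.subtype : Set G) := by
  set U := (((P : Subgroup W).map W.subtype).map (MulAut.conj n).toMonoidHom).subgroupOf W with hU
  obtain ⟨Q, hUQ⟩ := (show IsPGroup r U from ((P.2.map _).map _).comap_subtype).exists_le_sylow
  obtain ⟨c, hc⟩ := MulAction.exists_smul_eq W Q P
  refine ⟨c, c.2, CfsgLib.Comp.mem_normalizer_of_maps ?_⟩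
  intro y hy
  have hyW : n * y * n⁻¹ ∈ W :=
    (Subgroup.mem_normalizer_iff.mp hn y).mp ((Subgroup.map_subtype_le (P : Subgroup W)) hy)
  refine ⟨c * ⟨n * y * n⁻¹, hyW⟩ * c⁻¹, ?_, ?_⟩
  · rw [← hc]
    show c * ⟨n * y * n⁻¹, hyW⟩ * c⁻¹ ∈ MulAut.conj c • (Q : Subgroup W)
    exact Subgroup.smul_mem_pointwise_smul _ (MulAut.conj c) _ (hUQ ⟨y, hy, rfl⟩)
  · show (c : G) * (n * y * n⁻¹) * (c : G)⁻¹ = (c : G) * n * y * ((c : G) * n)⁻¹
    group

/-- `N(ZJ(R))` controls the conjugation action of the normalisers of the subgroups of a Sylow subgroup `R`. -/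
theorem zj_control (hfree : ¬ Involves (Equiv.Perm (Fin 3)) G) {r : ℕ} [hr : Fact r.Prime] (h2 : r ≠ 2) (h3 : r ≠ 3)
    (R : Sylow r G) {Q : Subgroup G} (hQ : Q ≤ (R : Subgroup G)) {g : G}
    (hg : ∀ q ∈ Q, g * q * g⁻¹ ∈ (R : Subgroup G)) :
    ∃ x ∈ Subgroup.normalizer (inducedFunctor StrongFusion.zjA (R : Subgroup G) : Set G),
      ∀ q ∈ Q, g * q * g⁻¹ = x * q * x⁻¹ := by
  have hqd : ¬ Involves (Cfsg.qd r) G := by
    intro hq
    obtain ⟨K, N, hn, ⟨e⟩⟩ := StrongFusion.involves_sl2_of_involves_qd hq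
    have h30 : (3 : ZMod r) ≠ 0 := by
      intro e3
      have : r ∣ 3 := (ZMod.natCast_eq_zero_iff 3 r).mp (by exact_mod_cast e3)
      exact h3 ((Nat.prime_dvd_prime_iff_eq hr.out Nat.prime_three).mp this)
    have hsl := S3Free.involves_of_hom (X := Matrix.SpecialLinearGroup (Fin 2) (ZMod r))
      (QuotientGroup.mk' _) (QuotientGroup.mk'_surjective _) (GoldschmidtS3.psl_s3 (F := ZMod r) h30)
    exact hfree (Quadratic.involves_section K N (S3Free.involves_of_hom e.toMonoidHom e.surjective hsl))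
  have hD : IsStronglyClosed (R : Subgroup G) (R : Subgroup G) := ⟨le_rfl, fun _ _ _ h => h⟩
  obtain ⟨-, h⟩ := StrongFusion.controlsOf_zj h2 hqd (W := StrongFusion.zjA) (Or.inl rfl) R hD
    (A := (Q : Set G)) hQ
  exact h g (by rintro _ ⟨q, hq, rfl⟩; exact hg q hq)

end CfsgLib.S3Simple
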