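import Cfsg.Agent.Lib.S3Simple.Four.Local
import Cfsg.Agent.Lib.S3Simple.Four.CoreLemma
import Cfsg.Agent.Lib.S3Simple.Four.OddTools

/-!
Section 6.3: `A` centralises `O(C(x))` for the blocked involutions `x`.

Blueprint: `blueprint/S3Free.md`, 6.3.
-/

set_option autoImplicit false
set_option linter.unusedSectionVars false
set_option linter.style.haveILetI false

namespace CfsgLib.S3Simple

open Cfsg CfsgLib.Comp CfsgLib.AfterFT.CoreSep
open scoped commutatorElement

universe u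

variable {L : Type u} [Group L] [Finite L]

namespace FourHyp

variable {S : Sylow 2 L} {A : Subgroup L} (H : FourHyp S A)
include H

/-- No proper subgroup containing `S` has a section `L₂(q)`. -/
theorem no_psl_of_proper (hout : ∃ x ∈ (S : Subgroup L), x * x = 1 ∧ x ∉ A) {K : Subgroup L} (hK : K ≠ ⊤)
    (hSK : (S : Subgroup L) ≤ K) {F : Type} [Field F] [Fintype F] {m : ℕ} (D : ReeTori.QData F m) {Y : Subgroup L}
    (hY : Y ≤ K) (φ : ↥Y →* Matrix.ProjectiveSpecialLinearGroup (Fin 2) F) (hφ : Function.Surjective φ) : False := by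
  classical
  haveI : Fact (Nat.Prime 2) := ⟨Nat.prime_two⟩
  haveI := D.charP
  obtain ⟨a, ha, ha1⟩ : ∃ a ∈ A, a ≠ 1 := A.bot_or_exists_ne_one.resolve_left H.closed.ne_bot
  have hcard := ReeTori.card_PSL D
  obtain ⟨h8, h27⟩ := D.mod
  have heven : 2 ∣ Nat.card (Matrix.ProjectiveSpecialLinearGroup (Fin 2) F) := by
    have h4 : 4 ∣ Fintype.card F * (Fintype.card F ^ 2 - 1) := by
      refine Dvd.dvd.mul_left ?_ _
      have : Fintype.card F ^ 2 % 4 = 1 := by rw [Nat.pow_mod, show Fintype.card F % 4 = 3 by omega]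
      omega
    rw [← hcard] at h4
    exact Nat.dvd_of_mul_dvd_mul_left (by norm_num : 0 < 2) h4
  have hbig : 4 < Nat.card (Matrix.ProjectiveSpecialLinearGroup (Fin 2) F) := by
    have h1 : 27 ^ 2 ≤ Fintype.card F ^ 2 := Nat.pow_le_pow_left h27 2
    have h2 : Fintype.card F * 1 ≤ Fintype.card F * (Fintype.card F ^ 2 - 1) :=
      Nat.mul_le_mul_left _ (by omega)
    omega
  haveI : IsSimpleGroup (Matrix.ProjectiveSpecialLinearGroup (Fin 2) F) :=
    Matrix.ProjectiveSpecialLinearGroup.rank_two_simple (by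
      rw [Nat.card_eq_fintype_card]; omega)
  set ψ : ↥Y →* ↥K ⧸ pPrimeCore 2 ↥K := (bar 2 ↥K).comp (Subgroup.inclusion hY) with hψ
  have hker : Odd (Nat.card ψ.ker) := by
    refine Odd.of_dvd_nat (Nat.coprime_two_right.mp (card_pPrimeCore_coprime (G := ↥K) 2)) ?_
    rw [← Subgroup.card_map_of_injective (Subgroup.inclusion_injective hY)]
    refine Subgroup.card_dvd_of_le ?_
    rintro _ ⟨y, hy, rfl⟩
    exact (QuotientGroup.eq_one_iff _).mp hy
  haveI : (ψ.ker.map φ).Normal := (inferInstance : ψ.ker.Normal).map φ hφ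
  have hbot : ψ.ker.map φ = ⊥ := ((inferInstance : (ψ.ker.map φ).Normal).eq_bot_or_eq_top).resolve_right fun e => by
    have : Odd (Nat.card (Matrix.ProjectiveSpecialLinearGroup (Fin 2) F)) := by
      rw [← Subgroup.card_top, ← e]
      exact Odd.of_dvd_nat hker (Subgroup.card_map_dvd _ _)
    exact (Nat.not_odd_iff_even.mpr (even_iff_two_dvd.mpr heven)) this
  have hle : ψ.rangeRestrict.ker ≤ φ.ker := fun y hy => by
    rw [MonoidHom.ker_rangeRestrict] at hy
    exact Subgroup.mem_bot.mp (hbot ▸ Subgroup.mem_map_of_mem φ hy)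
  let χ := ψ.rangeRestrict.liftOfSurjective ψ.rangeRestrict_surjective ⟨φ, hle⟩
  have hχ : Function.Surjective χ := fun z => by
    obtain ⟨y, rfl⟩ := hφ z
    exact ⟨ψ.rangeRestrict y, DFunLike.congr_fun (ψ.rangeRestrict.liftOfRightInverse_comp
      (Function.surjInv ψ.rangeRestrict_surjective)
      (Function.rightInverse_surjInv ψ.rangeRestrict_surjective) ⟨φ, hle⟩) y⟩
  -- the part of the normaliser of `A` over the image
  set Y1 : Subgroup L := (ψ.range.comap (bar 2 ↥K)).map K.subtype ⊓ Subgroup.normalizer (A : Set L) with hY1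
  have hY1K : Y1 ≤ K := inf_le_left.trans (Subgroup.map_subtype_le _)
  have hY1R : ∀ y : Y1, bar 2 ↥K ⟨y, hY1K y.2⟩ ∈ ψ.range := fun y => by
    obtain ⟨k, hk, he⟩ := y.2.1
    have : k = ⟨y, hY1K y.2⟩ := Subtype.ext he
    exact this ▸ hk
  let ξ : Y1 →* ψ.range := ((bar 2 ↥K).comp (Subgroup.inclusion hY1K)).codRestrict ψ.range hY1R
  have hξ : Function.Surjective ξ := by
    rintro ⟨_, y, rfl⟩
    obtain ⟨o, ⟨o', ho', hoe⟩, n, hn, hnK, he⟩ := H.local_split hout hK hSK (hY y.2)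
    have hbar : bar 2 ↥K ⟨n, hnK⟩ = ψ y := by
      show _ = bar 2 ↥K ⟨(y : L), hY y.2⟩
      rw [show (⟨(y : L), hY y.2⟩ : ↥K) = o' * ⟨n, hnK⟩ from Subtype.ext (by rw [← he, ← hoe]; rfl), map_mul,
        show bar 2 ↥K o' = 1 from (QuotientGroup.eq_one_iff _).mpr ho', one_mul]
    exact ⟨⟨n, ⟨⟨n, hnK⟩, ⟨y, hbar.symm⟩, rfl⟩, hn⟩, Subtype.ext hbar⟩
  let φ1 : Y1 →* Matrix.ProjectiveSpecialLinearGroup (Fin 2) F := χ.comp ξ
  have hφ1 : Function.Surjective φ1 := hχ.comp hξ
  set C := (Subgroup.centralizer (A : Set L)).subgroupOf Y1 with hC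
  haveI hCn : C.Normal := ⟨fun c hc g x hx => by
    have h : (g : L)⁻¹ * x * g * (c : L) = (c : L) * ((g : L)⁻¹ * x * g) :=
      hc ((g : L)⁻¹ * x * g) ((Subgroup.mem_normalizer_iff''.mp g.2.2 x).mp hx)
    show x * ((g : L) * c * (g : L)⁻¹) = (g : L) * c * (g : L)⁻¹ * x
    calc x * ((g : L) * c * (g : L)⁻¹) = g * (((g : L)⁻¹ * x * g) * c) * (g : L)⁻¹ := by group
      _ = g * (c * ((g : L)⁻¹ * x * g)) * (g : L)⁻¹ := by rw [h]
      _ = g * c * (g : L)⁻¹ * x := by group⟩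
  rcases (hCn.map φ1 hφ1).eq_bot_or_eq_top with hb | ht
  · have hle1 : C ≤ φ1.ker := fun c hc => Subgroup.mem_bot.mp (hb ▸ Subgroup.mem_map_of_mem φ1 hc)
    have h1 := Nat.card_le_card_of_surjective _ (QuotientGroup.lift_surjective_of_surjective C φ1 hφ1 hle1)
    have h2 : Nat.card (Y1 ⧸ C) ≤ 4 := by
      rw [← H.card]
      refine Nat.card_le_card_of_injective (fun q : Y1 ⧸ C => (⟨(q.out : L) * a * (q.out : L)⁻¹,
        (Subgroup.mem_normalizer_iff.mp q.out.2.2 a).mp ha⟩ : A)) fun p q e => ?_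
      have e' : (p.out : L) * a * (p.out : L)⁻¹ = (q.out : L) * a * (q.out : L)⁻¹ := congrArg Subtype.val e
      rw [← QuotientGroup.out_eq' p, ← QuotientGroup.out_eq' q]
      refine QuotientGroup.eq.mpr (show ((p.out⁻¹ * q.out : Y1) : L) ∈ Subgroup.centralizer (A : Set L) from ?_)
      refine H.fix_centralizes ha ha1 (mul_mem (inv_mem p.out.2.2) q.out.2.2) ?_
      show (p.out : L)⁻¹ * q.out * a = a * ((p.out : L)⁻¹ * q.out)
      calc (p.out : L)⁻¹ * q.out * a = (p.out : L)⁻¹ * ((q.out : L) * a * (q.out : L)⁻¹) * q.out := by group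
        _ = a * ((p.out : L)⁻¹ * q.out) := by rw [← e']; group
    omega
  · refine H.no_psl_section hout ha ha1 D (Y := Y1 ⊓ Subgroup.centralizer (A : Set L))
      (inf_le_right.trans (H.le_cc_centralizer ha)) (φ1.comp (Subgroup.inclusion inf_le_left)) fun z => ?_
    obtain ⟨c, hc, rfl⟩ := ht.ge (Subgroup.mem_top z)
    exact ⟨⟨c, c.2, hc⟩, rfl⟩

/-- The primes dividing `|O(C(A))|`. -/
theorem prime_case {x : L} (hxS : x ∈ (S : Subgroup L)) (hx2 : x * x = 1) (hxA : x ∉ A) {r : ℕ} (hr : r.Prime)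
    (hr2 : r ≠ 2) (hr3 : r ≠ 3) (hdvd : r ∣ Nat.card (coreC A)) {W : Subgroup L}
    (hW : W ≤ centralizerPPrimeCore 2 x) (hWr : IsPGroup r W) (hWA : A ≤ Subgroup.normalizer (W : Set L)) :
    W ≤ Subgroup.centralizer (A : Set L) := by
  classical
  haveI : Fact (Nat.Prime 2) := ⟨Nat.prime_two⟩
  haveI : Fact r.Prime := ⟨hr⟩
  haveI := H.hyp.simple
  have hout : ∃ y ∈ (S : Subgroup L), y * y = 1 ∧ y ∉ A := ⟨x, hxS, hx2, hxA⟩
  obtain ⟨E, hB⟩ := H.blockData hxS (fun e => hxA (e ▸ one_mem A)) (H.all_blocked hxS hx2 hxA)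
  set Z := coreC A with hZ
  have hZodd : Odd (Nat.card Z) := odd_card_coreC A
  have hAnorm : (S : Subgroup L) ≤ Subgroup.normalizer (Z : Set L) :=
    H.S_le_centralizer.trans (centralizer_le_normalizer_coreC A)
  haveI : Group.IsSolvable ↥(S : Subgroup L) := by
    haveI := IsPGroup.isNilpotent S.2
    infer_instance
  obtain ⟨Z0, hZ0⟩ := CfsgLib.coprime_exists_invariant_sylow hAnorm (coprime_two_odd S.2 hZodd) (Or.inl inferInstance) r
  set Z' := (Z0 : Subgroup Z).map Z.subtype with hZ'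
  have hZ'Z : Z' ≤ Z := Subgroup.map_subtype_le _
  have hZ'c : Z' ≤ Subgroup.centralizer (A : Set L) := hZ'Z.trans (coreC_centralizes A)
  have hZ'1 : Z' ≠ ⊥ := by
    rw [Ne, Subgroup.map_eq_bot_iff_of_injective _ Z.subtype_injective]
    exact Z0.ne_bot_of_dvd_card hdvd
  set Hz := Subgroup.normalizer (Z' : Set L) with hHz
  obtain ⟨a1, ha1, ha11⟩ : ∃ a ∈ A, a ≠ 1 := A.bot_or_exists_ne_one.resolve_left H.closed.ne_bot
  have hZ'top : Z' ≠ ⊤ := fun e => by
    have h1 : Subgroup.centralizer (A : Set L) = ⊤ := top_le_iff.mp (e ▸ hZ'c)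
    exact H.cc_ne_top ha11 (top_le_iff.mp (h1 ▸ H.le_cc_centralizer ha1))
  have hHtop : Hz ≠ ⊤ := H.hyp.normalizer_ne_top hZ'1 hZ'top
  have hSH : (S : Subgroup L) ≤ Hz := hZ0
  have hAH : A ≤ Hz := H.le_S.trans hSH
  -- the core of `N(Z')` and an `S`-invariant Sylow subgroup of it
  set OH := (pPrimeCore 2 ↥Hz).map Hz.subtype with hOH
  have hOHodd : Odd (Nat.card OH) := by
    rw [hOH, Subgroup.card_map_of_injective Hz.subtype_injective]
    exact Nat.coprime_two_right.mp (card_pPrimeCore_coprime 2)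
  have hHOH : Hz ≤ Subgroup.normalizer (OH : Set L) := fun h hh => mem_normalizer_of_maps (by
    rintro _ ⟨o, ho, rfl⟩
    exact ⟨⟨h, hh⟩ * o * ⟨h, hh⟩⁻¹, pPrimeCore_normal'.conj_mem o ho ⟨h, hh⟩, rfl⟩)
  obtain ⟨D0, hD0⟩ := CfsgLib.coprime_exists_invariant_sylow (hSH.trans hHOH) (coprime_two_odd S.2 hOHodd)
    (Or.inl inferInstance) r
  set D' := (D0 : Subgroup OH).map OH.subtype with hD'
  by_cases hAD : D' ≤ Subgroup.centralizer (A : Set L)
  · -- `A` centralises the invariant subgroups of each `O(C(a))`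
    have hall : ∀ a ∈ A, a ≠ 1 → ∀ U : Subgroup L, U ≤ centralizerPPrimeCore 2 a → IsPGroup r U →
        A ≤ Subgroup.normalizer (U : Set L) → U ≤ Subgroup.centralizer (A : Set L) := by
      intro a ha hane U hU hUr hUA
      have hAa : A ≤ Subgroup.normalizer (centralizerPPrimeCore 2 a : Set L) :=
        (H.le_S.trans (H.S_le_cc ha)).trans (cc_le_normalizer_core a)
      have hodd := odd_card_core a
      obtain ⟨P, hZP, hP⟩ := CfsgLib.coprime_le_invariant_sylow hAa (coprime_two_odd H.isPGroup hodd)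
        (Or.inr (solvable_of_odd hodd)) (hZ'Z.trans (H.coreC_le_core hout ha hane)) (Z0.2.map _) (hAH : A ≤ _)
      set P' := (P : Subgroup ↥(centralizerPPrimeCore 2 a)).map (centralizerPPrimeCore 2 a).subtype with hP'
      refine invariant_centralized H.isPGroup hodd hAa P hP ?_ hU hUr hUA
      set V := P' ⊓ Hz with hV
      have hVr : IsPGroup r V := (P.2.map _).to_le inf_le_left
      have hVA : A ≤ Subgroup.normalizer (V : Set L) := fun b hb => mem_normalizer_of_maps fun y hy =>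
        Subgroup.mem_inf.mpr ⟨(Subgroup.mem_normalizer_iff.mp (hP hb) y).mp hy.1,
          mul_mem (mul_mem (hAH hb) hy.2) (inv_mem (hAH hb))⟩
      have hVodd : Odd (Nat.card V) := odd_of_le (inf_le_left.trans (Subgroup.map_subtype_le _)) hodd
      have hcomm : ⁅V, A⁆ ≤ OH := by
        rw [Subgroup.commutator_le]
        intro u hu b hb
        obtain ⟨o, ⟨o', ho', hoe⟩, n, hn, hnH, he⟩ := H.local_split hout hHtop hSH hu.2
        have hnb : n * b * n⁻¹ ∈ A := (Subgroup.mem_normalizer_iff.mp hn b).mp hb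
        set k : ↥Hz := ⟨u, hu.2⟩ * ⟨b, hAH hb⟩ * (⟨u, hu.2⟩ : ↥Hz)⁻¹ * (⟨b, hAH hb⟩ : ↥Hz)⁻¹ with hk
        set α : ↥Hz := ⟨n * b * n⁻¹ * b⁻¹, hAH (mul_mem hnb (inv_mem hb))⟩ with hα
        have hbar : bar 2 ↥Hz k = bar 2 ↥Hz α := by
          have hu' : (⟨u, hu.2⟩ : ↥Hz) = o' * ⟨n, hnH⟩ :=
            Subtype.ext (show u = (o' : L) * n by rw [← he, ← hoe]; rfl)
          have ho1 : bar 2 ↥Hz o' = 1 := (QuotientGroup.eq_one_iff _).mpr ho'
          rw [show k = (o' * ⟨n, hnH⟩) * ⟨b, hAH hb⟩ * (o' * ⟨n, hnH⟩ : ↥Hz)⁻¹ * (⟨b, hAH hb⟩ : ↥Hz)⁻¹ from by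
            rw [← hu'], show α = ⟨n, hnH⟩ * ⟨b, hAH hb⟩ * (⟨n, hnH⟩ : ↥Hz)⁻¹ * (⟨b, hAH hb⟩ : ↥Hz)⁻¹ from
            Subtype.ext rfl, map_mul, map_mul, map_mul, map_inv, map_mul, map_mul, map_mul, map_mul, map_inv, map_inv,
            ho1, one_mul]
        have hkV : (k : L) ∈ V := by
          show u * b * u⁻¹ * b⁻¹ ∈ V
          rw [show u * b * u⁻¹ * b⁻¹ = u * (b * u⁻¹ * b⁻¹) by group]
          exact mul_mem hu ((Subgroup.mem_normalizer_iff.mp (hVA hb) _).mp (inv_mem hu))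
        have hkodd : Odd (orderOf (bar 2 ↥Hz k)) := by
          refine Odd.of_dvd_nat ?_ (orderOf_map_dvd _ _)
          rw [← Subgroup.orderOf_coe]
          exact Odd.of_dvd_nat hVodd (Subgroup.orderOf_dvd_natCard _ hkV)
        have h1 : bar 2 ↥Hz k = 1 := by
          refine eq_one_of_odd_of_two_pow hkodd (k := 1) ?_
          rw [hbar, ← map_pow, ← map_one (bar 2 ↥Hz)]
          refine congrArg _ (Subtype.ext ?_)
          show (n * b * n⁻¹ * b⁻¹) ^ 2 ^ 1 = 1
          rw [pow_one, pow_two]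
          exact H.sq (mul_mem hnb (inv_mem hb))
        exact ⟨k, (QuotientGroup.eq_one_iff _).mp h1, by
          show u * b * u⁻¹ * b⁻¹ = ⁅u, b⁆
          rw [commutatorElement_def]⟩
      have hVc : V ≤ Subgroup.centralizer (A : Set L) := by
        have h1 : ⁅V, A⁆ ≤ Subgroup.centralizer (A : Set L) := invariant_centralized H.isPGroup hOHodd
          (hAH.trans hHOH) D0 (H.le_S.trans hD0) hAD hcomm
          (hVr.to_le (CfsgLib.commutator_le_of_le_normalizer hVA)) (CfsgLib.right_le_normalizer_commutator A V)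
        have h2 : ⁅⁅V, A⁆, A⁆ = ⊥ := Subgroup.commutator_eq_bot_iff_le_centralizer.mpr h1
        rw [CfsgLib.coprime_commutator_commutator hVA (coprime_two_odd H.isPGroup hVodd)
          (Or.inr (solvable_of_odd hVodd))] at h2
        exact Subgroup.commutator_eq_bot_iff_le_centralizer.mp h2
      have hVZ : V ≤ Z := fun v hv =>
        H.core_inf_centralizer_le ha ⟨(Subgroup.map_subtype_le (P : Subgroup ↥(centralizerPPrimeCore 2 a))) hv.1, hVc hv⟩
      have hZV : Z' ≤ V := le_inf hZP Subgroup.le_normalizer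
      have hVeq : V = Z' := by
        have h1 : (V.subgroupOf Z) = (Z0 : Subgroup Z) := Z0.3 (hVr.comap_subtype (K := Z)) fun z hz =>
          hZV ⟨z, hz, rfl⟩
        rw [hZ', ← h1, Subgroup.map_subgroupOf_eq_of_le hVZ]
      have hPZ : P' = Z' := by
        haveI := IsPGroup.isNilpotent (P.2.map (centralizerPPrimeCore 2 a).subtype)
        by_contra hne
        have hlt : Z'.subgroupOf P' < ⊤ := lt_top_iff_ne_top.mpr fun e =>
          hne (le_antisymm (Subgroup.subgroupOf_eq_top.mp e) hZP)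
        obtain ⟨g, hgN, hgZ⟩ := SetLike.exists_of_lt (Group.normalizerCondition_of_isNilpotent _ hlt)
        refine hgZ (show (g : L) ∈ Z' from hVeq ▸ ⟨g.2, mem_normalizer_of_maps fun z hz => ?_⟩)
        exact (Subgroup.mem_normalizer_iff.mp hgN ⟨z, hZP hz⟩).mp hz
      exact hPZ.le.trans hZ'c
    have hAnc : ¬ IsCyclic A := fun hc => by
      obtain ⟨g, hg⟩ := IsCyclic.exists_generator (α := A)
      have h1 := orderOf_eq_card_of_forall_mem_zpowers hg
      rw [H.card] at h1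
      have h2 : orderOf g ∣ 2 := orderOf_dvd_of_pow_eq_one (Subtype.ext (by rw [pow_two]; exact H.sq g.2))
      rw [h1] at h2
      omega
    haveI : IsMulCommutative A := ⟨⟨fun u v => Subtype.ext (H.comm u.2 v.2)⟩⟩
    rw [← CfsgLib.coprime_generated_by_centralizers hAnc hWA
      (coprime_two_odd H.isPGroup (odd_of_le hW (odd_card_core x)))]
    refine iSup₂_le fun a ⟨ha, hane⟩ => hall a ha hane _
      (fun w hw => H.core_inf_cc_le hout ha hane hxS hx2 ⟨hW hw.1, hw.2⟩) (hWr.to_le inf_le_left) ?_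
    intro b hb
    refine mem_normalizer_of_maps fun y hy => Subgroup.mem_inf.mpr
      ⟨(Subgroup.mem_normalizer_iff.mp (hWA hb) y).mp hy.1, ?_⟩
    have hba : b ∈ cc a := mem_cc.mpr (H.comm hb ha)
    exact mul_mem (mul_mem hba hy.2) (inv_mem hba)
  · -- `A`, hence `S`, is faithful on `D'`
    set CD := Subgroup.centralizer (D' : Set L) with hCD
    have hADbot : A ⊓ CD = ⊥ := by
      refine (H.irred (A ⊓ CD) inf_le_left fun n hn b hb => ?_).resolve_right fun e => hAD fun d hd a ha =>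
        ((e.ge ha).2 d hd).symm
      have hnZ : n ∈ Subgroup.normalizer (Z : Set L) := normalizer_le_normalizer_coreC A hn
      obtain ⟨c, hc, hcn⟩ := exists_adjust_invariant H.isPGroup hZodd (H.le_S.trans hAnorm) Z0 hAH hnZ hn
      have hcnA : c * n ∈ Subgroup.normalizer (A : Set L) :=
        mul_mem (Subgroup.centralizer_le_normalizer (A : Set L) hc.2) hn
      obtain ⟨d, hd, hdn⟩ := exists_adjust_invariant H.isPGroup hOHodd (hAH.trans hHOH) D0 (H.le_S.trans hD0)
        (hHOH hcn) hcnA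
      have hconj : ∀ y ∈ A, d * (c * n) * y * (d * (c * n))⁻¹ = n * y * n⁻¹ := fun y hy => by
        have hy' : n * y * n⁻¹ ∈ A := (Subgroup.mem_normalizer_iff.mp hn y).mp hy
        calc d * (c * n) * y * (d * (c * n))⁻¹ = d * (c * (n * y * n⁻¹) * c⁻¹) * d⁻¹ := by group
          _ = d * (n * y * n⁻¹) * d⁻¹ := by rw [← hc.2 _ hy', mul_inv_cancel_right]
          _ = n * y * n⁻¹ := by rw [← hd.2 _ hy', mul_inv_cancel_right]
      refine ⟨(Subgroup.mem_normalizer_iff.mp hn b).mp hb.1, ?_⟩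
      rw [← hconj b hb.1]
      exact conj_mem_centralizer hdn hb.2
    have hSDbot : (S : Subgroup L) ⊓ CD = ⊥ := by
      by_contra hne
      obtain ⟨e, he, he2, he1, hec⟩ := exists_central_involution S.2 inf_le_left (fun s hs =>
        CfsgLib.Bender.TwoClosed.mem_normalizer_of_conj fun c hc =>
          ⟨mul_mem (mul_mem hs hc.1) ((S : Subgroup L).inv_mem hs), conj_mem_centralizer (hD0 hs) hc.2⟩) hne
      exact he1 (Subgroup.mem_bot.mp (hADbot ▸ ⟨H.center e he.1 he2 hec, he.2⟩))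
    obtain ⟨R, hR⟩ := (D0.2.map OH.subtype).exists_le_sylow
    set M := Subgroup.normalizer (inducedFunctor StrongFusion.zjA (R : Subgroup L) : Set L) with hM
    have hMtop : M ≠ ⊤ := by
      have hD'1 : D' ≠ ⊥ := fun e => hAD (by rw [e]; exact bot_le)
      have hR1 : (R : Subgroup L) ≠ ⊥ := fun e => hD'1 (le_bot_iff.mp (e ▸ hR))
      have hW1 : inducedFunctor StrongFusion.zjA (R : Subgroup L) ≠ ⊥ := by
        rw [inducedFunctor, Ne, Subgroup.map_eq_bot_iff_of_injective _ (R : Subgroup L).subtype_injective]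
        haveI : Nontrivial ↥(R : Subgroup L) := (R : Subgroup L).nontrivial_iff_ne_bot.mpr hR1
        exact ZJ.zj_ne_bot (p := r) (Or.inl rfl) (R.2.to_subgroup ⊤) top_ne_bot
      refine H.hyp.normalizer_ne_top hW1 fun e => ?_
      have htop : (R : Subgroup L) = ⊤ := top_le_iff.mp (e ▸ (Subgroup.map_subtype_le _))
      obtain ⟨k, hk⟩ := R.2 ⟨a1, htop ▸ Subgroup.mem_top a1⟩
      have h1 : orderOf a1 ∣ r ^ k := orderOf_dvd_of_pow_eq_one (congrArg Subtype.val hk)
      rw [H.closed.orderOf_eq_two ha1 ha11] at h1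
      exact hr2 ((Nat.prime_dvd_prime_iff_eq Nat.prime_two hr).mp (Nat.prime_two.dvd_of_dvd_pow h1)).symm
    set ND := Subgroup.normalizer (D' : Set L) with hND
    -- `M` contains a Sylow 2-subgroup
    haveI hCDn : (CD.subgroupOf ND).Normal := ⟨fun c hc g => conj_mem_centralizer g.2 hc⟩
    have hdS : Nat.card ↥(S : Subgroup L) ∣ Nat.card ↥(M ⊓ ND) := by
      let f : ↥(M ⊓ ND) →* ↥ND ⧸ CD.subgroupOf ND :=
        (QuotientGroup.mk' _).comp (Subgroup.inclusion inf_le_right)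
      have hf : Function.Surjective f := fun q => by
        obtain ⟨g, rfl⟩ := QuotientGroup.mk'_surjective _ q
        obtain ⟨m, hm, hmg⟩ := zj_control H.hyp.free hr2 hr3 R hR (g := g)
          fun d hd => hR ((Subgroup.mem_normalizer_iff.mp g.2 d).mp hd)
        have hc : (m : L)⁻¹ * g ∈ CD := fun d hd => by
          have h := hmg d hd
          calc d * (m⁻¹ * (g : L)) = m⁻¹ * (m * d * m⁻¹) * g := by group
            _ = m⁻¹ * g * d := by rw [← h]; group
        have hmN : m ∈ ND := by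
          have := mul_mem g.2 (inv_mem (Subgroup.centralizer_le_normalizer (D' : Set L) hc))
          rwa [mul_inv_rev, inv_inv, mul_inv_cancel_left] at this
        exact ⟨⟨m, hm, hmN⟩, QuotientGroup.eq.mpr hc⟩
      refine dvd_trans ?_ (Subgroup.card_dvd_of_surjective f hf)
      refine Subgroup.card_dvd_of_injective ((QuotientGroup.mk' _).comp (Subgroup.inclusion hD0)) ?_
      refine (injective_iff_map_eq_one _).mpr fun s hs => Subtype.ext ?_
      exact Subgroup.mem_bot.mp (hSDbot ▸ ⟨s.2, ((QuotientGroup.eq_one_iff _).mp hs : _)⟩)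
    obtain ⟨k, hk⟩ := IsPGroup.iff_card.mp S.2
    obtain ⟨Q, hQ⟩ := Sylow.exists_subgroup_card_pow_prime 2 (G := ↥(M ⊓ ND)) (n := k) (hk ▸ hdS)
    set Q' := Q.map (M ⊓ ND).subtype with hQ'
    have hQcard : Nat.card Q' = 2 ^ k := by rw [hQ', Subgroup.card_map_of_injective (M ⊓ ND).subtype_injective, hQ]
    have hQM : Q' ≤ M := (Subgroup.map_subtype_le _).trans inf_le_left
    obtain ⟨T, hT⟩ := (IsPGroup.of_card (n := k) hQcard).exists_le_sylow
    have hTQ : (T : Subgroup L) ≤ M := by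
      have : Q' = (T : Subgroup L) := Subgroup.eq_of_le_of_card_ge hT (by
        rw [hQcard, ← hk, Sylow.card_eq_multiplicity, Sylow.card_eq_multiplicity])
      exact this ▸ hQM
    -- an `A`-invariant Sylow subgroup of `O(C(x))` is centralised
    have hAx : A ≤ Subgroup.normalizer (centralizerPPrimeCore 2 x : Set L) :=
      hB.le.trans (cc_le_normalizer_core x)
    have hxodd := odd_card_core x
    obtain ⟨P, hWP, hP⟩ := CfsgLib.coprime_le_invariant_sylow hAx (coprime_two_odd H.isPGroup hxodd)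
      (Or.inr (solvable_of_odd hxodd)) hW hWr hWA
    set P' := (P : Subgroup ↥(centralizerPPrimeCore 2 x)).map (centralizerPPrimeCore 2 x).subtype with hP'
    refine hWP.trans ?_
    -- transport `P'` into `R`
    obtain ⟨R', hR'⟩ := (P.2.map (centralizerPPrimeCore 2 x).subtype).exists_le_sylow
    obtain ⟨g, hg⟩ := MulAction.exists_smul_eq L R' R
    have hgP : ∀ p ∈ P', g * p * g⁻¹ ∈ (R : Subgroup L) := fun p hp => by
      rw [← hg, Sylow.coe_subgroup_smul]
      exact Subgroup.smul_mem_pointwise_smul p (MulAut.conj g) _ (hR' hp)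
    set M1 := M.map (MulAut.conj g⁻¹).toMonoidHom with hM1
    set NP := Subgroup.normalizer (P' : Set L) with hNP
    have hctrl : ∀ y ∈ NP, ∃ z ∈ M1, ∀ p ∈ P', z * p * z⁻¹ = y * p * y⁻¹ := by
      intro y hy
      obtain ⟨m, hm, hmg⟩ := zj_control H.hyp.free hr2 hr3 R (Q := P'.map (MulAut.conj g).toMonoidHom)
        (by rintro _ ⟨p, hp, rfl⟩; exact hgP p hp) (g := g * y * g⁻¹) (by
          rintro _ ⟨p, hp, rfl⟩
          show g * y * g⁻¹ * (g * p * g⁻¹) * (g * y * g⁻¹)⁻¹ ∈ _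
          rw [show g * y * g⁻¹ * (g * p * g⁻¹) * (g * y * g⁻¹)⁻¹ = g * (y * p * y⁻¹) * g⁻¹ by group]
          exact hgP _ ((Subgroup.mem_normalizer_iff.mp hy p).mp hp))
      refine ⟨g⁻¹ * m * g⁻¹⁻¹, ⟨m, hm, rfl⟩, fun p hp => ?_⟩
      have h : g * y * g⁻¹ * (g * p * g⁻¹) * (g * y * g⁻¹)⁻¹ = m * (g * p * g⁻¹) * m⁻¹ := hmg _ ⟨p, hp, rfl⟩
      calc g⁻¹ * m * g⁻¹⁻¹ * p * (g⁻¹ * m * g⁻¹⁻¹)⁻¹ = g⁻¹ * (m * (g * p * g⁻¹) * m⁻¹) * g := by group
        _ = y * p * y⁻¹ := by rw [← h]; group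
    obtain ⟨F, i1, i2, n, hn1, hFc, ⟨eE⟩⟩ := hB.model
    set Y := NP ⊓ ((E.comap (ff x)).map (cc x).subtype) with hY
    have hYcc : Y ≤ cc x := inf_le_right.trans (Subgroup.map_subtype_le _)
    have hYE : ∀ y : Y, ff x ⟨y, hYcc y.2⟩ ∈ E := fun y => by
      obtain ⟨k, hk, he⟩ := y.2.2
      have : k = ⟨y, hYcc y.2⟩ := Subtype.ext he
      exact this ▸ hk
    let φ : Y →* Matrix.ProjectiveSpecialLinearGroup (Fin 2) F :=
      eE.toMonoidHom.comp (((ff x).comp (Subgroup.inclusion hYcc)).codRestrict E hYE)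
    have hφ : Function.Surjective φ := fun z => by
      obtain ⟨k, hk⟩ := bar_surjective 2 ((eE.symm z : ↥E) : qq x)
      obtain ⟨o, ho, hon⟩ := exists_adjust P (n := (k : L)) (cc_le_normalizer_core x k.2)
      obtain ⟨o', ho', rfl⟩ := ho
      have hbar : ff x (o' * k) = ((eE.symm z : ↥E) : qq x) := by
        rw [map_mul, show ff x o' = 1 from (QuotientGroup.eq_one_iff _).mpr ho', one_mul]
        exact hk
      have hmem : ((o' : L) * (k : L)) ∈ Y := ⟨hon, o' * k, by
        show ff x (o' * k) ∈ E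
        rw [hbar]; exact (eE.symm z).2, rfl⟩
      refine ⟨⟨((o' : L) * (k : L)), hmem⟩, ?_⟩
      show eE _ = z
      rw [← eE.apply_symm_apply z]
      refine congrArg eE (Subtype.ext ?_)
      show ff x ⟨((o' : L) * (k : L)), _⟩ = _
      refine Eq.trans ?_ hbar
      rfl
    have hkerφ : ∀ y : Y, φ y = 1 → Odd (orderOf y) := fun y hy => by
      have h1 : ff x ⟨y, hYcc y.2⟩ = 1 := congrArg Subtype.val (eE.map_eq_one_iff.mp hy)
      rw [← Subgroup.orderOf_coe]
      exact odd_order_core ⟨_, (QuotientGroup.eq_one_iff _).mp h1, rfl⟩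
    let α : NP →* MulAut P' := Subgroup.normalizerMonoidHom P'
    let αY : Y →* MulAut P' := α.comp (Subgroup.inclusion inf_le_left)
    haveI : (αY.ker.map φ).Normal := (inferInstance : αY.ker.Normal).map φ hφ
    haveI := (⟨hn1, hFc⟩ : ReeTori.QData F n).charP
    haveI : IsSimpleGroup (Matrix.ProjectiveSpecialLinearGroup (Fin 2) F) :=
      Matrix.ProjectiveSpecialLinearGroup.rank_two_simple (by
        rw [Nat.card_eq_fintype_card]; have := (⟨hn1, hFc⟩ : ReeTori.QData F n).mod; omega)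
    rcases (inferInstance : (αY.ker.map φ).Normal).eq_bot_or_eq_top with hb | ht
    · exfalso
      have hle : αY.rangeRestrict.ker ≤ φ.ker := fun y hy => by
        rw [MonoidHom.ker_rangeRestrict] at hy
        exact Subgroup.mem_bot.mp (hb ▸ Subgroup.mem_map_of_mem φ hy)
      let χ := αY.rangeRestrict.liftOfSurjective αY.rangeRestrict_surjective ⟨φ, hle⟩
      have hχ : Function.Surjective χ := fun z => by
        obtain ⟨y, rfl⟩ := hφ z
        exact ⟨αY.rangeRestrict y, DFunLike.congr_fun (αY.rangeRestrict.liftOfRightInverse_comp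
          (Function.surjInv αY.rangeRestrict_surjective)
          (Function.rightInverse_surjInv αY.rangeRestrict_surjective) ⟨φ, hle⟩) y⟩
      set Y1 := (αY.range.comap α).map NP.subtype ⊓ M1 with hY1
      have hY1N : Y1 ≤ NP := inf_le_left.trans (Subgroup.map_subtype_le _)
      have hY1R : ∀ y : Y1, α ⟨y, hY1N y.2⟩ ∈ αY.range := fun y => by
        obtain ⟨k, hk, he⟩ := y.2.1
        have : k = ⟨y, hY1N y.2⟩ := Subtype.ext he
        exact this ▸ hk
      let ξ : Y1 →* αY.range := (α.comp (Subgroup.inclusion hY1N)).codRestrict αY.range hY1R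
      have hξ : Function.Surjective ξ := by
        rintro ⟨_, y, rfl⟩
        obtain ⟨z, hz, hzy⟩ := hctrl y y.2.1
        have hzN : z ∈ NP := mem_normalizer_of_maps fun p hp => by
          rw [hzy p hp]
          exact (Subgroup.mem_normalizer_iff.mp y.2.1 p).mp hp
        have he : α ⟨z, hzN⟩ = αY y := MulEquiv.ext fun p => Subtype.ext (hzy p p.2)
        exact ⟨⟨z, ⟨⟨z, hzN⟩, ⟨y, he.symm⟩, rfl⟩, hz⟩, Subtype.ext he⟩
      -- move `S` into `M1`
      obtain ⟨h, hh⟩ := MulAction.exists_smul_eq L S T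
      set w := h⁻¹ * g with hw
      set M2 := M.map (MulAut.conj h⁻¹).toMonoidHom with hM2
      have hSM2 : (S : Subgroup L) ≤ M2 := fun s hs => by
        refine ⟨h * s * h⁻¹, hTQ ?_, ?_⟩
        · rw [← hh, Sylow.coe_subgroup_smul]
          exact Subgroup.smul_mem_pointwise_smul s (MulAut.conj h) _ hs
        · show h⁻¹ * (h * s * h⁻¹) * h⁻¹⁻¹ = s
          group
      have hM2top : M2 ≠ ⊤ := fun e => hMtop (by
        refine Subgroup.map_injective (f := (MulAut.conj h⁻¹).toMonoidHom) (MulAut.conj h⁻¹).injective ?_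
        rw [← hM2, e]
        exact (Subgroup.map_top_of_surjective _ (MulAut.conj h⁻¹).surjective).symm)
      let eY := Y1.equivMapOfInjective (MulAut.conj w).toMonoidHom (MulAut.conj w).injective
      refine H.no_psl_of_proper hout hM2top hSM2 (⟨hn1, hFc⟩ : ReeTori.QData F n)
        (Y := Y1.map (MulAut.conj w).toMonoidHom) ?_ ((χ.comp ξ).comp eY.symm.toMonoidHom)
        ((hχ.comp hξ).comp eY.symm.surjective)
      rintro _ ⟨y, hy, rfl⟩
      obtain ⟨m, hm, rfl⟩ := hy.2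
      refine ⟨m, hm, ?_⟩
      show h⁻¹ * m * h⁻¹⁻¹ = w * (g⁻¹ * m * g⁻¹⁻¹) * w⁻¹
      rw [hw]; group
    · intro p hp a ha
      have haY : a ∈ Y := ⟨hP ha, ⟨a, hB.le ha⟩, hB.inner a ha (hB.le ha), rfl⟩
      obtain ⟨u, hu, hue⟩ := ht.ge (Subgroup.mem_top (φ ⟨a, haY⟩))
      set o : Y := u⁻¹ * ⟨a, haY⟩ with ho
      have ho1 : φ o = 1 := by rw [ho, map_mul, map_inv, hue, inv_mul_cancel]
      have hαo : αY o = αY ⟨a, haY⟩ := by
        rw [ho, map_mul, map_inv, show αY u = 1 from hu, inv_one, one_mul]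
      have h1 : αY ⟨a, haY⟩ = 1 := by
        refine eq_one_of_odd_of_two_pow (k := 1) (hαo ▸ odd_orderOf_map αY (hkerφ o ho1)) ?_
        rw [← map_pow, ← map_one αY]
        refine congrArg _ (Subtype.ext ?_)
        show a ^ 2 ^ 1 = 1
        rw [pow_one, pow_two]
        exact H.sq ha
      have h2' := congrArg Subtype.val (DFunLike.congr_fun h1 (⟨p, hp⟩ : P'))
      have h2 : a * p * a⁻¹ = p := h2'
      exact mul_inv_eq_iff_eq_mul.mp h2

/-- `A` centralises `O(C(x))` for an involution `x` of `S` outside `A`. -/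
theorem core_le_centralizer {x : L} (hxS : x ∈ (S : Subgroup L)) (hx2 : x * x = 1) (hxA : x ∉ A) :
    centralizerPPrimeCore 2 x ≤ Subgroup.centralizer (A : Set L) := by
  classical
  haveI : Fact (Nat.Prime 2) := ⟨Nat.prime_two⟩
  have hout : ∃ y ∈ (S : Subgroup L), y * y = 1 ∧ y ∉ A := ⟨x, hxS, hx2, hxA⟩
  obtain ⟨a1, ha1, ha11⟩ : ∃ a ∈ A, a ≠ 1 := A.bot_or_exists_ne_one.resolve_left H.closed.ne_bot
  obtain ⟨E, hB⟩ := H.blockData hxS (fun e => hxA (e ▸ one_mem A)) (H.all_blocked hxS hx2 hxA)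
  obtain ⟨F, i1, i2, n, hn1, hFc, ⟨eE⟩⟩ := hB.model
  set X := pEl 2 (E.comap (ff x)) with hXdef
  have hX : IsPComponent 2 X := (isPComponent_iff 2).mpr ⟨E, hB.comp, rfl⟩
  have hXE : ∀ k : X, ff x k ∈ E := fun k => pEl_le (E.comap (ff x)) k.2
  let φ : X →* Matrix.ProjectiveSpecialLinearGroup (Fin 2) F :=
    eE.toMonoidHom.comp (((ff x).comp X.subtype).codRestrict E hXE)
  have hφ : Function.Surjective φ := fun z => by
    obtain ⟨k, hk, hke⟩ : ((eE.symm z : ↥E) : qq x) ∈ X.map (ff x) := by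
      rw [hXdef, map_pEl_comap 2 hB.comp]; exact (eE.symm z).2
    refine ⟨⟨k, hk⟩, ?_⟩
    show eE _ = z
    rw [← eE.apply_symm_apply z]
    exact congrArg eE (Subtype.ext hke)
  have hker : ∀ k : X, k ∈ φ.ker ↔ ((k : ↥(cc x)) : L) ∈ centralizerPPrimeCore 2 x := fun k => by
    constructor
    · intro hk
      have h1 : ff x k = 1 := congrArg Subtype.val (eE.map_eq_one_iff.mp hk)
      exact ⟨_, (QuotientGroup.eq_one_iff _).mp h1, rfl⟩
    · rintro ⟨o, ho, he⟩
      refine eE.map_eq_one_iff.mpr (Subtype.ext ?_)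
      show ff x k = 1
      rw [← show o = (k : ↥(cc x)) from Subtype.ext he]
      exact (QuotientGroup.eq_one_iff _).mpr ho
  have hperf : commutator X = ⊤ := by
    refine Subgroup.map_injective X.subtype_injective ?_
    rw [commutator_def, Subgroup.map_commutator, ← MonoidHom.range_eq_map, Subgroup.range_subtype]
    exact pcomp_perfect hX
  have hAX : ∀ a (ha : a ∈ A), (⟨a, hB.le ha⟩ : ↥(cc x)) ∈ X := fun a ha =>
    Subgroup.subset_closure ⟨hB.inner a ha _, 1, Subtype.ext (by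
      show a ^ 2 ^ 1 = 1
      rw [pow_one, pow_two]; exact H.sq ha)⟩
  set B : Subgroup X := (A.subgroupOf (cc x)).subgroupOf X with hBdef
  have hB4 : Nat.card B = 4 := by
    rw [← H.card]
    refine (Nat.card_eq_of_bijective (fun a : A => (⟨⟨⟨a, hB.le a.2⟩, hAX a a.2⟩, a.2⟩ : B)) ⟨fun a b e => ?_, ?_⟩).symm
    · exact Subtype.ext (congrArg (fun w : B => (((w : X) : ↥(cc x)) : L)) e)
    · rintro ⟨⟨⟨a, ha'⟩, hk⟩, ha⟩
      exact ⟨⟨a, ha⟩, rfl⟩
  have hodd : Odd (Nat.card φ.ker) := by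
    refine Odd.of_dvd_nat (odd_card_core x) ?_
    rw [← Subgroup.card_map_of_injective (f := (cc x).subtype.comp X.subtype)
      ((cc x).subtype_injective.comp X.subtype_injective)]
    refine Subgroup.card_dvd_of_le ?_
    rintro _ ⟨k, hk, rfl⟩
    exact (hker k).mp hk
  have hprime : PrimeHyp φ.ker B := by
    intro r hr hcond W hW hWr hWB
    haveI : Fact r.Prime := ⟨hr⟩
    let i : X →* L := (cc x).subtype.comp X.subtype
    have hWA : A ≤ Subgroup.normalizer (W.map i : Set L) := fun a ha => mem_normalizer_of_maps (by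
      rintro _ ⟨w, hw, rfl⟩
      refine ⟨⟨⟨a, hB.le ha⟩, hAX a ha⟩ * w * (⟨⟨a, hB.le ha⟩, hAX a ha⟩ : X)⁻¹,
        (Subgroup.mem_normalizer_iff.mp (hWB (show (⟨⟨a, hB.le ha⟩, hAX a ha⟩ : X) ∈ B from ha)) w).mp hw, rfl⟩)
    have hWO : W.map i ≤ centralizerPPrimeCore 2 x := by
      rintro _ ⟨w, hw, rfl⟩
      exact (hker w).mp (hW hw)
    suffices h : W.map i ≤ Subgroup.centralizer (A : Set L) by
      intro w hw b hb
      exact Subtype.ext (Subtype.ext (h ⟨w, hw, rfl⟩ _ hb))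
    by_cases h3 : r = 3
    · subst h3
      intro w hw a ha
      exact (two_centralizes_three H.hyp.free (j := if a = 1 then 0 else 1) (by
        split_ifs with h
        · rw [h, orderOf_one, pow_zero]
        · rw [pow_one]; exact H.closed.orderOf_eq_two ha h) (hWr.map i) (hWA ha) w hw).symm
    have h2 : r ≠ 2 := by
      rintro rfl
      rcases hcond with ⟨w, hw, -, hord⟩ | h
      · have h1 := Odd.of_dvd_nat hodd (Subgroup.orderOf_dvd_natCard _ hw)
        rw [hord] at h1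
        exact absurd h1 (by decide)
      · exact absurd h (by decide)
    obtain ⟨w, hw, hwc, hord⟩ := hcond.resolve_right h3
    refine H.prime_case hxS hx2 hxA hr h2 h3 ?_ hWO (hWr.map i) hWA
    have hwA : i w ∈ Subgroup.centralizer (A : Set L) := fun a ha =>
      congrArg (fun z : X => ((z : ↥(cc x)) : L)) (hwc ⟨⟨a, hB.le ha⟩, hAX a ha⟩ ha)
    have hwZ : i w ∈ coreC A := H.core_inf_centralizer_le ha1
      ⟨H.core_inf_cc_le hout ha1 ha11 hxS hx2 ⟨(hker w).mp hw, H.le_cc_centralizer ha1 hwA⟩, hwA⟩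
    rw [← hord, ← orderOf_injective i ((cc x).subtype_injective.comp X.subtype_injective) w]
    exact Subgroup.orderOf_dvd_natCard _ hwZ
  have hbot := odd_kernel_eq_bot (⟨hn1, hFc⟩ : ReeTori.QData F n) hperf φ hφ hodd B hB4
    (fun b hb => Subtype.ext (Subtype.ext (H.sq hb))) hprime
  rintro _ ⟨o, ho, rfl⟩ a ha
  set a' : ↥(cc x) := ⟨a, hB.le ha⟩
  have hmem : o * a' * o⁻¹ * a'⁻¹ ∈ X :=
    mul_mem ((Subgroup.mem_normalizer_iff.mp (core_le_normalizer hX ho) a').mp (hAX a ha)) (inv_mem (hAX a ha))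
  have hmemO : o * a' * o⁻¹ * a'⁻¹ ∈ pPrimeCore 2 ↥(cc x) := by
    rw [show o * a' * o⁻¹ * a'⁻¹ = o * (a' * o⁻¹ * a'⁻¹) by group]
    exact mul_mem ho (pPrimeCore_normal'.conj_mem _ (inv_mem ho) a')
  have h1 : (⟨_, hmem⟩ : X) ∈ φ.ker := (hker _).mpr ⟨_, hmemO, rfl⟩
  rw [hbot, Subgroup.mem_bot] at h1
  have h2 : (o : L) * a * (o : L)⁻¹ * a⁻¹ = 1 := congrArg (fun z : X => ((z : ↥(cc x)) : L)) h1
  show a * (o : L) = (o : L) * a
  exact (mul_inv_eq_iff_eq_mul.mp (mul_inv_eq_one.mp h2)).symm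

end FourHyp

end CfsgLib.S3Simple
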