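import Mathlib

/-!
A scalar element of order four in a group acting on a plane.

Blueprint: `blueprint/S3Free.md`, 6.3.
-/

set_option autoImplicit false
set_option linter.unusedSectionVars false

namespace CfsgLib.S3Simple

universe u v

variable {R : Type*} [Field R] {V : Type v} [AddCommGroup V] [Module R V] {S : Type u} [Group S]

theorem end_ext_pair {e1 e2 : V} (hspan : ∀ v, ∃ m n : R, v = m • e1 + n • e2) {f f' : Module.End R V}
    (h1 : f e1 = f' e1) (h2 : f e2 = f' e2) : f = f' := by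
  refine LinearMap.ext fun v => ?_
  obtain ⟨m, n, rfl⟩ := hspan v
  rw [map_add, map_add, map_smul, map_smul, map_smul, map_smul, h1, h2]

/-- Two lines, an element `g` diagonal on them with `g⁴ = 1` outside `⟨-1, d⟩`, and an element `s` exchanging the
lines: some element acts as a scalar with non-trivial square. -/
theorem exists_scalar (h2 : (2 : R) ≠ 0) (ρ : S →* Module.End R V) (d g s : S) (e1 e2 : V)
    (hspan : ∀ v, ∃ m n : R, v = m • e1 + n • e2) (he1 : e1 ≠ 0) (he2 : e2 ≠ 0)
    (hd1 : ρ d e1 = e1) (hd2 : ρ d e2 = -e2) {i j k1 k2 : R} (hg1 : ρ g e1 = i • e1) (hg2 : ρ g e2 = j • e2)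
    (hs1 : ρ s e1 = k1 • e2) (hs2 : ρ s e2 = k2 • e1) (hg4 : ρ g ^ 4 = 1)
    (hne : ∀ c : Module.End R V, c = 1 ∨ c = ρ d → ρ g ≠ c ∧ ρ g ≠ -c) :
    ∃ h : S, (∃ c : R, ∀ v, ρ h v = c • v) ∧ ρ (h * h) ≠ 1 := by
  classical
  -- a scalar with value `c`, `c * c ≠ 1`, suffices
  have key : ∀ (h : S) (c : R), ρ h e1 = c • e1 → ρ h e2 = c • e2 → c * c ≠ 1 →
      ∃ h : S, (∃ c : R, ∀ v, ρ h v = c • v) ∧ ρ (h * h) ≠ 1 := by
    intro h c h1 h2' hc
    have hs : ρ h = c • (1 : Module.End R V) := end_ext_pair hspan (by simpa using h1) (by simpa using h2')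
    refine ⟨h, ⟨c, fun v => by rw [hs]; rfl⟩, fun e => hc ?_⟩
    have h3 : ρ (h * h) e1 = e1 := by rw [e]; rfl
    rw [map_mul, Module.End.mul_apply, h1, map_smul, h1, smul_smul] at h3
    exact (smul_left_injective R he1) (h3.trans (one_smul R e1).symm)
  have hk : k1 ≠ 0 ∧ k2 ≠ 0 := by
    have hinj : ∀ v, ρ s v = 0 → v = 0 := fun v hv => by
      have : ρ (s⁻¹ * s) v = 0 := by rw [map_mul, Module.End.mul_apply, hv, map_zero]
      rwa [inv_mul_cancel, map_one] at this
    exact ⟨fun e => he1 (hinj e1 (by rw [hs1, e, zero_smul])), fun e => he2 (hinj e2 (by rw [hs2, e, zero_smul]))⟩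
  have hsinv : ∀ {v w : V}, ρ s v = w → ρ s⁻¹ w = v := fun {v w} h => by
    rw [← h, ← Module.End.mul_apply, ← map_mul, inv_mul_cancel, map_one]; rfl
  have hsi1 : ρ s⁻¹ e1 = k2⁻¹ • e2 := hsinv (by rw [map_smul, hs2, smul_smul, inv_mul_cancel₀ hk.2, one_smul])
  have hsi2 : ρ s⁻¹ e2 = k1⁻¹ • e1 := hsinv (by rw [map_smul, hs1, smul_smul, inv_mul_cancel₀ hk.1, one_smul])
  set g' := s * g * s⁻¹ with hg'
  have hg'1 : ρ g' e1 = j • e1 := by
    rw [hg', map_mul, map_mul, Module.End.mul_apply, Module.End.mul_apply, hsi1, map_smul, hg2, map_smul,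
      map_smul, hs2, smul_smul, smul_smul]
    congr 1
    field_simp [hk.2]
  have hg'2 : ρ g' e2 = i • e2 := by
    rw [hg', map_mul, map_mul, Module.End.mul_apply, Module.End.mul_apply, hsi2, map_smul, hg1, map_smul,
      map_smul, hs1, smul_smul, smul_smul]
    congr 1
    field_simp [hk.1]
  by_cases hij : i * j * (i * j) = 1
  swap
  · refine key (g * g') (i * j) ?_ ?_ hij
    · rw [map_mul, Module.End.mul_apply, hg'1, map_smul, hg1, smul_smul, mul_comm]
    · rw [map_mul, Module.End.mul_apply, hg'2, map_smul, hg2, smul_smul]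
  have hi4 : i ^ 4 = 1 := by
    have h : (ρ g ^ 4) e1 = e1 := by rw [hg4]; rfl
    simp only [pow_succ, pow_zero, one_mul, Module.End.mul_apply, hg1, map_smul, smul_smul] at h
    have := (smul_left_injective R he1) (h.trans (one_smul R e1).symm)
    linear_combination this
  have hi0 : i ≠ 0 := fun e => by rw [e] at hi4; simp at hi4
  have hj : j * j = i * i := mul_left_cancel₀ (mul_ne_zero hi0 hi0) (by linear_combination hij - hi4)
  have hji : j = i ∨ j = -i := mul_self_eq_mul_self_iff.mp hj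
  have hi2 : i * i = 1 ∨ i * i = -1 := mul_self_eq_one_iff.mp (by linear_combination hi4)
  rcases hi2 with hi2 | hi2
  · exfalso
    have hi1 : i = 1 ∨ i = -1 := mul_self_eq_one_iff.mp hi2
    obtain ⟨h1a, h1b⟩ := hne 1 (Or.inl rfl)
    obtain ⟨hda, hdb⟩ := hne (ρ d) (Or.inr rfl)
    rcases hi1 with rfl | rfl <;> rcases hji with rfl | rfl
    · exact h1a (end_ext_pair hspan (by simpa using hg1) (by simpa using hg2))
    · exact hda (end_ext_pair hspan (by rw [hg1, hd1, one_smul]) (by rw [hg2, hd2, neg_smul, one_smul]))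
    · exact h1b (end_ext_pair hspan (by simpa using hg1) (by simpa using hg2))
    · refine hdb (end_ext_pair hspan ?_ ?_)
      · rw [hg1, LinearMap.neg_apply, hd1, neg_smul, one_smul]
      · rw [hg2, LinearMap.neg_apply, hd2, neg_neg, neg_neg, one_smul]
  · have hne1 : i * i ≠ 1 := by
      rw [hi2]
      exact fun e => h2 (by linear_combination -e)
    rcases hji with rfl | rfl
    · exact key g j hg1 hg2 hne1
    · refine key (g * d) i ?_ ?_ hne1
      · rw [map_mul, Module.End.mul_apply, hd1, hg1]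
      · rw [map_mul, Module.End.mul_apply, hd2, map_neg, hg2, neg_smul, neg_neg]

end CfsgLib.S3Simple
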