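import Cfsg.Agent.Lib.S3Simple.Four.Rep
import Cfsg.Agent.Lib.S3Simple.Four.PlaneLinear
import Cfsg.Agent.Lib.TransferExtremal

/-!
Section 6.3: there is no involution of `S` outside `A`.

Blueprint: `blueprint/S3Free.md`, 6.3.
-/

set_option autoImplicit false
set_option linter.unusedSectionVars false
set_option linter.style.haveILetI false

namespace CfsgLib.S3Simple

open Cfsg CfsgLib.Comp CfsgLib.AfterFT.CoreSep

universe u

variable {L : Type u} [Group L] [Finite L]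

theorem zmod_two_ne_zero {p : ℕ} (hp : p.Prime) (hp2 : p ≠ 2) : (2 : ZMod p) ≠ 0 := fun e => by
  have h : p ∣ 2 := (ZMod.natCast_eq_zero_iff 2 p).mp (by exact_mod_cast e)
  exact hp2 ((Nat.prime_dvd_prime_iff_eq hp Nat.prime_two).mp h)

namespace FourHyp

variable {S : Sylow 2 L} {A : Subgroup L} (H : FourHyp S A)
include H

theorem mem_four {a b : L} (ha : a ∈ A) (ha1 : a ≠ 1) (hb : b ∈ A) (hb1 : b ≠ 1) (hba : b ≠ a) {c : L} (hc : c ∈ A) :
    c = 1 ∨ c = a ∨ c = b ∨ c = a * b := by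
  classical
  have hab : a * b ≠ 1 := fun e => hba (by
    rw [← inv_eq_of_mul_eq_one_right e, inv_eq_of_mul_eq_one_right (H.sq ha)])
  have hsub : ({1, a, b, a * b} : Finset L) ⊆ ((Set.toFinite (A : Set L)).toFinset) := by
    intro x hx
    rw [Set.Finite.mem_toFinset]
    simp only [Finset.mem_insert, Finset.mem_singleton] at hx
    rcases hx with rfl | rfl | rfl | rfl
    exacts [one_mem A, ha, hb, mul_mem ha hb]
  have hcard : ({1, a, b, a * b} : Finset L).card = 4 := by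
    simp [ha1, Ne.symm ha1, Ne.symm hb1, Ne.symm hba, Ne.symm hab, hb1]
  have hA4 : ((Set.toFinite (A : Set L)).toFinset).card = 4 := by
    rw [← Set.ncard_eq_toFinset_card _ (Set.toFinite _), ← Nat.card_coe_set_eq]
    exact H.card
  have hmem : c ∈ ({1, a, b, a * b} : Finset L) := by
    rw [Finset.eq_of_subset_of_card_le hsub (by rw [hA4, hcard]), Set.Finite.mem_toFinset]
    exact hc
  simp only [Finset.mem_insert, Finset.mem_singleton] at hmem
  exact hmem

/-- No element `h` of `S` with `h² ≠ 1` has all its commutators with `S` in a subgroup `{1, a}` of `A`. -/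
theorem no_transfer_element {a : L} (ha : a ∈ A) {d : L} (hd : d ∈ (S : Subgroup L)) (hd2 : d * d = 1) (hdA : d ∉ A)
    {h : L} (hS : h ∈ (S : Subgroup L)) (hh : h * h ≠ 1)
    (hcomm : ∀ t ∈ (S : Subgroup L), t * h * t⁻¹ * h⁻¹ = 1 ∨ t * h * t⁻¹ * h⁻¹ = a) : False := by
  haveI : Fact (Nat.Prime 2) := ⟨Nat.prime_two⟩
  haveI := H.hyp.simple
  set M := (S : Subgroup L) ⊓ cc h with hM
  have hnM : ∀ e : L, e ∈ M → e * e = 1 → e ∈ A := fun e he he2 => by
    by_contra hA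
    exact hh (H.elementary_all he.1 he2 hA hS (mem_cc.mp he.2).symm)
  have hdh : d * h * d⁻¹ * h⁻¹ = a := (hcomm d hd).resolve_left fun e => hdA (hnM d
    ⟨hd, mem_cc.mpr (mul_inv_eq_iff_eq_mul.mp (mul_inv_eq_one.mp e))⟩ hd2)
  have hidx : M.relIndex (S : Subgroup L) = 2 := by
    show (M.subgroupOf (S : Subgroup L)).index = 2
    rw [Subgroup.index_eq_two_iff]
    refine ⟨⟨d, hd⟩, fun t => ?_⟩
    have hmem : ∀ u : ↥(S : Subgroup L), u ∈ M.subgroupOf (S : Subgroup L) ↔ (u : L) * h * (u : L)⁻¹ * h⁻¹ = 1 := fun u => by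
      constructor
      · intro hu
        rw [show (u : L) * h = h * (u : L) from mem_cc.mp hu.2, mul_inv_cancel_right, mul_inv_cancel]
      · intro hu
        exact ⟨u.2, mem_cc.mpr (mul_inv_eq_iff_eq_mul.mp (mul_inv_eq_one.mp hu))⟩
    have hprod : ((t * ⟨d, hd⟩ : ↥(S : Subgroup L)) : L) * h * ((t * ⟨d, hd⟩ : ↥(S : Subgroup L)) : L)⁻¹ * h⁻¹ =
        a * ((t : L) * h * (t : L)⁻¹ * h⁻¹) := by
      show (t : L) * d * h * ((t : L) * d)⁻¹ * h⁻¹ = _
      calc (t : L) * d * h * ((t : L) * d)⁻¹ * h⁻¹ = (t : L) * (d * h * d⁻¹ * h⁻¹) * h * (t : L)⁻¹ * h⁻¹ := by group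
        _ = a * ((t : L) * h * (t : L)⁻¹ * h⁻¹) := by
            rw [hdh, H.central t t.2 a ha]; group
    have ha1 : a ≠ 1 := fun e => hdA (hnM d
      ⟨hd, mem_cc.mpr (mul_inv_eq_iff_eq_mul.mp (mul_inv_eq_one.mp (hdh.trans e)))⟩ hd2)
    rcases hcomm t t.2 with ht | ht
    · refine Or.inr ⟨(hmem t).mpr ht, fun h' => ha1 ?_⟩
      rw [hmem, hprod, ht, mul_one] at h'
      exact h'
    · refine Or.inl ⟨(hmem _).mpr (by rw [hprod, ht, H.sq ha]), fun h' => ha1 ?_⟩
      rw [hmem, ht] at h'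
      exact h'
  have hno : ∀ N : Subgroup L, N.Normal → N.index ≠ 2 := fun N hN hi => by
    rcases hN.eq_bot_or_eq_top with rfl | rfl
    · rw [Subgroup.index_bot] at hi
      haveI := isCyclic_of_prime_card hi
      exact H.hyp.nonabelian inferInstance
    · rw [Subgroup.index_top] at hi
      exact absurd hi (by norm_num)
  obtain ⟨g, hg, -⟩ := CfsgLib.TransferExtremal.exists_conj hno S M inf_le_left hidx d (by rw [pow_two]; exact hd2)
  have hα : g * d * g⁻¹ ∈ A := hnM _ hg (by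
    rw [show g * d * g⁻¹ * (g * d * g⁻¹) = g * (d * d) * g⁻¹ by group, hd2, mul_one, mul_inv_cancel])
  have := H.closed.closed.2 _ hα g⁻¹ (by rw [show g⁻¹ * (g * d * g⁻¹) * g⁻¹⁻¹ = d by group]; exact hd)
  rw [show g⁻¹ * (g * d * g⁻¹) * g⁻¹⁻¹ = d by group] at this
  exact hdA this

/-- There is no involution of `S` outside `A`. -/
theorem false_of_outside (hout : ∃ x ∈ (S : Subgroup L), x * x = 1 ∧ x ∉ A) : False := by
  classical
  haveI : Fact (Nat.Prime 2) := ⟨Nat.prime_two⟩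
  obtain ⟨d, hd, hd2, hdA⟩ := hout
  have hout : ∃ x ∈ (S : Subgroup L), x * x = 1 ∧ x ∉ A := ⟨d, hd, hd2, hdA⟩
  obtain ⟨E, hB⟩ := H.blockData hd (fun e => hdA (e ▸ one_mem A)) (H.all_blocked hd hd2 hdA)
  obtain ⟨g, hgS, hgd, hgN, hg2⟩ := H.exists_grow hd hd2 hdA
  obtain ⟨a, ha, hga⟩ := H.conj_coset hd hd2 hdA (H.all_blocked hd hd2 hdA) hB hgS hgd hgN hg2 (H.mem_CE_self hd E)
  have ha1 : a ≠ 1 := fun e => hgd (mem_cc.mpr (mul_inv_eq_iff_eq_mul.mp (by rw [hga, e, mul_one])))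
  obtain ⟨b, hb, hb1, hba, p, hp, hp2, V, iV, iM, ρ, ⟨v0, hv0⟩, hρa, hρb, hfix⟩ := H.exists_rep hout ha ha1
  have h2 := zmod_two_ne_zero hp.out hp2
  have hneg1 : (-1 : Module.End (ZMod p) V) ≠ 1 := fun e => by
    have h : -v0 = v0 := LinearMap.congr_fun e v0
    have h' : (2 : ZMod p) • v0 = 0 := by rw [two_smul]; exact eq_neg_iff_add_eq_zero.mp h.symm
    exact hv0 ((smul_eq_zero.mp h').resolve_left h2)
  set aS : ↥(S : Subgroup L) := ⟨a, H.le_S ha⟩ with haS
  set bS : ↥(S : Subgroup L) := ⟨b, H.le_S hb⟩ with hbS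
  set dS : ↥(S : Subgroup L) := ⟨d, hd⟩ with hdS
  set gS : ↥(S : Subgroup L) := ⟨g, hgS⟩ with hgS'
  -- the kernel meets `A` in `⟨a⟩`
  have hKA : ∀ s : ↥(S : Subgroup L), (s : L) ∈ A → ρ s = 1 → (s : L) = 1 ∨ (s : L) = a := by
    intro s hs hs1
    rcases H.mem_four ha ha1 hb hb1 hba hs with h | h | h | h
    · exact Or.inl h
    · exact Or.inr h
    · exact absurd ((hρb s h).symm.trans hs1) hneg1
    · refine absurd ?_ hneg1
      have hse : s = aS * bS := Subtype.ext h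
      rw [hse, map_mul, hρa aS rfl, hρb bS rfl, one_mul] at hs1
      exact hs1
  obtain ⟨n, hn, hnS, hnab⟩ := H.exists_map_S ha ha1 hb hb1
  have hnconj : ∀ s : ↥(S : Subgroup L), n⁻¹ * (s : L) * n ∈ (S : Subgroup L) := fun s =>
    (Subgroup.mem_normalizer_iff''.mp hnS s).mp s.2
  let c : ↥(S : Subgroup L) →* ↥(S : Subgroup L) :=
    { toFun := fun s => ⟨n⁻¹ * (s : L) * n, hnconj s⟩
      map_one' := Subtype.ext (by show n⁻¹ * 1 * n = 1; group)
      map_mul' := fun s t => Subtype.ext (by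
        show n⁻¹ * ((s : L) * t) * n = n⁻¹ * (s : L) * n * (n⁻¹ * (t : L) * n); group) }
  -- the kernels of `ρ` and of its conjugate meet trivially
  have hmeet : ∀ s : ↥(S : Subgroup L), ρ s = 1 → ρ (c s) = 1 → s = 1 := by
    set K := ρ.ker ⊓ (ρ.comp c).ker with hK
    haveI : K.Normal := inferInstance
    suffices hbot : K = ⊥ from fun s h1 h2 => Subgroup.mem_bot.mp (hbot ▸ ⟨h1, h2⟩)
    by_contra hne
    have hKn : (S : Subgroup L) ≤ Subgroup.normalizer (K.map (S : Subgroup L).subtype : Set L) := fun t ht =>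
      CfsgLib.Bender.TwoClosed.mem_normalizer_of_conj (by
        rintro _ ⟨k, hk, rfl⟩
        exact ⟨⟨t, ht⟩ * k * ⟨t, ht⟩⁻¹, Subgroup.Normal.conj_mem inferInstance k hk _, rfl⟩)
    obtain ⟨e, ⟨k, hk, rfl⟩, he2, he1, hec⟩ := exists_central_involution S.2 (Subgroup.map_subtype_le K) hKn
      (fun e => hne ((Subgroup.map_eq_bot_iff_of_injective _ (S : Subgroup L).subtype_injective).mp e))
    have hkA : (k : L) ∈ A := H.center k k.2 he2 hec
    have hck : ((c k : ↥(S : Subgroup L)) : L) ∈ A := (Subgroup.mem_normalizer_iff''.mp hn (k : L)).mp hkA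
    rcases hKA k hkA hk.1 with h | h
    · exact he1 h
    rcases hKA (c k) hck hk.2 with h' | h'
    · exact he1 (by
        have h3 : n⁻¹ * (k : L) * n = 1 := h'
        show (k : L) = 1
        rw [show (k : L) = n * (n⁻¹ * (k : L) * n) * n⁻¹ by group, h3, mul_one, mul_inv_cancel])
    · refine hba ?_
      have h3 : n⁻¹ * (k : L) * n = a := h'
      calc b = n * a * n⁻¹ := hnab.symm
        _ = n * (n⁻¹ * (k : L) * n) * n⁻¹ := by rw [h3]
        _ = (k : L) := by group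
        _ = a := h
  -- the image is not commutative
  have hncomm : (∀ s t, ρ (s * t) = ρ (t * s)) → False := by
    intro hcom
    have hker : ∀ s t : ↥(S : Subgroup L), ρ (s * t * (t * s)⁻¹) = 1 := fun s t => by
      rw [map_mul, hcom, ← map_mul, mul_inv_cancel, map_one]
    refine hdA (H.center d hd hd2 fun t ht => ?_)
    have h := hmeet (dS * ⟨t, ht⟩ * (⟨t, ht⟩ * dS)⁻¹) (hker _ _) (by
      rw [show c (dS * ⟨t, ht⟩ * (⟨t, ht⟩ * dS)⁻¹) = c dS * c ⟨t, ht⟩ * (c ⟨t, ht⟩ * c dS)⁻¹ by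
        simp only [map_mul, map_inv]]
      exact hker _ _)
    exact congrArg Subtype.val (mul_inv_eq_one.mp h)
  -- no involution outside `A` acts as a scalar
  have hnscal : ∀ x : ↥(S : Subgroup L), (x : L) * x = 1 → (x : L) ∉ A → ρ x ≠ 1 := by
    intro x hx2 hxA hx1
    obtain ⟨e, he⟩ := hfix x hx2 hxA
    refine hncomm fun s t => LinearMap.ext fun v => ?_
    obtain ⟨cs, hcs⟩ := he (ρ s e) (by rw [hx1]; rfl)
    obtain ⟨ct, hct⟩ := he (ρ t e) (by rw [hx1]; rfl)
    obtain ⟨cv, hcv⟩ := he v (by rw [hx1]; rfl)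
    rw [hcv, map_mul, map_mul, Module.End.mul_apply, Module.End.mul_apply, map_smul, map_smul, map_smul, map_smul,
      hct, hcs, map_smul, map_smul, hcs, hct]
    simp only [smul_smul]
    congr 1
    ring
  have hnneg : ∀ x : ↥(S : Subgroup L), (x : L) * x = 1 → (x : L) ∉ A → ρ x ≠ -1 := by
    intro x hx2 hxA hx1
    refine hnscal (x * bS) ?_ (fun h => hxA ?_) (by rw [map_mul, hx1, hρb bS rfl, neg_mul_neg, one_mul])
    · show (x : L) * b * ((x : L) * b) = 1
      calc (x : L) * b * ((x : L) * b) = (x : L) * (b * (x : L)) * b := by group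
        _ = ((x : L) * x) * (b * b) := by rw [← H.central x x.2 b hb]; group
        _ = 1 := by rw [hx2, H.sq hb, one_mul]
    · have := mul_mem (show (x : L) * b ∈ A from h) hb
      rwa [mul_assoc, H.sq hb, mul_one] at this
  -- an element of the kernel
  by_cases hbig : ∃ s : ↥(S : Subgroup L), ρ s = 1 ∧ (s : L) ≠ 1 ∧ (s : L) ≠ a
  · set Z := Subgroup.zpowers aS with hZ
    haveI hZn : Z.Normal := ⟨fun z hz t => by
      obtain ⟨k, rfl⟩ := Subgroup.mem_zpowers_iff.mp hz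
      have hc : Commute t aS := Subtype.ext (H.central t t.2 a ha)
      rw [(hc.zpow_right k).eq, mul_inv_cancel_right]
      exact Subgroup.zpow_mem_zpowers aS k⟩
    have hZmem : ∀ z ∈ Z, (z : L) = 1 ∨ (z : L) = a := fun z hz => by
      obtain ⟨k, rfl⟩ := Subgroup.mem_zpowers_iff.mp hz
      rw [Subgroup.coe_zpow]
      rcases Int.even_or_odd k with ⟨l, rfl⟩ | ⟨l, rfl⟩
      · left; rw [← two_mul, zpow_mul, zpow_two, H.sq ha, one_zpow]
      · right; rw [zpow_add_one, zpow_mul, zpow_two, H.sq ha, one_zpow, one_mul]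
    set K := ρ.ker.map (QuotientGroup.mk' Z) with hK
    haveI : K.Normal := (inferInstance : ρ.ker.Normal).map _ (QuotientGroup.mk'_surjective Z)
    obtain ⟨s, hs1, hs2, hs3⟩ := hbig
    have hKne : K ≠ ⊥ := fun e => by
      have h : QuotientGroup.mk' Z s = 1 := Subgroup.mem_bot.mp (e ▸ Subgroup.mem_map_of_mem _ hs1)
      exact (hZmem s ((QuotientGroup.eq_one_iff s).mp h)).elim hs2 hs3
    obtain ⟨e, ⟨h, hh1, rfl⟩, -, he1, hec⟩ := exists_central_involution (W := ⊤)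
      ((S.2.to_quotient Z).to_subgroup ⊤) (le_top : K ≤ ⊤) (by
        rw [Subgroup.normalizer_eq_top_iff.mpr (inferInstance : K.Normal)]) hKne
    refine H.no_transfer_element ha hd hd2 hdA h.2 (fun hh => ?_) fun t ht => ?_
    · by_cases hA : (h : L) ∈ A
      · refine he1 ((QuotientGroup.eq_one_iff h).mpr ?_)
        rcases hKA h hA hh1 with e1 | e1
        · rw [show h = 1 from Subtype.ext e1]; exact one_mem _
        · rw [show h = aS from Subtype.ext e1]; exact Subgroup.mem_zpowers _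
      · exact hnscal h hh hA hh1
    · refine hZmem (⟨t, ht⟩ * h * (⟨t, ht⟩ : ↥(S : Subgroup L))⁻¹ * h⁻¹) ((QuotientGroup.eq_one_iff _).mp ?_)
      show QuotientGroup.mk' Z _ = 1
      rw [map_mul, map_mul, map_mul, ← hec (QuotientGroup.mk' Z ⟨t, ht⟩) (Subgroup.mem_top _), mul_assoc (QuotientGroup.mk' Z h),
        map_inv, mul_inv_cancel, mul_one, map_inv, mul_inv_cancel]
  push Not at hbig
  have hK : ∀ s : ↥(S : Subgroup L), ρ s = 1 → (s : L) = 1 ∨ (s : L) = a := fun s hs => by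
    by_cases h : (s : L) = 1
    · exact Or.inl h
    · exact Or.inr (hbig s hs h)
  -- the two lines of `d`
  have hdd : ρ dS * ρ dS = 1 := by rw [← map_mul, show dS * dS = 1 from Subtype.ext hd2, map_one]
  set db : ↥(S : Subgroup L) := dS * bS with hdb
  have hρdb : ρ db = -ρ dS := by rw [hdb, map_mul, hρb bS rfl, mul_neg, mul_one]
  have hdb2 : (db : L) * db = 1 := by
    show d * b * (d * b) = 1
    calc d * b * (d * b) = d * (b * d) * b := by group
      _ = (d * d) * (b * b) := by rw [← H.central d hd b hb]; group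
      _ = 1 := by rw [hd2, H.sq hb, one_mul]
  have hdbA : (db : L) ∉ A := fun h => hdA (by
    have := mul_mem (show d * b ∈ A from h) hb
    rwa [mul_assoc, H.sq hb, mul_one] at this)
  have hplus : ∀ v, ρ dS (v + ρ dS v) = v + ρ dS v := fun v => by
    rw [map_add, ← Module.End.mul_apply, hdd, Module.End.one_apply, add_comm]
  have hminus : ∀ v, ρ db (v - ρ dS v) = v - ρ dS v := fun v => by
    rw [hρdb, LinearMap.neg_apply, map_sub, ← Module.End.mul_apply, hdd, Module.End.one_apply, neg_sub]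
  -- a non-zero fixed vector of each
  obtain ⟨e1', he1'⟩ := hfix dS hd2 hdA
  obtain ⟨e2', he2'⟩ := hfix db hdb2 hdbA
  obtain ⟨v1, hv1⟩ : ∃ v, v + ρ dS v ≠ 0 := by
    by_contra hcon
    push Not at hcon
    refine hnneg dS hd2 hdA (LinearMap.ext fun v => ?_)
    rw [LinearMap.neg_apply, Module.End.one_apply]
    exact eq_neg_of_add_eq_zero_right (hcon v)
  obtain ⟨v2, hv2⟩ : ∃ v, v - ρ dS v ≠ 0 := by
    by_contra hcon
    push Not at hcon
    exact hnscal dS hd2 hdA (LinearMap.ext fun v => (sub_eq_zero.mp (hcon v)).symm)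
  set e1 := v1 + ρ dS v1 with he1d
  set e2 := v2 - ρ dS v2 with he2d
  have hd1 : ρ dS e1 = e1 := hplus v1
  have hd2' : ρ dS e2 = -e2 := by
    have h := hminus v2
    rw [hρdb, LinearMap.neg_apply] at h
    exact neg_eq_iff_eq_neg.mp h
  have hline1 : ∀ v, ρ dS v = v → ∃ c : ZMod p, v = c • e1 := by
    intro v hv
    obtain ⟨cv, hcv⟩ := he1' v hv
    obtain ⟨c1, hc1⟩ := he1' e1 hd1
    have hc10 : c1 ≠ 0 := fun e => hv1 (by rw [show e1 = 0 by rw [hc1, e, zero_smul]])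
    exact ⟨cv * c1⁻¹, by rw [hc1, smul_smul, mul_assoc, inv_mul_cancel₀ hc10, mul_one, hcv]⟩
  have hline2 : ∀ v, ρ dS v = -v → ∃ c : ZMod p, v = c • e2 := by
    intro v hv
    obtain ⟨cv, hcv⟩ := he2' v (by rw [hρdb, LinearMap.neg_apply, hv, neg_neg])
    obtain ⟨c1, hc1⟩ := he2' e2 (by rw [hρdb, LinearMap.neg_apply, hd2', neg_neg])
    have hc10 : c1 ≠ 0 := fun e => hv2 (by rw [show e2 = 0 by rw [hc1, e, zero_smul]])
    exact ⟨cv * c1⁻¹, by rw [hc1, smul_smul, mul_assoc, inv_mul_cancel₀ hc10, mul_one, hcv]⟩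
  have hspan : ∀ v, ∃ m n : ZMod p, v = m • e1 + n • e2 := by
    intro v
    obtain ⟨m, hm⟩ := hline1 _ (hplus v)
    obtain ⟨k, hk⟩ := hline2 (v - ρ dS v) (by
      rw [map_sub, ← Module.End.mul_apply, hdd, Module.End.one_apply, neg_sub])
    refine ⟨2⁻¹ * m, 2⁻¹ * k, ?_⟩
    rw [mul_smul, mul_smul, ← hm, ← hk, ← smul_add,
      show v + ρ dS v + (v - ρ dS v) = (2 : ZMod p) • v by rw [two_smul]; abel,
      smul_smul, inv_mul_cancel₀ h2, one_smul]
  -- the elements preserving both lines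
  set Δ : Subgroup ↥(S : Subgroup L) :=
    { carrier := {t | ρ t * ρ dS = ρ dS * ρ t}
      one_mem' := by show ρ 1 * _ = _ * ρ 1; rw [map_one, one_mul, mul_one]
      mul_mem' := fun {s t} hs ht => by
        show ρ (s * t) * _ = _ * ρ (s * t)
        rw [map_mul]
        exact ((show Commute (ρ s) (ρ dS) from hs).mul_left (show Commute (ρ t) (ρ dS) from ht)).eq
      inv_mem' := fun {t} ht => by
        show ρ t⁻¹ * ρ dS = ρ dS * ρ t⁻¹
        calc ρ t⁻¹ * ρ dS = ρ t⁻¹ * (ρ dS * ρ t) * ρ t⁻¹ := by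
              rw [mul_assoc, mul_assoc, ← map_mul ρ t, mul_inv_cancel, map_one, mul_one]
          _ = ρ t⁻¹ * (ρ t * ρ dS) * ρ t⁻¹ := by rw [show ρ t * ρ dS = ρ dS * ρ t from ht]
          _ = ρ dS * ρ t⁻¹ := by rw [← mul_assoc (ρ t⁻¹), ← map_mul, inv_mul_cancel, map_one, one_mul] }
  have hdiag : ∀ t ∈ Δ, ∃ i j : ZMod p, ρ t e1 = i • e1 ∧ ρ t e2 = j • e2 := by
    intro t ht
    obtain ⟨i, hi⟩ := hline1 (ρ t e1) (by
      rw [← Module.End.mul_apply, ← (show ρ t * ρ dS = ρ dS * ρ t from ht), Module.End.mul_apply, hd1])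
    obtain ⟨j, hj⟩ := hline2 (ρ t e2) (by
      rw [← Module.End.mul_apply, ← (show ρ t * ρ dS = ρ dS * ρ t from ht), Module.End.mul_apply, hd2', map_neg])
    exact ⟨i, j, hi, hj⟩
  have hΔne : Δ ≠ ⊤ := fun e => hncomm fun s t => by
    obtain ⟨i, j, hs1, hs2⟩ := hdiag s (e ▸ Subgroup.mem_top s)
    obtain ⟨i', j', ht1, ht2⟩ := hdiag t (e ▸ Subgroup.mem_top t)
    refine end_ext_pair hspan ?_ ?_
    · rw [map_mul, map_mul, Module.End.mul_apply, Module.End.mul_apply, ht1, hs1, map_smul, map_smul, hs1, ht1,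
        smul_smul, smul_smul, mul_comm]
    · rw [map_mul, map_mul, Module.End.mul_apply, Module.End.mul_apply, ht2, hs2, map_smul, map_smul, hs2, ht2,
        smul_smul, smul_smul, mul_comm]
  haveI := IsPGroup.isNilpotent S.2
  obtain ⟨s, hsN, hsΔ⟩ := SetLike.exists_of_lt
    (Group.normalizerCondition_of_isNilpotent Δ (lt_top_iff_ne_top.mpr hΔne))
  set x' := s * dS * s⁻¹ with hx'
  have hx'Δ : x' ∈ Δ := (Subgroup.mem_normalizer_iff.mp hsN dS).mp rfl
  have hx'2 : x' * x' = 1 := by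
    rw [hx', show s * dS * s⁻¹ * (s * dS * s⁻¹) = s * (dS * dS) * s⁻¹ by group,
      show dS * dS = 1 from Subtype.ext hd2, mul_one, mul_inv_cancel]
  have hx'A : (x' : L) ∉ A := fun h => hdA (by
    have h1 : (s : L) * d * (s : L)⁻¹ ∈ A := h
    rw [show d = (s : L)⁻¹ * ((s : L) * d * (s : L)⁻¹) * s by group, mul_assoc, ← H.central s s.2 _ h1,
      inv_mul_cancel_left]
    exact h1)
  obtain ⟨i, j, hxi, hxj⟩ := hdiag x' hx'Δ
  have hne1 : e1 ≠ 0 := hv1
  have hne2 : e2 ≠ 0 := hv2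
  have hsq : ∀ (e : V) (k : ZMod p), e ≠ 0 → ρ x' e = k • e → k = 1 ∨ k = -1 := fun e k he hk => by
    refine mul_self_eq_one_iff.mp ((smul_left_injective (ZMod p) he) ?_)
    show (k * k) • e = (1 : ZMod p) • e
    rw [one_smul, mul_smul, ← hk, ← map_smul, ← hk, ← Module.End.mul_apply, ← map_mul, hx'2, map_one,
      Module.End.one_apply]
  have hx'L : (x' : L) * x' = 1 := congrArg Subtype.val hx'2
  have hswap : ρ x' = -ρ dS := by
    rcases hsq e1 i hne1 hxi with rfl | rfl <;> rcases hsq e2 j hne2 hxj with rfl | rfl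
    · exact absurd (end_ext_pair hspan (by rw [hxi, one_smul]; rfl) (by rw [hxj, one_smul]; rfl)) (hnscal x' hx'L hx'A)
    · exfalso
      refine hsΔ ?_
      have h : ρ x' = ρ dS := end_ext_pair hspan (by rw [hxi, one_smul, hd1]) (by rw [hxj, neg_smul, one_smul, hd2'])
      show ρ s * ρ dS = ρ dS * ρ s
      conv_rhs => rw [← h, ← map_mul, hx', inv_mul_cancel_right, map_mul]
    · refine end_ext_pair hspan ?_ ?_
      · rw [hxi, LinearMap.neg_apply, hd1, neg_smul, one_smul]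
      · rw [hxj, LinearMap.neg_apply, hd2', neg_neg, one_smul]
    · refine absurd (end_ext_pair hspan ?_ ?_) (hnneg x' hx'L hx'A)
      · rw [hxi, LinearMap.neg_apply, neg_smul, one_smul]; rfl
      · rw [hxj, LinearMap.neg_apply, neg_smul, one_smul]; rfl
  have hanti : ρ s * ρ dS = -(ρ dS * ρ s) := by
    calc ρ s * ρ dS = ρ x' * ρ s := by rw [← map_mul, ← map_mul, hx', inv_mul_cancel_right]
      _ = -(ρ dS * ρ s) := by rw [hswap, neg_mul]
  obtain ⟨k1, hk1⟩ := hline2 (ρ s e1) (by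
    have h := LinearMap.congr_fun hanti e1
    rw [Module.End.mul_apply, hd1, LinearMap.neg_apply, Module.End.mul_apply] at h
    exact (neg_eq_iff_eq_neg.mp h.symm))
  obtain ⟨k2, hk2⟩ := hline1 (ρ s e2) (by
    have h := LinearMap.congr_fun hanti e2
    rw [Module.End.mul_apply, hd2', map_neg, LinearMap.neg_apply, Module.End.mul_apply, neg_inj] at h
    exact h.symm)
  -- `g` is diagonal
  have hgdρ : gS * dS * gS⁻¹ = dS * aS := Subtype.ext hga
  have hgΔ : gS ∈ Δ := by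
    show ρ gS * ρ dS = ρ dS * ρ gS
    rw [← map_mul, show gS * dS = dS * aS * gS by rw [← hgdρ, inv_mul_cancel_right], map_mul, map_mul, hρa aS rfl,
      mul_one]
  obtain ⟨gi, gj, hgi, hgj⟩ := hdiag gS hgΔ
  have hg4 : ρ gS ^ 4 = 1 := by
    rw [← map_pow, show gS ^ 4 = 1 from Subtype.ext (by
      show g ^ 4 = 1
      rw [show (4 : ℕ) = 2 * 2 from rfl, pow_mul, pow_two, pow_two]
      exact H.elementary_all hd hd2 hdA (mul_mem hgS hgS) (mem_cc.mp hg2.2)), map_one]
  have hcm : ∀ w : ↥(S : Subgroup L), (w : L) * d = d * (w : L) → ρ gS ≠ ρ w := fun w hw e => by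
    have h1 : ρ (w⁻¹ * gS) = 1 := by rw [map_mul, e, ← map_mul, inv_mul_cancel, map_one]
    refine hgd (mem_cc.mpr ?_)
    rcases hK _ h1 with h | h
    · have hgw : g = (w : L) := (inv_mul_eq_one.mp (show (w : L)⁻¹ * g = 1 from h)).symm
      rw [hgw]; exact hw
    · have hgw : g = (w : L) * a := inv_mul_eq_iff_eq_mul.mp (show (w : L)⁻¹ * g = a from h)
      rw [hgw, mul_assoc, ← H.central d hd a ha, ← mul_assoc, hw, mul_assoc]
  have hne : ∀ c : Module.End (ZMod p) V, c = 1 ∨ c = ρ dS → ρ gS ≠ c ∧ ρ gS ≠ -c := by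
    rintro c (rfl | rfl)
    · refine ⟨?_, ?_⟩
      · rw [← map_one ρ]; exact hcm 1 (by simp)
      · rw [← hρb bS rfl]; exact hcm bS (H.central d hd b hb).symm
    · refine ⟨hcm dS rfl, ?_⟩
      rw [← hρdb]
      refine hcm db ?_
      show d * b * d = d * (d * b)
      rw [mul_assoc, ← H.central d hd b hb]
  obtain ⟨h, ⟨ch, hch⟩, hhh⟩ := exists_scalar h2 ρ dS gS s e1 e2 hspan hne1 hne2 hd1 hd2' hgi hgj hk1 hk2 hg4 hne
  refine H.no_transfer_element ha hd hd2 hdA h.2 (fun e => hhh ?_) fun t ht => ?_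
  · rw [show h * h = 1 from Subtype.ext e, map_one]
  · refine hK (⟨t, ht⟩ * h * (⟨t, ht⟩ : ↥(S : Subgroup L))⁻¹ * h⁻¹) ?_
    have hc : ρ ⟨t, ht⟩ * ρ h = ρ h * ρ ⟨t, ht⟩ := LinearMap.ext fun v => by
      rw [Module.End.mul_apply, Module.End.mul_apply, hch, hch, map_smul]
    rw [map_mul, map_mul, map_mul, hc, mul_assoc (ρ h), ← map_mul ρ ⟨t, ht⟩, mul_inv_cancel, map_one, mul_one,
      ← map_mul, mul_inv_cancel, map_one]

end FourHyp

end CfsgLib.S3Simple
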