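import Cfsg.Agent.Lib.S3Simple.Four.Odd
import Cfsg.Agent.Lib.Elementary
import Cfsg.Agent.Lib.BaseTwo.Action

/-!
Section 6.3: the representation of `S` on the part inverted by `b` of `P / Φ(P)`, `P` a Sylow subgroup of `O(C(a))`.

Blueprint: `blueprint/S3Free.md`, 6.3.
-/

set_option autoImplicit false
set_option linter.unusedSectionVars false
set_option linter.style.haveILetI false

namespace CfsgLib.S3Simple

open Cfsg CfsgLib.Comp CfsgLib.AfterFT.CoreSep
open scoped commutatorElement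

universe u

/-- Automorphisms of a group of exponent `p` as linear maps. -/
noncomputable def autToEnd {V : Type u} [CommGroup V] (p : ℕ) [Module (ZMod p) (Additive V)] :
    MulAut V →* Module.End (ZMod p) (Additive V) where
  toFun := fun φ => (MonoidHom.toAdditive (φ : V ≃* V).toMonoidHom).toZModLinearMap p
  map_one' := LinearMap.ext fun _ => rfl
  map_mul' := fun _ _ => LinearMap.ext fun _ => rfl

/-- The elements of odd order of the centraliser of an involution of `L₂(q)` lie in the cyclic torus. -/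
theorem odd_mem_torus {F : Type} [Field F] [Fintype F] [CharP F 3] {m : ℕ} (D : ReeTori.QData F m)
    {t y : Matrix.ProjectiveSpecialLinearGroup (Fin 2) F} (ht1 : t ≠ 1) (ht : t * t = 1) (hyt : y * t = t * y)
    (hy : Odd (orderOf y)) :
    y ∈ (DicksonFull.psl (F := F) 3).T t := by
  set T := (DicksonFull.psl (F := F) 3).T t
  set N := Subgroup.centralizer ({t} : Set (Matrix.ProjectiveSpecialLinearGroup (Fin 2) F)) with hN
  have hTN : T ≤ N := by
    rw [hN, ReeTori.cent_invol ht1 ht]; exact Subgroup.le_normalizer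
  have hidx : (T.subgroupOf N).index = 2 := by
    have h := (T.subgroupOf N).index_mul_card
    rw [Nat.card_congr (Subgroup.subgroupOfEquivOfLe hTN).toEquiv, hN, ReeTori.card_cent_invol D ht1 ht,
      ← ReeTori.card_T_invol D ht1 ht] at h
    exact Nat.eq_of_mul_eq_mul_right Nat.card_pos h
  have hyN : y ∈ N := Subgroup.mem_centralizer_singleton_iff.mpr hyt
  have h2 : (⟨y, hyN⟩ : N) ^ 2 ∈ T.subgroupOf N := Subgroup.sq_mem_of_index_two hidx _
  obtain ⟨l, hl⟩ := exists_pow_eq_self_of_coprime (x := y) (n := 2) (Nat.coprime_two_left.mpr hy)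
  rw [← hl]
  exact pow_mem (show y ^ 2 ∈ T from h2) l

variable {L : Type u} [Group L] [Finite L]

/-- An odd subgroup of `C(y)` normalised by `C(y)` lies in its core. -/
theorem le_core_of_normalized {y : L} {W : Subgroup L} (hW : W ≤ cc y) (hn : cc y ≤ Subgroup.normalizer (W : Set L))
    (hodd : Odd (Nat.card W)) : W ≤ centralizerPPrimeCore 2 y := by
  haveI : (W.subgroupOf (cc y)).Normal := (Subgroup.normal_subgroupOf_iff_le_normalizer hW).mpr hn
  intro w hw
  refine ⟨⟨w, hW hw⟩, le_pPrimeCore (N := W.subgroupOf (cc y)) ?_ hw, rfl⟩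
  rw [Nat.card_congr (Subgroup.subgroupOfEquivOfLe hW).toEquiv]
  exact Nat.coprime_two_right.mpr hodd

namespace FourHyp

variable {S : Sylow 2 L} {A : Subgroup L} (H : FourHyp S A)
include H

/-- No `O(C(a))` is centralised by `A`. -/
theorem core_not_centralized (hout : ∃ x ∈ (S : Subgroup L), x * x = 1 ∧ x ∉ A) {a : L} (ha : a ∈ A) (ha1 : a ≠ 1) :
    ¬ centralizerPPrimeCore 2 a ≤ Subgroup.centralizer (A : Set L) := by
  intro hle
  have hAtop : A ≠ ⊤ := fun e => by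
    obtain ⟨x, -, -, hxA⟩ := hout
    exact hxA (e ▸ Subgroup.mem_top x)
  refine H.hyp.false_of_le H.closed (H.hyp.normalizer_ne_top H.closed.ne_bot hAtop) fun b hb hb1 g hg => ?_
  obtain ⟨n, hn, hnb⟩ := H.exists_map ha ha1 hb hb1
  obtain ⟨o, ho, c, hc, rfl⟩ := H.cc_split hout hb hb1 hg
  refine mul_mem (Subgroup.centralizer_le_normalizer (A : Set L) ?_) (Subgroup.centralizer_le_normalizer (A : Set L) hc)
  -- transport from `a`
  set W := (centralizerPPrimeCore 2 b).map (MulAut.conj n⁻¹).toMonoidHom with hW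
  have hba : n⁻¹ * b * n = a := by rw [← hnb]; group
  have hconj : ∀ y : L, y ∈ cc b → n⁻¹ * y * n ∈ cc a := fun y hy => mem_cc.mpr (by
    rw [← hba]
    calc n⁻¹ * y * n * (n⁻¹ * b * n) = n⁻¹ * (y * b) * n := by group
      _ = n⁻¹ * (b * y) * n := by rw [mem_cc.mp hy]
      _ = n⁻¹ * b * n * (n⁻¹ * y * n) := by group)
  have hconj' : ∀ y : L, y ∈ cc a → n * y * n⁻¹ ∈ cc b := fun y hy => mem_cc.mpr (by
    rw [← hnb]
    calc n * y * n⁻¹ * (n * a * n⁻¹) = n * (y * a) * n⁻¹ := by group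
      _ = n * (a * y) * n⁻¹ := by rw [mem_cc.mp hy]
      _ = n * a * n⁻¹ * (n * y * n⁻¹) := by group)
  have hWle : W ≤ centralizerPPrimeCore 2 a := by
    refine le_core_of_normalized ?_ ?_ ?_
    · rintro _ ⟨y, hy, rfl⟩
      show n⁻¹ * y * n⁻¹⁻¹ ∈ cc a
      rw [inv_inv]
      exact hconj y ((Subgroup.map_subtype_le _ : centralizerPPrimeCore 2 b ≤ cc b) hy)
    · intro k hk
      refine mem_normalizer_of_maps ?_
      rintro _ ⟨y, hy, rfl⟩
      refine ⟨(n * k * n⁻¹) * y * (n * k * n⁻¹)⁻¹,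
        (Subgroup.mem_normalizer_iff.mp (cc_le_normalizer_core b (hconj' k hk)) y).mp hy, ?_⟩
      show n⁻¹ * ((n * k * n⁻¹) * y * (n * k * n⁻¹)⁻¹) * n⁻¹⁻¹ = k * (n⁻¹ * y * n⁻¹⁻¹) * k⁻¹
      group
    · rw [hW, Subgroup.card_map_of_injective (MulAut.conj n⁻¹).injective]
      exact odd_card_core b
  have h1 : n⁻¹ * o * n⁻¹⁻¹ ∈ Subgroup.centralizer (A : Set L) := hle (hWle ⟨o, ho, rfl⟩)
  intro y hy
  have h2 := h1 (n⁻¹ * y * n) ((Subgroup.mem_normalizer_iff''.mp hn y).mp hy)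
  calc y * o = n * ((n⁻¹ * y * n) * (n⁻¹ * o * n⁻¹⁻¹)) * n⁻¹ := by group
    _ = n * ((n⁻¹ * o * n⁻¹⁻¹) * (n⁻¹ * y * n)) * n⁻¹ := by rw [h2]
    _ = o * y := by group

/-- A representation of `S` with `a ↦ 1`, `b ↦ -1`, and at most a line fixed by each involution outside `A`. -/
theorem exists_rep (hout : ∃ x ∈ (S : Subgroup L), x * x = 1 ∧ x ∉ A) {a : L} (ha : a ∈ A) (ha1 : a ≠ 1) :
    ∃ b ∈ A, b ≠ 1 ∧ b ≠ a ∧ ∃ (p : ℕ) (_ : Fact p.Prime), p ≠ 2 ∧
      ∃ (V : Type u) (_ : AddCommGroup V) (_ : Module (ZMod p) V)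
        (ρ : ↥(S : Subgroup L) →* Module.End (ZMod p) V), (∃ v : V, v ≠ 0) ∧
        (∀ s : ↥(S : Subgroup L), (s : L) = a → ρ s = 1) ∧ (∀ s : ↥(S : Subgroup L), (s : L) = b → ρ s = -1) ∧
        ∀ x : ↥(S : Subgroup L), (x : L) * x = 1 → (x : L) ∉ A →
          ∃ e : V, ∀ v : V, ρ x v = v → ∃ c : ZMod p, v = c • e := by
  classical
  haveI : Fact (Nat.Prime 2) := ⟨Nat.prime_two⟩
  haveI : Group.IsSolvable ↥(S : Subgroup L) := by
    haveI := IsPGroup.isNilpotent S.2
    infer_instance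
  set O := centralizerPPrimeCore 2 a with hO
  have hOodd : Odd (Nat.card O) := odd_card_core a
  have hSO : (S : Subgroup L) ≤ Subgroup.normalizer (O : Set L) := (H.S_le_cc ha).trans (cc_le_normalizer_core a)
  -- the prime
  obtain ⟨p, hp, P, hPS, hPc⟩ : ∃ (p : ℕ) (_ : Fact p.Prime) (P : Sylow p O),
      (S : Subgroup L) ≤ Subgroup.normalizer ((P : Subgroup O).map O.subtype : Set L) ∧
      ¬ (P : Subgroup O).map O.subtype ≤ Subgroup.centralizer (A : Set L) := by
    by_contra hcon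
    push Not at hcon
    refine H.core_not_centralized hout ha ha1 fun o ho => ?_
    set K := (Subgroup.centralizer (A : Set L)).subgroupOf O with hK
    have hidx : K.index = 1 := by
      by_contra hne
      obtain ⟨p, hp, hd⟩ := Nat.exists_prime_and_dvd hne
      haveI : Fact p.Prime := ⟨hp⟩
      obtain ⟨P, hP⟩ := CfsgLib.coprime_exists_invariant_sylow hSO (coprime_two_odd S.2 hOodd) (Or.inl inferInstance) p
      have hle : (P : Subgroup O) ≤ K := fun y hy => hcon p ⟨hp⟩ P hP ⟨y, hy, rfl⟩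
      exact P.not_dvd_index (hd.trans (Subgroup.index_dvd_of_le hle))
    exact Subgroup.subgroupOf_eq_top.mp (Subgroup.index_eq_one.mp hidx) ho
  set P' := (P : Subgroup O).map O.subtype with hP'
  have hP'O : P' ≤ O := Subgroup.map_subtype_le _
  have hP'a : P' ≤ cc a := hP'O.trans (Subgroup.map_subtype_le _)
  have hPp : IsPGroup p P' := P.2.map _
  obtain ⟨b, hb, hbc⟩ : ∃ b ∈ A, ∃ y ∈ P', b * y ≠ y * b := by
    by_contra hcon
    push Not at hcon
    exact hPc fun y hy b hb => hcon b hb y hy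
  obtain ⟨y0, hy0, hby0⟩ := hbc
  have hb1 : b ≠ 1 := fun e => hby0 (by rw [e, one_mul, mul_one])
  have hba : b ≠ a := fun e => hby0 (by rw [e]; exact (mem_cc.mp (hP'a hy0)).symm)
  have hp2 : p ≠ 2 := by
    rintro rfl
    have h1 : Odd (Nat.card (P : Subgroup O)) := Odd.of_dvd_nat hOodd (Subgroup.card_subgroup_dvd_card _)
    obtain ⟨k, hk⟩ := IsPGroup.iff_card.mp P.2
    rcases Nat.eq_zero_or_pos k with rfl | hk0
    · refine hPc ?_
      have hbot : (P : Subgroup O) = ⊥ := Subgroup.card_eq_one.mp (by rw [hk, pow_zero])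
      rw [hP', hbot, Subgroup.map_bot]
      exact bot_le
    · rw [hk] at h1
      exact (Nat.not_odd_iff_even.mpr (Nat.even_pow.mpr ⟨even_two, hk0.ne'⟩)) h1
  -- the Frattini quotient
  let Φ := frattini ↥P'
  have hexp : ∀ z : ↥P' ⧸ Φ, z ^ p = 1 := fun z => by
    obtain ⟨r, rfl⟩ := QuotientGroup.mk'_surjective _ z
    rw [← map_pow]
    exact (QuotientGroup.eq_one_iff _).mpr (CfsgLib.pow_mem_frattini_pGroup hPp _)
  letI instC : CommGroup (↥P' ⧸ Φ) := { (inferInstance : Group (↥P' ⧸ Φ)) with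
    mul_comm := fun x y => by
      obtain ⟨x, rfl⟩ := QuotientGroup.mk'_surjective _ x
      obtain ⟨y, rfl⟩ := QuotientGroup.mk'_surjective _ y
      rw [← map_mul, ← map_mul]
      refine QuotientGroup.eq.mpr ?_
      have h : ⁅y⁻¹, x⁻¹⁆ ∈ Φ := CfsgLib.commutator_le_frattini_pGroup hPp
        (Subgroup.commutator_mem_commutator (Subgroup.mem_top _) (Subgroup.mem_top _))
      rwa [show (x * y)⁻¹ * (y * x) = ⁅y⁻¹, x⁻¹⁆ by rw [commutatorElement_def]; group] }
  have hz : ∀ z : Additive (↥P' ⧸ Φ), p • z = 0 := fun z => by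
    show Additive.ofMul ((Additive.toMul z) ^ p) = 0
    rw [hexp]; rfl
  letI instM : Module (ZMod p) (Additive (↥P' ⧸ Φ)) :=
    @AddCommGroup.zmodModule p (Additive (↥P' ⧸ Φ)) (@Additive.addCommGroup (↥P' ⧸ Φ) instC) hz
  let cl : ↥P' → Additive (↥P' ⧸ Φ) := fun r => Additive.ofMul (QuotientGroup.mk r)
  have hcl : Function.Surjective cl := fun z => by
    obtain ⟨r, hr⟩ := QuotientGroup.mk'_surjective Φ z.toMul
    exact ⟨r, congrArg Additive.ofMul hr⟩
  have hclmul : ∀ r r', cl (r * r') = cl r + cl r' := fun r r' => rfl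
  have hΦ : ∀ (g : MulAut ↥P'), Φ.map (g : ↥P' ≃* ↥P').toMonoidHom = Φ := fun g =>
    Subgroup.characteristic_iff_map_eq.mp inferInstance g
  let fS : ↥(S : Subgroup L) →* MulAut ↥P' := (Subgroup.normalizerMonoidHom P').comp (Subgroup.inclusion hPS)
  let q : MulAut ↥P' →* MulAut (↥P' ⧸ Φ) :=
    { toFun := fun g => QuotientGroup.congr Φ Φ g (hΦ g)
      map_one' := MulEquiv.ext fun r => QuotientGroup.induction_on r fun _ => rfl
      map_mul' := fun g g' => MulEquiv.ext fun r => QuotientGroup.induction_on r fun _ => rfl }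
  let l : MulAut (↥P' ⧸ Φ) →* Module.End (ZMod p) (Additive (↥P' ⧸ Φ)) := autToEnd p
  let ρ0 : ↥(S : Subgroup L) →* Module.End (ZMod p) (Additive (↥P' ⧸ Φ)) := l.comp (q.comp fS)
  have hconjP : ∀ (s : ↥(S : Subgroup L)) (r : ↥P'), (s : L) * r * (s : L)⁻¹ ∈ P' := fun s r =>
    (Subgroup.mem_normalizer_iff.mp (hPS s.2) (r : L)).mp r.2
  have hρ0 : ∀ s r, ρ0 s (cl r) = cl ⟨(s : L) * r * (s : L)⁻¹, hconjP s r⟩ := fun s r => rfl
  set bS : ↥(S : Subgroup L) := ⟨b, H.le_S hb⟩ with hbS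
  have hbcomm : ∀ s : ↥(S : Subgroup L), ρ0 s * ρ0 bS = ρ0 bS * ρ0 s := fun s => by
    rw [← map_mul, ← map_mul]
    exact congrArg ρ0 (Subtype.ext (H.central s s.2 b hb))
  have hbb : ρ0 bS * ρ0 bS = 1 := by
    rw [← map_mul, show bS * bS = 1 from Subtype.ext (H.sq hb), map_one]
  set N := LinearMap.ker (ρ0 bS + 1) with hN
  have hNmem : ∀ v, v ∈ N ↔ ρ0 bS v = -v := fun v => by
    rw [hN, LinearMap.mem_ker, LinearMap.add_apply, Module.End.one_apply, eq_neg_iff_add_eq_zero]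
  have hinv : ∀ s v, v ∈ N → ρ0 s v ∈ N := fun s v hv => by
    rw [hNmem] at hv ⊢
    rw [← Module.End.mul_apply, ← hbcomm, Module.End.mul_apply, hv, map_neg]
  let ρ : ↥(S : Subgroup L) →* Module.End (ZMod p) ↥N :=
    { toFun := fun s => (ρ0 s).restrict (hinv s)
      map_one' := LinearMap.ext fun v => Subtype.ext (by
        show ρ0 1 (v : Additive (↥P' ⧸ Φ)) = v
        rw [map_one]; rfl)
      map_mul' := fun s t => LinearMap.ext fun v => Subtype.ext (by
        show ρ0 (s * t) (v : Additive (↥P' ⧸ Φ)) = ρ0 s (ρ0 t v)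
        rw [map_mul]; rfl) }
  refine ⟨b, hb, hb1, hba, p, hp, hp2, ↥N, inferInstance, inferInstance, ρ, ?_, ?_, ?_, ?_⟩
  · -- the inverted part is non-trivial
    by_contra hcon
    push Not at hcon
    have hfix : ∀ v, ρ0 bS v = v := fun v => by
      have hmem : ρ0 bS v - v ∈ N := by
        rw [hNmem, map_sub, ← Module.End.mul_apply, hbb, Module.End.one_apply, neg_sub]
      exact sub_eq_zero.mp (congrArg Subtype.val (hcon ⟨_, hmem⟩))
    have h1 : fS bS = 1 := by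
      refine CfsgLib.BaseTwo.aut_trivial_of_mod_frattini hPp ?_ fun r => ?_
      · refine Nat.Coprime.coprime_dvd_left (orderOf_dvd_of_pow_eq_one (n := 2) ?_)
          (Nat.coprime_two_left.mpr (hp.out.odd_of_ne_two hp2))
        rw [← map_pow, show bS ^ 2 = 1 from (pow_two bS).trans (Subtype.ext (H.sq hb)), map_one]
      · exact congrArg Additive.toMul (hfix (cl r))
    have h2 : b * y0 * b⁻¹ = y0 := by
      have h := congrArg Subtype.val (DFunLike.congr_fun h1 (⟨y0, hy0⟩ : ↥P'))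
      exact h
    exact hby0 (mul_inv_eq_iff_eq_mul.mp h2)
  · intro s hs
    refine LinearMap.ext fun v => Subtype.ext ?_
    show ρ0 s (v : Additive (↥P' ⧸ Φ)) = v
    obtain ⟨r, hr⟩ := hcl (v : Additive (↥P' ⧸ Φ))
    rw [← hr, hρ0]
    refine congrArg cl (Subtype.ext ?_)
    show (s : L) * r * (s : L)⁻¹ = r
    rw [hs, ← mem_cc.mp (hP'a r.2), mul_inv_cancel_right]
  · intro s hs
    refine LinearMap.ext fun v => Subtype.ext ?_
    show ρ0 s (v : Additive (↥P' ⧸ Φ)) = -(v : Additive (↥P' ⧸ Φ))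
    rw [show s = bS from Subtype.ext hs]
    exact (hNmem _).mp v.2
  · -- the fixed points of an involution outside `A`
    intro x hx2 hxA
    have hx1 : (x : L) ≠ 1 := fun e => hxA (e ▸ one_mem A)
    obtain ⟨E, hB⟩ := H.blockData x.2 hx1 (H.all_blocked x.2 hx2 hxA)
    have hOx := H.core_le_centralizer x.2 hx2 hxA
    obtain ⟨F, i1, i2, n, hn1, hFc, ⟨eE⟩⟩ := hB.model
    haveI := (⟨hn1, hFc⟩ : ReeTori.QData F n).charP
    set ab : qq (x : L) := ff (x : L) ⟨a, hB.le ha⟩ with hab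
    have habE : ab ∈ E := hB.inner a ha _
    set t := eE ⟨ab, habE⟩ with ht
    have ht1 : t ≠ 1 := fun e => ha1 (H.ff_injective ha (one_mem A) _ (one_mem _) (by
      have h := congrArg Subtype.val (eE.map_eq_one_iff.mp e)
      exact (h : ab = 1).trans (map_one (ff (x : L))).symm))
    have ht2 : t * t = 1 := by
      rw [ht, ← map_mul, ← map_one eE]
      refine congrArg eE (Subtype.ext ?_)
      show ab * ab = 1
      rw [hab, ← map_mul, show (⟨a, hB.le ha⟩ : ↥(cc (x : L))) * ⟨a, hB.le ha⟩ = 1 from Subtype.ext (H.sq ha),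
        map_one]
    set T := (DicksonFull.psl (F := F) 3).T t with hT
    haveI : IsCyclic T := (DicksonFull.psl (F := F) 3).T_cyclic t (ReeTori.invol_SS ht1 ht2)
    -- the subgroup mapping into the torus
    set J : Subgroup ↥(cc (x : L)) :=
      (((T.comap eE.toMonoidHom).map E.subtype).comap (ff (x : L))) ⊓ P'.subgroupOf (cc (x : L)) with hJ
    have hJE : ∀ j : J, ff (x : L) j ∈ E := fun j => by
      obtain ⟨e, -, he⟩ := j.2.1
      exact he ▸ e.2
    have hJT : ∀ j : J, eE ⟨ff (x : L) j, hJE j⟩ ∈ T := fun j => by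
      obtain ⟨e, he, hee⟩ := j.2.1
      have : e = ⟨ff (x : L) j, hJE j⟩ := Subtype.ext hee
      exact this ▸ he
    let θ : J →* T := (eE.toMonoidHom.comp (((ff (x : L)).comp J.subtype).codRestrict E hJE)).codRestrict T hJT
    obtain ⟨gg, hgg⟩ := IsCyclic.exists_generator (α := θ.range)
    obtain ⟨g, hg⟩ := gg.2
    set gP : ↥P' := ⟨((g : ↥(cc (x : L))) : L), g.2.2⟩ with hgP
    have hemem : cl gP - ρ0 bS (cl gP) ∈ N := by
      rw [hNmem, map_sub, ← Module.End.mul_apply, hbb, Module.End.one_apply, neg_sub]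
    refine ⟨⟨_, hemem⟩, fun v hv => ?_⟩
    -- lift the fixed element
    obtain ⟨r, hr⟩ := hcl (v : Additive (↥P' ⧸ Φ))
    set Φ' := Φ.map P'.subtype with hΦ'
    have hΦP : Φ' ≤ P' := Subgroup.map_subtype_le _
    have hxP : Subgroup.zpowers (x : L) ≤ Subgroup.normalizer (P' : Set L) := Subgroup.zpowers_le.mpr (hPS x.2)
    obtain ⟨hxΦ, hPΦ⟩ := CfsgLib.le_normalizer_map_characteristic hxP Φ
    have hfixed : ρ0 x (cl r) = cl r := by rw [hr]; exact congrArg Subtype.val hv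
    obtain ⟨c, hc, hrc⟩ := CfsgLib.coprime_fixed_quotient hxP
      (coprime_two_odd (zpowers_two hx2) (odd_of_le hP'O hOodd)) (Or.inr (solvable_of_odd (odd_of_le hP'O hOodd)))
      hΦP hPΦ hxΦ r.2 (fun z hz => by
        rcases (Subgroup.mem_zpowers_iff.mp hz) with ⟨k, rfl⟩
        have hk : (x : L) ^ k = 1 ∨ (x : L) ^ k = x := by
          rcases Int.even_or_odd k with ⟨l, rfl⟩ | ⟨l, rfl⟩
          · left; rw [← two_mul, zpow_mul, zpow_two, hx2, one_zpow]
          · right; rw [zpow_add_one, zpow_mul, zpow_two, hx2, one_zpow, one_mul]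
        rcases hk with hk | hk <;> rw [hk]
        · rw [one_mul, inv_one, mul_one, mul_inv_cancel]
          exact one_mem _
        · have h := (QuotientGroup.eq (s := Φ)).mp (congrArg Additive.toMul ((hρ0 x r).symm.trans hfixed)).symm
          have h' : (r : ↥P') * (r⁻¹ * ⟨(x : L) * r * (x : L)⁻¹, hconjP x r⟩) * r⁻¹ ∈ Φ :=
            (inferInstance : Φ.Normal).conj_mem _ h r
          rw [show (r : ↥P') * (r⁻¹ * ⟨(x : L) * r * (x : L)⁻¹, hconjP x r⟩) * r⁻¹ =
            ⟨(x : L) * r * (x : L)⁻¹, hconjP x r⟩ * r⁻¹ by group] at h'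
          exact ⟨_, h', rfl⟩)
    have hcx : c ∈ cc (x : L) := mem_cc.mpr (hc.2 (x : L) (Subgroup.mem_zpowers _)).symm
    set cP : ↥P' := ⟨c, hc.1⟩ with hcP
    have hclc : cl cP = (v : Additive (↥P' ⧸ Φ)) := by
      rw [← hr]
      obtain ⟨f, hf, hfe⟩ := hrc
      have he : r⁻¹ * cP = f := Subtype.ext hfe.symm
      exact congrArg Additive.ofMul (QuotientGroup.eq.mpr (he ▸ hf : r⁻¹ * cP ∈ Φ)).symm
    -- the commutator of the lift with `b`
    set w : ↥P' := cP * ⟨b * (cP⁻¹ : ↥P') * b⁻¹, hconjP bS cP⁻¹⟩ with hw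
    have hclw : cl w = 2 • (v : Additive (↥P' ⧸ Φ)) := by
      rw [hw, hclmul, ← hρ0 bS cP⁻¹, show cl cP⁻¹ = - cl cP from rfl, hclc, map_neg, (hNmem _).mp v.2, neg_neg,
        two_nsmul]
    set cb : qq (x : L) := ff (x : L) ⟨c, hcx⟩ with hcb
    have hca : cb * ab = ab * cb := by
      rw [hab, hcb, ← map_mul, ← map_mul]
      exact congrArg _ (Subtype.ext (mem_cc.mp (hP'a hc.1)))
    have hcN : cb ∈ Subgroup.normalizer (E : Set (qq (x : L))) := by
      refine mem_normalizer_of_map_eq ((components_eq_or_commute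
        (isComponent_map_equiv (MulAut.conj cb) hB.comp) hB.comp).resolve_right fun hbot => ha1 ?_)
      refine hB.faithful a ha (hB.le ha) fun e he => ?_
      have ha' : ab ∈ E.map (MulAut.conj cb).toMonoidHom := ⟨ab, habE, by
        show cb * ab * cb⁻¹ = ab
        rw [hca, mul_inv_cancel_right]⟩
      exact (comm_of_commutator_eq_bot hbot ha' he).symm
    have hwcc : (w : L) ∈ cc (x : L) := mul_mem hcx (mul_mem (mul_mem (hB.le hb) (inv_mem hcx)) (inv_mem (hB.le hb)))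
    set bb : qq (x : L) := ff (x : L) ⟨b, hB.le hb⟩ with hbb'
    have hffw : ff (x : L) ⟨w, hwcc⟩ = cb * bb * cb⁻¹ * bb⁻¹ := by
      rw [hcb, hbb', ← map_inv, ← map_inv, ← map_mul, ← map_mul, ← map_mul]
      refine congrArg _ (Subtype.ext ?_)
      show c * (b * c⁻¹ * b⁻¹) = c * b * c⁻¹ * b⁻¹
      group
    have hwE : ff (x : L) ⟨w, hwcc⟩ ∈ E := by
      rw [hffw]
      exact mul_mem ((Subgroup.mem_normalizer_iff.mp hcN bb).mp (hB.inner b hb _)) (inv_mem (hB.inner b hb _))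
    have hwt : eE ⟨ff (x : L) ⟨w, hwcc⟩, hwE⟩ * t = t * eE ⟨ff (x : L) ⟨w, hwcc⟩, hwE⟩ := by
      rw [ht, ← map_mul, ← map_mul]
      refine congrArg eE (Subtype.ext ?_)
      show ff (x : L) ⟨w, hwcc⟩ * ab = ab * ff (x : L) ⟨w, hwcc⟩
      rw [hab, ← map_mul, ← map_mul]
      exact congrArg _ (Subtype.ext (mem_cc.mp (hP'a w.2)))
    have hwodd : Odd (orderOf (eE ⟨ff (x : L) ⟨w, hwcc⟩, hwE⟩)) := by
      rw [MulEquiv.orderOf_eq, ← Subgroup.orderOf_coe]
      refine odd_orderOf_map _ ?_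
      rw [← Subgroup.orderOf_coe]
      exact Odd.of_dvd_nat (odd_of_le hP'O hOodd) (Subgroup.orderOf_dvd_natCard _ w.2)
    have hwJ : (⟨w, hwcc⟩ : ↥(cc (x : L))) ∈ J :=
      ⟨⟨⟨_, hwE⟩, odd_mem_torus (⟨hn1, hFc⟩ : ReeTori.QData F n) ht1 ht2 hwt hwodd, rfl⟩, w.2⟩
    obtain ⟨k, hk⟩ := Subgroup.mem_zpowers_iff.mp (hgg ⟨θ ⟨_, hwJ⟩, ⟨_, rfl⟩⟩)
    set κ : J := (g ^ k)⁻¹ * ⟨_, hwJ⟩ with hκ
    have hκ1 : θ κ = 1 := by
      rw [hκ, map_mul, map_inv, map_zpow, hg,
        show (gg : T) ^ k = θ ⟨_, hwJ⟩ from congrArg Subtype.val hk, inv_mul_cancel]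
    have hκO : ((κ : ↥(cc (x : L))) : L) ∈ centralizerPPrimeCore 2 (x : L) := by
      have h1 : eE ⟨ff (x : L) κ, hJE κ⟩ = 1 := congrArg Subtype.val hκ1
      have h2 : ff (x : L) κ = 1 := congrArg Subtype.val (eE.map_eq_one_iff.mp h1)
      exact ⟨_, (QuotientGroup.eq_one_iff _).mp h2, rfl⟩
    set κP : ↥P' := ⟨((κ : ↥(cc (x : L))) : L), κ.2.2⟩ with hκP
    have hκfix : ρ0 bS (cl κP) = cl κP := by
      rw [hρ0]
      refine congrArg cl (Subtype.ext ?_)
      show b * (κP : L) * b⁻¹ = κP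
      rw [hOx hκO b hb, mul_inv_cancel_right]
    have hsum : cl w = k • cl gP + cl κP := by
      have he : w = gP ^ k * κP := Subtype.ext (by
        show (w : L) = ((gP ^ k : ↥P') : L) * κP
        rw [Subgroup.coe_zpow, hκP, hgP, hκ]
        show (w : L) = (((g : ↥(cc (x : L))) : L)) ^ k * (((g ^ k)⁻¹ * ⟨_, hwJ⟩ : J) : ↥(cc (x : L)))
        push_cast
        group)
      rw [he]
      rfl
    have h4 : (4 : ℕ) • (v : Additive (↥P' ⧸ Φ)) = k • (cl gP - ρ0 bS (cl gP)) := by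
      have h := hclw
      rw [hsum] at h
      have hb' := congrArg (ρ0 bS) h
      rw [map_add, map_zsmul, map_nsmul, hκfix, (hNmem _).mp v.2] at hb'
      rw [zsmul_sub, eq_sub_iff_add_eq]
      calc (4 : ℕ) • (v : Additive (↥P' ⧸ Φ)) + k • ρ0 bS (cl gP)
          = (4 : ℕ) • (v : Additive (↥P' ⧸ Φ)) + (2 • -(v : Additive (↥P' ⧸ Φ)) - cl κP) := by rw [← hb']; abel
        _ = 2 • (v : Additive (↥P' ⧸ Φ)) - cl κP := by abel
        _ = k • cl gP := by rw [← h]; abel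
    have h40 : (4 : ZMod p) ≠ 0 := by
      intro e
      have h : p ∣ 4 := (ZMod.natCast_eq_zero_iff 4 p).mp (by exact_mod_cast e)
      exact hp2 ((Nat.prime_dvd_prime_iff_eq hp.out Nat.prime_two).mp (hp.out.dvd_of_dvd_pow (show p ∣ 2 ^ 2 from h)))
    refine ⟨(4 : ZMod p)⁻¹ * (k : ZMod p), Subtype.ext ?_⟩
    show (v : Additive (↥P' ⧸ Φ)) = ((4 : ZMod p)⁻¹ * (k : ZMod p)) • (cl gP - ρ0 bS (cl gP))
    rw [mul_smul, Int.cast_smul_eq_zsmul, ← h4, ← Nat.cast_smul_eq_nsmul (ZMod p), Nat.cast_ofNat, smul_smul,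
      inv_mul_cancel₀ h40, one_smul]

end FourHyp

end CfsgLib.S3Simple
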